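import Cfsg.Agent.Lib.Sporadic.MonsterFusion.BabyData
import Cfsg.Agent.Lib.Sporadic.ExtraspecialCrit
import Cfsg.Agent.Lib.SmallGroups.LeechEnum

/-!
The centraliser of an involution over a short class is of Baby Monster type modulo that involution.
-/

set_option autoImplicit false

namespace CfsgLib.Sporadic.MonsterFusion

open Cfsg CfsgLib.SmallGroups CfsgLib.ThreeTransp.Extraspecial
open scoped commutatorElement

variable {G : Type*} [Group G] [Finite G] {z : G}

/-- The second group inside the first. -/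
def incCo2 : Spor.Co2 →* Co0 where
  toFun x := ⟨x, x.2.1⟩
  map_one' := rfl
  map_mul' _ _ := rfl

theorem incCo2_smul (x : Spor.Co2) (v : leechLattice) : incCo2 x • v = (x : Equiv.Perm leechLattice) v := rfl

theorem incCo2_fix (x : Spor.Co2) : incCo2 x • Spor.leechU = Spor.leechU := x.2.2

theorem map_incCo2 : incCo2.range = MulAction.stabilizer Co0 Spor.leechU := by
  refine le_antisymm ?_ fun g hg => ?_
  · rintro _ ⟨x, rfl⟩
    exact MulAction.mem_stabilizer_iff.2 (incCo2_fix x)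
  · exact ⟨⟨g, g.2, MulAction.mem_stabilizer_iff.1 hg⟩, rfl⟩

theorem isSimple_Co2 : IsSimpleGroup Spor.Co2 ∧ Nat.card Spor.Co2 = 42305421312000 := by
  obtain ⟨hs, hc⟩ := LeechCo2.isCo2 Spor.leechU sqNorm_U
  let E : Spor.Co2 ≃* MulAction.stabilizer Co0 Spor.leechU :=
    (MonoidHom.ofInjective (f := incCo2) fun a b h => Subtype.ext (congrArg Subtype.val h :)).trans
      (MulEquiv.subgroupCongr map_incCo2)
  exact ⟨E.isSimpleGroup, by rw [Nat.card_congr E.toEquiv, hc]⟩

variable {Q : Subgroup (Subgroup.centralizer ({z} : Set G))} [Q.Normal]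
  {e : (Subgroup.centralizer ({z} : Set G)) ⧸ Q ≃* Spor.Co1}
  {ψ : leechLattice → Q ⧸ Subgroup.center Q}

namespace Frame

set_option maxHeartbeats 1000000 in
theorem main_baby (F : Frame Q e ψ) (t : Q)
    (h2 : orderOf ((t : ↥(Subgroup.centralizer ({z} : Set G))) : G) = 2) (hn : ¬ IsConj z ((t : ↥(Subgroup.centralizer ({z} : Set G))) : G))
    [hnT : ((Subgroup.zpowers ((t : ↥(Subgroup.centralizer ({z} : Set G))) : G)).subgroupOf (Subgroup.centralizer ({((t : ↥(Subgroup.centralizer ({z} : Set G))) : G)} : Set G))).Normal] :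
    IsOfBabyMonsterType (↥(Subgroup.centralizer ({((t : ↥(Subgroup.centralizer ({z} : Set G))) : G)} : Set G)) ⧸
      (Subgroup.zpowers ((t : ↥(Subgroup.centralizer ({z} : Set G))) : G)).subgroupOf (Subgroup.centralizer ({((t : ↥(Subgroup.centralizer ({z} : Set G))) : G)} : Set G))) := by
  classical
  have hcl := F.nonconj_short t h2 hn
  obtain ⟨ht1, htz⟩ := F.rep_ne (Or.inl rfl) hcl
  obtain ⟨v, hv, hr⟩ := hcl
  obtain ⟨g0, hg0⟩ := LeechTransitive.transitive32 Spor.leechU v sqNorm_U hv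
  obtain ⟨gt, hgt, hgtQ, hgtne⟩ := F.exists_fixing h2 hn
  have htt : (t : ↥(Subgroup.centralizer ({z} : Set G))) * t = 1 := (F.sq_iff hr).2 (by rw [hv])
  set tG : G := ((t : ↥(Subgroup.centralizer ({z} : Set G))) : G) with htG
  set GT := Subgroup.centralizer ({tG} : Set G) with hGT
  set N0 := (Subgroup.zpowers tG).subgroupOf GT with hN0
  have htGsq : tG * tG = 1 := congrArg Subtype.val htt
  have hzt : z * tG = tG * z := (Subgroup.mem_centralizer_singleton_iff.1 (t : ↥(Subgroup.centralizer ({z} : Set G))).2).symm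
  have hzGT : z ∈ GT := Subgroup.mem_centralizer_singleton_iff.2 hzt
  set π := QuotientGroup.mk' N0 with hπ
  set zb := π ⟨z, hzGT⟩ with hzb
  have hker : ∀ x : GT, π x = 1 ↔ (x : G) = 1 ∨ (x : G) = tG := fun x => by
    rw [hπ, QuotientGroup.mk'_apply, QuotientGroup.eq_one_iff, hN0, Subgroup.mem_subgroupOf]
    exact mem_zpowers_involution htGsq
  have hinv : ∀ {a : G}, a = 1 ∨ a = tG → a⁻¹ = a := by
    rintro a (rfl | rfl)
    · exact inv_one
    · exact inv_eq_of_mul_eq_one_right htGsq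
  have hztz : ¬ IsConj z (z * tG) := fun hc => by
    obtain ⟨q, hq, hqt⟩ := F.extra.exists_conj_eq t.2 ht1 htz
    refine hn (hc.trans (IsConj.symm (isConj_iff.2 ⟨(q : G), ?_⟩)))
    rw [hzt]
    exact congrArg Subtype.val hqt
  -- the map onto the centraliser in the quotient
  set Ht := Subgroup.centralizer ({(t : ↥(Subgroup.centralizer ({z} : Set G)))} : Set ↥(Subgroup.centralizer ({z} : Set G))) with hHt
  have hmemHt : ∀ h : ↥(Subgroup.centralizer ({z} : Set G)), h ∈ Ht ↔ h * t = t * h := fun h => Subgroup.mem_centralizer_singleton_iff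
  set D := Subgroup.centralizer ({zb} : Set (GT ⧸ N0)) with hD
  have hGTmem : ∀ h : Ht, ((h : ↥(Subgroup.centralizer ({z} : Set G))) : G) ∈ GT := fun h =>
    Subgroup.mem_centralizer_singleton_iff.2 (congrArg Subtype.val ((hmemHt h).1 h.2))
  set ι : Ht →* D := MonoidHom.mk' (fun h => ⟨π ⟨((h : ↥(Subgroup.centralizer ({z} : Set G))) : G), hGTmem h⟩,
      Subgroup.mem_centralizer_singleton_iff.2 (by
        rw [hzb, ← map_mul, ← map_mul]
        exact congrArg π (Subtype.ext (Subgroup.mem_centralizer_singleton_iff.1 (h : ↥(Subgroup.centralizer ({z} : Set G))).2)))⟩)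
    fun a b => Subtype.ext (by simp only [Subgroup.coe_mul, ← map_mul]; rfl) with hι
  have hιker : ∀ h : Ht, ι h = 1 ↔ (h : ↥(Subgroup.centralizer ({z} : Set G))) = 1 ∨ (h : ↥(Subgroup.centralizer ({z} : Set G))) = t := fun h => by
    rw [Subtype.ext_iff, hι, MonoidHom.mk'_apply, Subgroup.coe_one, hker]
    exact or_congr ⟨fun r => Subtype.ext r, fun r => congrArg Subtype.val r⟩
      ⟨fun r => Subtype.ext r, fun r => congrArg Subtype.val r⟩
  have hιeq : ∀ a b : Ht, ι a = ι b ↔ (a : ↥(Subgroup.centralizer ({z} : Set G)))⁻¹ * b = 1 ∨ (a : ↥(Subgroup.centralizer ({z} : Set G)))⁻¹ * b = t := fun a b => by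
    rw [← inv_mul_eq_one, ← map_inv, ← map_mul, hιker]
    rfl
  have hιsurj : Function.Surjective ι := by
    rintro ⟨x, hx⟩
    obtain ⟨a, rfl⟩ := QuotientGroup.mk'_surjective N0 x
    have hx' := Subgroup.mem_centralizer_singleton_iff.1 hx
    rw [hzb, ← map_mul, ← map_mul, ← inv_mul_eq_one, ← map_inv, ← map_mul, hker] at hx'
    have haz : (a : G) * z = z * a := by
      rcases hx' with h | h
      · exact inv_mul_eq_one.1 h
      · refine absurd (isConj_iff.2 ⟨(a : G), ?_⟩) hztz
        simp only [Subgroup.coe_mul, Subgroup.coe_inv] at h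
        have h' : z * (a : G) = a * z * tG := inv_mul_eq_iff_eq_mul.1 h
        have hat : (a : G) * tG = tG * a := Subgroup.mem_centralizer_singleton_iff.1 a.2
        calc (a : G) * z * (a : G)⁻¹ = a * z * tG * tG * (a : G)⁻¹ := by rw [mul_assoc _ tG tG, htGsq, mul_one]
          _ = z * a * tG * (a : G)⁻¹ := by rw [h']
          _ = z * tG := by rw [mul_assoc z, hat, ← mul_assoc, mul_inv_cancel_right]
    have haC : (a : G) ∈ Subgroup.centralizer ({z} : Set G) := Subgroup.mem_centralizer_singleton_iff.2 haz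
    refine ⟨⟨⟨a, haC⟩, (hmemHt _).2 (Subtype.ext (Subgroup.mem_centralizer_singleton_iff.1 a.2))⟩, ?_⟩
    exact Subtype.ext rfl
  -- the map onto the second group
  set f2 : Spor.Co2 →* Spor.Co1 := (MulAut.conj (pj g0)).toMonoidHom.comp (pj.comp incCo2) with hf2
  have hf2a : ∀ x, f2 x = pj (g0 * incCo2 x * g0⁻¹) := fun x => by simp [hf2]
  have hf2inj : Function.Injective f2 := by
    intro a b hab
    have h := (short_simple sqNorm_U).2.2 (a₁ := ⟨incCo2 a, MulAction.mem_stabilizer_iff.2 (incCo2_fix a)⟩)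
      (a₂ := ⟨incCo2 b, MulAction.mem_stabilizer_iff.2 (incCo2_fix b)⟩)
      ((MulAut.conj (pj g0)).injective hab)
    exact Subtype.ext (congrArg (fun g : MulAction.stabilizer Co0 Spor.leechU =>
      ((g : Co0) : Equiv.Perm leechLattice)) h :)
  have hfix : ∀ x : Spor.Co2, (g0 * incCo2 x * g0⁻¹) • v = v := fun x => by
    rw [← hg0, smul_smul, inv_mul_cancel_right, mul_smul, incCo2_fix]
  have hrange : ∀ x : Spor.Co1, (∃ h : Ht, e (QuotientGroup.mk (h : ↥(Subgroup.centralizer ({z} : Set G)))) = x) ↔ x ∈ f2.range := by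
    intro x
    constructor
    · rintro ⟨h, rfl⟩
      obtain ⟨g, hg, hc⟩ := (F.stab_iff hr ht1 htz _).1 ⟨(h : ↥(Subgroup.centralizer ({z} : Set G))), rfl, (hmemHt _).1 h.2⟩
      obtain ⟨k, hk, hk'⟩ := Subgroup.mem_map.1 ((short_image hv _).1 ⟨g, hg, hc⟩)
      have hk2 : g0⁻¹ * k * g0 ∈ incCo2.range := by
        rw [map_incCo2, MulAction.mem_stabilizer_iff, mul_smul, mul_smul, hg0,
          MulAction.mem_stabilizer_iff.1 hk, ← hg0, inv_smul_smul]
      obtain ⟨y, hy⟩ := hk2
      exact ⟨y, by rw [hf2a, hy, ← hk']; congr 1; group⟩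
    · rintro ⟨y, rfl⟩
      obtain ⟨h, hh, hh'⟩ := (F.stab_iff hr ht1 htz (e.symm (f2 y))).2
        ⟨g0 * incCo2 y * g0⁻¹, by rw [e.apply_symm_apply, hf2a],
          ⟨0, by rw [hfix, add_zero, add_zero]⟩⟩
      exact ⟨⟨h, (hmemHt h).2 hh'⟩, by show e (QuotientGroup.mk h) = _; rw [hh, e.apply_symm_apply]⟩
  set j := MonoidHom.ofInjective hf2inj with hj
  set ρ : Ht →* Spor.Co2 := j.symm.toMonoidHom.comp
    ((e.toMonoidHom.comp ((QuotientGroup.mk' Q).comp Ht.subtype)).codRestrict f2.range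
      fun h => (hrange _).1 ⟨h, rfl⟩) with hρ
  have hρspec : ∀ h : Ht, f2 (ρ h) = e (QuotientGroup.mk (h : ↥(Subgroup.centralizer ({z} : Set G)))) := fun h =>
    congrArg Subtype.val (j.apply_symm_apply _)
  have hρker : ∀ h : Ht, ρ h = 1 ↔ (h : ↥(Subgroup.centralizer ({z} : Set G))) ∈ Q := fun h => by
    rw [← QuotientGroup.eq_one_iff (h : ↥(Subgroup.centralizer ({z} : Set G))), ← EmbeddingLike.map_eq_one_iff (f := e), ← hρspec,
      ← map_one f2, hf2inj.eq_iff]
  have hρι : ι.ker ≤ ρ.ker := fun h hh => by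
    rw [MonoidHom.mem_ker, hρker]
    rcases (hιker h).1 hh with r | r <;> rw [r]
    exacts [one_mem Q, t.2]
  set ρ' : D →* Spor.Co2 := ι.liftOfSurjective hιsurj ⟨ρ, hρι⟩ with hρ'
  have hρ'ι : ∀ h, ρ' (ι h) = ρ h := fun h =>
    MonoidHom.liftOfRightInverse_comp_apply ι _ _ ⟨ρ, hρι⟩ h
  have hρsurj : Function.Surjective ρ := fun y => by
    obtain ⟨h, hh⟩ := (hrange (f2 y)).2 ⟨y, rfl⟩
    exact ⟨h, hf2inj ((hρspec h).trans hh)⟩
  have hρ'surj : Function.Surjective ρ' := fun y => by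
    obtain ⟨h, rfl⟩ := hρsurj y
    exact ⟨ι h, hρ'ι h⟩
  set R := ρ'.ker with hR
  -- the kernel
  have hmemR : ∀ h : Ht, ι h ∈ R ↔ (h : ↥(Subgroup.centralizer ({z} : Set G))) ∈ Q := fun h => by
    rw [hR, MonoidHom.mem_ker, hρ'ι, hρker]
  set B := Q.subgroupOf Ht with hB
  set χ : B →* R := (ι.comp B.subtype).codRestrict R (fun b => (hmemR b).2 b.2) with hχ
  have hχval : ∀ b : B, (χ b : D) = ι b := fun b => rfl
  have hχsurj : Function.Surjective χ := by
    rintro ⟨x, hx⟩
    obtain ⟨h, rfl⟩ := hιsurj x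
    exact ⟨⟨h, (hmemR h).1 hx⟩, rfl⟩
  have hχker : ∀ b : B, χ b = 1 ↔ ((b : Ht) : ↥(Subgroup.centralizer ({z} : Set G))) = 1 ∨ ((b : Ht) : ↥(Subgroup.centralizer ({z} : Set G))) = t := fun b => by
    rw [Subtype.ext_iff, hχval, OneMemClass.coe_one, hιker]
  have hχeq : ∀ a b : B, χ a = χ b ↔
      ((a : Ht) : ↥(Subgroup.centralizer ({z} : Set G)))⁻¹ * (b : Ht) = 1 ∨ ((a : Ht) : ↥(Subgroup.centralizer ({z} : Set G)))⁻¹ * (b : Ht) = t := fun a b => by
    rw [Subtype.ext_iff, hχval, hχval, hιeq]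
  have htB : (t : ↥(Subgroup.centralizer ({z} : Set G))) * t = t * t := rfl
  let zB : B := ⟨⟨zC z, (hmemHt _).2 (F.extra.z_comm t.2)⟩, F.extra.z_mem⟩
  let tB : B := ⟨⟨t, (hmemHt _).2 rfl⟩, t.2⟩
  have hcQ : ∀ b : B, ((b : Ht) : ↥(Subgroup.centralizer ({z} : Set G))) * t = t * (b : Ht) := fun b => (hmemHt _).1 (b : Ht).2
  have hBQ : ∀ b : B, ((b : Ht) : ↥(Subgroup.centralizer ({z} : Set G))) ∈ Q := fun b => b.2
  set zR := χ zB with hzR
  have hzRne : zR ≠ 1 := fun h => by
    rcases (hχker zB).1 h with r | r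
    · exact F.extra.z_ne r
    · exact htz r.symm
  -- centre of the kernel
  have hcen : ∀ a : B, χ a ∈ Subgroup.center R ↔ χ a = 1 ∨ χ a = zR := by
    intro a
    constructor
    · intro ha
      have hcomm : ∀ b : B, ((a : Ht) : ↥(Subgroup.centralizer ({z} : Set G))) * (b : Ht) = (b : Ht) * (a : Ht) := by
        intro b
        have h1 := (Subgroup.mem_center_iff.1 ha (χ b)).symm
        rw [← map_mul, ← map_mul, hχeq] at h1
        rcases F.extra.conj_cases (hBQ b) (hBQ a) with r | r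
        · exact mul_inv_eq_iff_eq_mul.1 r
        · exfalso
          have r1 := mul_inv_eq_iff_eq_mul.1 r
          have r2 : (((a * b : B) : Ht) : ↥(Subgroup.centralizer ({z} : Set G)))⁻¹ * ((b * a : B) : Ht) = zC z := by
            show (((a : Ht) : ↥(Subgroup.centralizer ({z} : Set G))) * (b : Ht))⁻¹ * (((b : Ht) : ↥(Subgroup.centralizer ({z} : Set G))) * (a : Ht)) = zC z
            rw [r1, mul_assoc _ (zC z), F.extra.z_comm (hBQ a)]
            group
            simp [F.extra.inv_z]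
          rw [r2] at h1
          exact h1.elim F.extra.z_ne fun r3 => htz r3.symm
      obtain ⟨q, hq, hqt⟩ := F.extra.exists_conj_eq t.2 ht1 htz
      have key : ∀ a' : B, (∀ b : B, ((a' : Ht) : ↥(Subgroup.centralizer ({z} : Set G))) * (b : Ht) = (b : Ht) * (a' : Ht)) →
          ((a' : Ht) : ↥(Subgroup.centralizer ({z} : Set G))) * q = q * (a' : Ht) → ((a' : Ht) : ↥(Subgroup.centralizer ({z} : Set G))) = 1 ∨ ((a' : Ht) : ↥(Subgroup.centralizer ({z} : Set G))) = zC z := by
        intro a' hc hq'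
        refine F.extra.mem_center_cases (hBQ a') fun x hx => ?_
        rcases F.extra.conj_cases t.2 hx with r | r
        · exact hc ⟨⟨x, (hmemHt x).2 (mul_inv_eq_iff_eq_mul.1 r)⟩, hx⟩
        · have h1 : q⁻¹ * x * t = t * (q⁻¹ * x) := by
            calc q⁻¹ * x * t = q⁻¹ * (x * t * x⁻¹) * x := by group
              _ = q⁻¹ * (q * t * q⁻¹) * x := by rw [r, hqt]
              _ = t * (q⁻¹ * x) := by group
          have h3 := hc ⟨⟨q⁻¹ * x, (hmemHt _).2 h1⟩, mul_mem (inv_mem hq) hx⟩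
          calc ((a' : Ht) : ↥(Subgroup.centralizer ({z} : Set G))) * x = ((a' : Ht) : ↥(Subgroup.centralizer ({z} : Set G))) * q * (q⁻¹ * x) := by group
            _ = q * (((a' : Ht) : ↥(Subgroup.centralizer ({z} : Set G))) * (q⁻¹ * x)) := by rw [hq', mul_assoc]
            _ = x * (a' : Ht) := by rw [h3]; group
      by_cases hq' : ((a : Ht) : ↥(Subgroup.centralizer ({z} : Set G))) * q = q * (a : Ht)
      · rcases key a hcomm hq' with r | r
        · exact Or.inl ((hχker a).2 (Or.inl r))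
        · exact Or.inr ((hχeq a zB).2 (Or.inl (by
            show ((a : Ht) : ↥(Subgroup.centralizer ({z} : Set G)))⁻¹ * zC z = 1
            rw [r, inv_mul_cancel])))
      · have r1 := F.extra.conj_eq_of_not_comm (hBQ a) hq (Ne.symm hq')
        have hta : ((tB * a : B) : Ht).1 * q = q * ((tB * a : B) : Ht).1 := by
          show (t : ↥(Subgroup.centralizer ({z} : Set G))) * (a : Ht) * q = q * ((t : ↥(Subgroup.centralizer ({z} : Set G))) * (a : Ht))
          symm
          rw [← mul_inv_eq_iff_eq_mul, ← conj_mul, hqt, r1]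
          calc (t : ↥(Subgroup.centralizer ({z} : Set G))) * zC z * (((a : Ht) : ↥(Subgroup.centralizer ({z} : Set G))) * zC z) = t * (zC z * (a : Ht)) * zC z := by group
            _ = t * (a : Ht) * (zC z * zC z) := by rw [F.extra.z_comm (hBQ a)]; group
            _ = t * (a : Ht) := by rw [F.extra.z_sq, mul_one]
        rcases key (tB * a) (fun b => by
            show (t : ↥(Subgroup.centralizer ({z} : Set G))) * (a : Ht) * (b : Ht) = (b : Ht) * ((t : ↥(Subgroup.centralizer ({z} : Set G))) * (a : Ht))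
            rw [mul_assoc, hcomm b, ← mul_assoc, ← hcQ b, mul_assoc]) hta with r | r
        · refine Or.inl ((hχker a).2 (Or.inr ?_))
          have r' : (t : ↥(Subgroup.centralizer ({z} : Set G))) * (a : Ht) = 1 := r
          rw [← inv_eq_of_mul_eq_one_right htt]
          exact eq_inv_of_mul_eq_one_right r'
        · refine Or.inr ((hχeq a zB).2 (Or.inr ?_))
          have r' : (t : ↥(Subgroup.centralizer ({z} : Set G))) * (a : Ht) = zC z := r
          show ((a : Ht) : ↥(Subgroup.centralizer ({z} : Set G)))⁻¹ * zC z = t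
          rw [← r', ← hcQ a, inv_mul_cancel_left]
    · intro h
      rcases h with h | h <;> rw [h]
      · exact one_mem _
      · refine Subgroup.mem_center_iff.2 fun r => ?_
        obtain ⟨b, rfl⟩ := hχsurj r
        rw [hzR, ← map_mul, ← map_mul]
        exact congrArg χ (Subtype.ext (Subtype.ext (F.extra.z_comm (hBQ b)).symm))
  have hRcard : Nat.card R = 2 ^ (2 * 11 + 1) := by
    have h := card_map_mul' χ ⊤
    rw [← MonoidHom.range_eq_map, MonoidHom.range_eq_top.2 hχsurj, inf_top_eq, Subgroup.card_top,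
      Subgroup.card_top] at h
    have hk : Nat.card χ.ker = 2 := by
      rw [Nat.card_eq_two_iff]
      refine ⟨⟨1, one_mem _⟩, ⟨tB, (hχker tB).2 (Or.inr rfl)⟩, fun h' => ht1 ?_, ?_⟩
      · exact (congrArg (fun b : χ.ker => (((b : B) : Ht) : ↥(Subgroup.centralizer ({z} : Set G)))) h').symm
      · refine Set.eq_univ_of_forall fun b => ?_
        rcases (hχker b).1 b.2 with r | r
        · exact Or.inl (Subtype.ext (Subtype.ext (Subtype.ext r)))
        · exact Or.inr (Subtype.ext (Subtype.ext (Subtype.ext r)))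
    have hc : Nat.card B = 2 ^ (2 * 12) := by
      rw [← F.settingC.card_inf t.2 ht1 htz htt, hB, ← Subgroup.inf_subgroupOf_right]
      exact Nat.card_congr (Subgroup.subgroupOfEquivOfLe inf_le_right).toEquiv
    rw [hk, hc] at h
    omega
  have hRp : IsPGroup 2 R := IsPGroup.of_card hRcard
  have hzRc : zR ∈ Subgroup.center R := (hcen zB).2 (Or.inr rfl)
  have hRext : IsExtraspecial 2 R := by
    refine ExtraspecialCrit.isExtraspecial hRp zR hzRne hzRc (fun a b => ?_) (fun a => ?_)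
      (fun a ha => ?_) ?_
    · obtain ⟨a, rfl⟩ := hχsurj a
      obtain ⟨b, rfl⟩ := hχsurj b
      rcases F.extra.conj_cases (hBQ b) (hBQ a) with r | r
      · left
        rw [← map_commutatorElement, hχker]
        left
        show ⁅((a : Ht) : ↥(Subgroup.centralizer ({z} : Set G))), ((b : Ht) : ↥(Subgroup.centralizer ({z} : Set G)))⁆ = 1
        rw [commutatorElement_def, r, mul_inv_cancel]
      · right
        rw [← map_commutatorElement, hzR]
        congr 1
        refine Subtype.ext (Subtype.ext ?_)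
        show ⁅((a : Ht) : ↥(Subgroup.centralizer ({z} : Set G))), ((b : Ht) : ↥(Subgroup.centralizer ({z} : Set G)))⁆ = zC z
        rw [commutatorElement_def, r, ← F.extra.z_comm (hBQ b), mul_inv_cancel_right]
    · obtain ⟨a, rfl⟩ := hχsurj a
      rcases F.extra.sq_cases (hBQ a) with r | r
      · left; rw [← map_mul, hχker]; exact Or.inl r
      · right; rw [← map_mul, hzR]; exact congrArg χ (Subtype.ext (Subtype.ext r))
    · obtain ⟨a, rfl⟩ := hχsurj a
      exact (hcen a).1 ha
    · obtain ⟨b, hb, c, hc, hbt, hct, hbc⟩ := ThreeTransp.LargePair.nonabelian_centralizer F.extra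
        (w := 12) (by norm_num) F.core.2.2.2.1 t.2 ht1 htt htz
      refine ⟨χ ⟨⟨b, (hmemHt b).2 hbt⟩, hb⟩, χ ⟨⟨c, (hmemHt c).2 hct⟩, hc⟩, fun hcm => ?_⟩
      have r := F.extra.conj_eq_of_not_comm hc hb hbc
      have r2 : χ ⁅(⟨⟨b, (hmemHt b).2 hbt⟩, hb⟩ : B), ⟨⟨c, (hmemHt c).2 hct⟩, hc⟩⁆ = 1 := by
        rw [map_commutatorElement]
        exact commutatorElement_eq_one_iff_commute.2 hcm
      rcases (hχker _).1 r2 with r3 | r3 <;>
        simp only [commutatorElement_def, Subgroup.coe_mul, Subgroup.coe_inv] at r3 <;>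
        rw [r, ← F.extra.z_comm hc, mul_inv_cancel_right] at r3
      · exact F.extra.z_ne r3
      · exact htz r3.symm
  -- lifts
  have hperp : ∀ {x : leechLattice} {q : Q}, Rep ψ (g0 • x) q →
      (((q : ↥(Subgroup.centralizer ({z} : Set G))) * t = t * q) ↔ (16 : ℤ) ∣ dotInt (x : GolayPt → ℤ) Spor.vecU) := by
    intro x q hq
    rw [F.comm_iff hq hr, ← hg0, LeechEnum.dot_smul]
    rfl
  have hlift : ∀ x : leechPerpU, ∃ b : B, Rep ψ (g0 • (x : leechLattice)) ⟨((b : Ht) : ↥(Subgroup.centralizer ({z} : Set G))), b.2⟩ := by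
    intro x
    obtain ⟨q, hq⟩ := exists_rep (ψ := ψ) (g0 • (x : leechLattice))
    exact ⟨⟨⟨(q : ↥(Subgroup.centralizer ({z} : Set G))), (hmemHt _).2 ((hperp hq).2 x.2)⟩, q.2⟩, hq⟩
  choose lift hlift using hlift
  have hsame : ∀ {x y : leechLattice} {a b : B}, Rep ψ x ⟨((a : Ht) : ↥(Subgroup.centralizer ({z} : Set G))), a.2⟩ →
      Rep ψ y ⟨((b : Ht) : ↥(Subgroup.centralizer ({z} : Set G))), b.2⟩ →
      ((QuotientGroup.mk (χ a) : R ⧸ Subgroup.center R) = QuotientGroup.mk (χ b) ↔
        Cong y x ∨ Cong y (x + v)) := by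
    intro x y a b ha hb
    rw [QuotientGroup.eq, ← map_inv, ← map_mul, hcen]
    constructor
    · intro h
      have hd : (⟨((b : Ht) : ↥(Subgroup.centralizer ({z} : Set G))), b.2⟩ : Q) = ⟨((a : Ht) : ↥(Subgroup.centralizer ({z} : Set G))), a.2⟩ * ⟨(((a⁻¹ * b : B) : Ht) : ↥(Subgroup.centralizer ({z} : Set G))), (a⁻¹ * b).2⟩ :=
        Subtype.ext (by simp)
      have hd1 : ∀ c : Q, c = ⟨((((a⁻¹ * b : B) : Ht)) : ↥(Subgroup.centralizer ({z} : Set G))), (a⁻¹ * b).2⟩ →
          ψ y = QuotientGroup.mk (⟨((a : Ht) : ↥(Subgroup.centralizer ({z} : Set G))), a.2⟩ : Q) * QuotientGroup.mk c := fun c hc => by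
        rw [hb, hd, QuotientGroup.mk_mul, hc]
      rcases h with h | h
      · rcases (hχker _).1 h with r | r
        · left
          exact F.psi_eq_iff.1 ((hd1 1 (Subtype.ext r.symm)).trans (by rw [QuotientGroup.mk_one, mul_one]; exact ha.symm))
        · right
          exact F.psi_eq_iff.1 ((hd1 t (Subtype.ext r.symm)).trans (F.rep_mul ha hr).symm)
      · rw [hzR, hχeq] at h
        have hzQ : (⟨zC z, F.extra.z_mem⟩ : Q) ∈ Subgroup.center Q := F.center_iff.2 (Or.inr rfl)
        rcases h with r | r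
        · left
          have r' := inv_mul_eq_one.1 r
          exact F.psi_eq_iff.1 ((hd1 ⟨zC z, F.extra.z_mem⟩ (Subtype.ext r'.symm)).trans
            (by rw [(QuotientGroup.eq_one_iff _).2 hzQ, mul_one]; exact ha.symm))
        · right
          have r' := inv_mul_eq_iff_eq_mul.1 r
          refine F.psi_eq_iff.1 ((hd1 (⟨zC z, F.extra.z_mem⟩ * t) (Subtype.ext ?_)).trans ?_)
          · show zC z * (t : ↥(Subgroup.centralizer ({z} : Set G))) = (((a⁻¹ * b : B) : Ht) : ↥(Subgroup.centralizer ({z} : Set G)))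
            rw [show zC z = (((a⁻¹ * b : B) : Ht) : ↥(Subgroup.centralizer ({z} : Set G))) * t from r', mul_assoc, htt, mul_one]
          · rw [QuotientGroup.mk_mul, (QuotientGroup.eq_one_iff _).2 hzQ, one_mul]
            exact (F.rep_mul ha hr).symm
    · intro h
      have hval : (((a⁻¹ * b : B) : Ht) : ↥(Subgroup.centralizer ({z} : Set G))) = ((a : Ht) : ↥(Subgroup.centralizer ({z} : Set G)))⁻¹ * (b : Ht) := rfl
      rcases h with h | h
      · rcases F.rep_unique ha ((F.psi_eq_iff.2 h).symm.trans hb) with r | r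
        · refine Or.inl ((hχker _).2 (Or.inl ?_))
          rw [hval]
          exact inv_mul_eq_one.2 r.symm
        · refine Or.inr ((hχeq _ zB).2 (Or.inl ?_))
          show (((a⁻¹ * b : B) : Ht) : ↥(Subgroup.centralizer ({z} : Set G)))⁻¹ * zC z = 1
          rw [hval, show ((b : Ht) : ↥(Subgroup.centralizer ({z} : Set G))) = (a : Ht) * zC z from r, inv_mul_cancel_left, inv_mul_cancel]
      · rcases F.rep_unique (F.rep_mul ha hr) ((F.psi_eq_iff.2 h).symm.trans hb) with r | r
        · refine Or.inl ((hχker _).2 (Or.inr ?_))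
          rw [hval, show ((b : Ht) : ↥(Subgroup.centralizer ({z} : Set G))) = (a : Ht) * t from r, inv_mul_cancel_left]
        · refine Or.inr ((hχeq _ zB).2 (Or.inr ?_))
          show (((a⁻¹ * b : B) : Ht) : ↥(Subgroup.centralizer ({z} : Set G)))⁻¹ * zC z = t
          rw [hval, show ((b : Ht) : ↥(Subgroup.centralizer ({z} : Set G))) = (a : Ht) * t * zC z from r, mul_assoc, inv_mul_cancel_left,
            mul_inv_rev, F.extra.inv_z, mul_assoc, inv_eq_of_mul_eq_one_right htt,
            ← F.extra.z_comm t.2, ← mul_assoc, F.extra.z_sq, one_mul]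
  -- the generalised Fitting subgroup
  obtain ⟨hsimp, hcard2⟩ := isSimple_Co2
  have hcentle : Subgroup.centralizer (R : Set D) ≤ R := by
    have : (Subgroup.centralizer (R : Set D)).Normal := inferInstance
    have hm := Subgroup.Normal.map (f := ρ') (H := Subgroup.centralizer (R : Set D)) inferInstance hρ'surj
    rcases hm.eq_bot_or_eq_top with h | h
    · exact (Subgroup.map_eq_bot_iff _).1 h
    exfalso
    set x1 : Spor.Co2 := ⟨((epsC : Co0) : Equiv.Perm leechLattice), (epsC : Co0).2, epsC_U⟩ with hx1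
    obtain ⟨d, hd, hde⟩ := (h ▸ Subgroup.mem_top x1 : x1 ∈ (Subgroup.centralizer (R : Set D)).map ρ')
    obtain ⟨k, rfl⟩ := hιsurj d
    rw [hρ'ι] at hde
    have hk : pj (g0 * incCo2 x1 * g0⁻¹) = e (QuotientGroup.mk (k : ↥(Subgroup.centralizer ({z} : Set G)))) := by
      rw [← hf2a, ← hde, hρspec]
    set b := lift ⟨octC, octC_perp⟩
    have hb := hlift ⟨octC, octC_perp⟩
    have hb' := F.rep_smul hk hb
    rw [smul_smul, inv_mul_cancel_right, mul_smul] at hb'
    have hkb : (k : ↥(Subgroup.centralizer ({z} : Set G))) * ((b : Ht) : ↥(Subgroup.centralizer ({z} : Set G))) * (k : ↥(Subgroup.centralizer ({z} : Set G)))⁻¹ ∈ Q :=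
      (inferInstance : Q.Normal).conj_mem _ b.2 _
    let b' : B := ⟨k * (b : Ht) * k⁻¹, hkb⟩
    have hcm := Subgroup.mem_centralizer_iff.1 hd (ι b) (χ b).2
    have hbb : χ b' = χ b := by
      refine Subtype.ext ?_
      show ι (k * (b : Ht) * k⁻¹) = ι b
      rw [map_mul, map_mul, map_inv, ← hcm, mul_inv_cancel_right]
    rcases (hsame (a := b') (b := b) hb' hb).1 (by rw [hbb]) with h' | h'
    · obtain ⟨y, hy⟩ := cong_smul g0⁻¹ h'
      rw [inv_smul_smul, inv_smul_smul] at hy
      simp only at hy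
      exact octC_moved.1 ⟨-y, (eq_sub_of_add_eq hy.symm).trans (by abel)⟩
    · obtain ⟨y, hy⟩ := cong_smul g0⁻¹ h'
      rw [ThreeTransp.LeechForm.smul_add', inv_smul_smul, inv_smul_smul, ← hg0, inv_smul_smul] at hy
      simp only at hy
      exact octC_moved.2 ⟨-(y + Spor.leechU), (eq_sub_of_add_eq ((add_assoc _ _ _).symm.trans hy.symm)).trans (by abel)⟩
  have hFit : generalizedFittingSubgroup D = R := by
    refine le_antisymm (Components.generalizedFitting_le_of_centralizer_le R ?_ hcentle) ?_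
    · have hm := Subgroup.Normal.map (f := ρ') (H := fittingSubgroup D) inferInstance hρ'surj
      rcases hm.eq_bot_or_eq_top with h | h
      · exact (Subgroup.map_eq_bot_iff _).1 h
      exfalso
      have : Group.IsNilpotent ↥((fittingSubgroup D).map ρ') :=
        Group.nilpotent_of_surjective _ (MonoidHom.subgroupMap_surjective ρ' _)
      have : Group.IsNilpotent Spor.Co2 := by
        rw [h] at *
        exact Group.nilpotent_of_mulEquiv (Subgroup.topEquiv (G := Spor.Co2))
      have : Group.IsSolvable Spor.Co2 := inferInstance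
      let : CommGroup Spor.Co2 := { (inferInstance : Group Spor.Co2) with mul_comm := IsSimpleGroup.comm_iff_isSolvable.2 inferInstance }
      have hp := IsSimpleGroup.prime_card (α := Spor.Co2)
      rw [hcard2] at hp
      norm_num at hp
    · have : Fact (Nat.Prime 2) := ⟨Nat.prime_two⟩
      have : Group.IsNilpotent R := hRp.isNilpotent
      exact (Solvable.Cores.le_fittingSubgroup inferInstance).trans
        Components.fittingSubgroup_le_generalizedFittingSubgroup
  -- conclusion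
  refine ⟨zb, R, inferInstance, ⟨?_, hFit, hRext, hRcard, ?_⟩,
    QuotientGroup.quotientKerEquivOfSurjective ρ' hρ'surj,
    fun x => QuotientGroup.mk (χ (lift x)), ?_, ?_, ?_, ?_⟩
  · refine orderOf_eq_prime ?_ fun h => ?_
    · rw [hzb, pow_two, ← map_mul, hker]
      exact Or.inl F.setting.ext.z_sq
    · rcases (hker _).1 h with r | r
      · exact F.setting.ext.z_ne r
      · exact hn (r ▸ IsConj.refl z)
  · have hgG : gt ∈ GT := Subgroup.mem_centralizer_singleton_iff.2 hgt
    obtain ⟨s, hsQ, hs⟩ := hgtQ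
    have hsG : (s : G) = gt * z * gt⁻¹ := hs
    have hst : s * t = t * s := Subtype.ext (by
      show (s : G) * tG = tG * s
      rw [hsG]
      have hg' : gt⁻¹ * tG = tG * gt⁻¹ := (Commute.inv_left hgt).eq
      calc gt * z * gt⁻¹ * tG = gt * (z * tG) * gt⁻¹ := by rw [mul_assoc _ gt⁻¹, hg']; group
        _ = gt * tG * (z * gt⁻¹) := by rw [hzt]; group
        _ = tG * (gt * z * gt⁻¹) := by rw [hgt]; group)
    refine ⟨π ⟨gt, hgG⟩, ?_, ?_⟩
    · have he : π ⟨gt, hgG⟩ * zb * (π ⟨gt, hgG⟩)⁻¹ = (ι ⟨s, (hmemHt s).2 hst⟩ : GT ⧸ N0) := by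
        rw [hzb, ← map_inv, ← map_mul, ← map_mul]
        exact congrArg π (Subtype.ext hsG.symm)
      refine ⟨he ▸ SetLike.coe_mem _, ?_⟩
      rw [show (⟨_, _⟩ : D) = ι ⟨s, (hmemHt s).2 hst⟩ from Subtype.ext he, hmemR]
      exact hsQ
    · intro hcon
      rw [hzb, ← map_inv, ← map_mul, ← map_mul, ← inv_mul_eq_one, ← map_inv, ← map_mul, hker] at hcon
      simp only [Subgroup.coe_mul, Subgroup.coe_inv] at hcon
      rcases hcon with r | r
      · exact hgtne (inv_mul_eq_one.1 r)
      · refine hztz (IsConj.symm (isConj_iff.2 ⟨gt⁻¹, ?_⟩))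
        have r' : z = gt * z * gt⁻¹ * tG := inv_mul_eq_iff_eq_mul.1 r
        rw [show z * tG = gt * z * gt⁻¹ by
          conv_lhs => rw [r']
          rw [mul_assoc, htGsq, mul_one]]
        group
  · intro x y
    rw [← QuotientGroup.mk_mul, ← map_mul]
    refine (hsame (x := g0 • ((x + y : leechPerpU) : leechLattice)) (hlift (x + y))
      (F.rep_mul (hlift x) (hlift y))).2 (Or.inl ⟨0, ?_⟩)
    rw [AddSubgroup.coe_add, ThreeTransp.LeechForm.smul_add', add_zero, add_zero]
  · intro r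
    obtain ⟨r, rfl⟩ := QuotientGroup.mk_surjective r
    obtain ⟨b, rfl⟩ := hχsurj r
    obtain ⟨w, hw⟩ := F.exists_vec ⟨((b : Ht) : ↥(Subgroup.centralizer ({z} : Set G))), b.2⟩
    have hw' : Rep ψ (g0 • g0⁻¹ • w) ⟨((b : Ht) : ↥(Subgroup.centralizer ({z} : Set G))), b.2⟩ := by rw [smul_inv_smul]; exact hw
    refine ⟨⟨g0⁻¹ • w, (hperp hw').1 (hcQ b)⟩, ?_⟩
    exact (hsame (hlift _) hw').2 (Or.inl ⟨0, by simp⟩)
  · intro x
    obtain ⟨one', hone⟩ : ∃ b : B, b = 1 := ⟨1, rfl⟩
    have h1 : Rep ψ (g0 • (0 : leechLattice)) ⟨((one' : Ht) : ↥(Subgroup.centralizer ({z} : Set G))), one'.2⟩ := by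
      subst hone
      have h0 : g0 • (0 : leechLattice) = 0 :=
        map_zero (AddMonoidHom.mk' (g0 : Equiv.Perm leechLattice) g0.2.1)
      rw [h0]
      exact ((F.iso.2.2.1 0).2 ⟨0, by simp⟩).trans (QuotientGroup.mk_one _).symm
    have hk := hsame h1 (hlift x)
    rw [hone, map_one, QuotientGroup.mk_one, eq_comm] at hk
    rw [hk]
    have h0 : g0 • (0 : leechLattice) = 0 :=
      map_zero (AddMonoidHom.mk' (g0 : Equiv.Perm leechLattice) g0.2.1)
    rw [h0]
    constructor
    · rintro (⟨w, hw⟩ | ⟨w, hw⟩) <;> have hw2 := congrArg (fun y : leechLattice => g0⁻¹ • y) hw <;>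
        simp only [ThreeTransp.LeechForm.smul_add', inv_smul_smul] at hw2
      · exact Or.inl ⟨g0⁻¹ • w, by
          rw [hw2, map_zero (AddMonoidHom.mk' ((g0⁻¹ : Co0) : Equiv.Perm leechLattice) (g0⁻¹).2.1) |>
            fun e : g0⁻¹ • (0 : leechLattice) = 0 => e, zero_add]⟩
      · exact Or.inr ⟨g0⁻¹ • w, by
          rw [hw2, ← hg0, inv_smul_smul,
            map_zero (AddMonoidHom.mk' ((g0⁻¹ : Co0) : Equiv.Perm leechLattice) (g0⁻¹).2.1) |>
            fun e : g0⁻¹ • (0 : leechLattice) = 0 => e, zero_add]⟩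
    · rintro (⟨w, hw⟩ | ⟨w, hw⟩)
      · exact Or.inl ⟨g0 • w, by rw [hw, ThreeTransp.LeechForm.smul_add', zero_add]⟩
      · exact Or.inr ⟨g0 • w, by
          rw [hw, ThreeTransp.LeechForm.smul_add', ThreeTransp.LeechForm.smul_add', hg0, zero_add]⟩
  · intro h g heh x y hxy q hq
    obtain ⟨k, rfl⟩ := hιsurj h
    obtain ⟨a, rfl⟩ := hχsurj q
    have hg' : ρ k = g := by
      rw [← hρ'ι, ← heh]
      rfl
    have hk : pj (g0 * incCo2 g * g0⁻¹) = e (QuotientGroup.mk (k : ↥(Subgroup.centralizer ({z} : Set G)))) := by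
      rw [← hf2a, ← hg', hρspec]
    obtain ⟨w, hw⟩ := F.exists_vec ⟨((a : Ht) : ↥(Subgroup.centralizer ({z} : Set G))), a.2⟩
    have hw' := F.rep_smul hk hw
    let a' : B := ⟨k * (a : Ht) * k⁻¹, (inferInstance : Q.Normal).conj_mem _ a.2 _⟩
    have ha' : (QuotientGroup.mk (χ (lift y)) : R ⧸ Subgroup.center R) = QuotientGroup.mk (χ a') := by
      refine (hsame (hlift y) (show Rep ψ ((g0 * incCo2 g * g0⁻¹) • w) ⟨((a' : Ht) : ↥(Subgroup.centralizer ({z} : Set G))), a'.2⟩ from hw')).2 ?_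
      have hgy : (g0 * incCo2 g * g0⁻¹) • (g0 • (x : leechLattice)) = g0 • (y : leechLattice) := by
        rw [smul_smul, inv_mul_cancel_right, mul_smul]
        exact congrArg (fun u : leechLattice => g0 • u) hxy
      rcases (hsame (hlift x) hw).1 hq with r | r
      · exact Or.inl (hgy ▸ cong_smul _ r)
      · refine Or.inr ?_
        have := cong_smul (g0 * incCo2 g * g0⁻¹) r
        rwa [ThreeTransp.LeechForm.smul_add', hgy, hfix] at this
    beta_reduce
    rw [ha']
    exact congrArg QuotientGroup.mk (Subtype.ext (by simp [hχval, a']))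

end Frame

end CfsgLib.Sporadic.MonsterFusion
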