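import Cfsg.Agent.Lib.Sporadic.MonsterFusion.Inter

/-!
An element of `Q ∩ Q^g` over a class of squared length 32.
-/

set_option autoImplicit false
set_option maxRecDepth 10000

namespace CfsgLib.Sporadic.MonsterFusion

open Cfsg CfsgLib.SmallGroups CfsgLib.SmallGroups.Golay CfsgLib.SmallGroups.LeechGroup
  CfsgLib.ThreeTransp.Extraspecial

/-- The vector `2` on a bit mask. -/
def ovec (n : ℕ) : GolayPt → ℤ := fun p => if n.testBit (idx p) then 2 else 0

/-- An octad through the two special points. -/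
noncomputable def octA : leechLattice :=
  ⟨ovec (enc 1), LeechBasic.mem_lattice.2 (LeechReach.good_of_ok (m := 0) (by decide +kernel))⟩

/-- An octad avoiding the two special points. -/
noncomputable def octC : leechLattice :=
  ⟨ovec (enc 2), LeechBasic.mem_lattice.2 (LeechReach.good_of_ok (m := 0) (by decide +kernel))⟩

/-- The sign change meeting the first octad in the two special points. -/
noncomputable def epsA : monoSub := sgn ⟨word (enc 81), word_enc_mem 81⟩

/-- A sign change fixing the special vector. -/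
noncomputable def epsC : monoSub := sgn ⟨word (enc 8), word_enc_mem 8⟩

theorem octA_sub :
    ((epsA : Co0) • octA : leechLattice) - octA = -Spor.leechU := by
  refine Subtype.ext (funext fun p => ?_)
  rw [AddSubgroup.coe_sub, Pi.sub_apply, epsA, sgn_apply]
  exact (by decide +kernel : ∀ p : GolayPt, (if word (enc 81) p ≠ 0 then -ovec (enc 1) p
    else ovec (enc 1) p) - ovec (enc 1) p = -Spor.vecU p) p

theorem octA_dot : (16 : ℤ) ∣ dotInt (LeechOrder.base8 : GolayPt → ℤ) (octA : GolayPt → ℤ) :=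
  (by decide +kernel : (16 : ℤ) ∣ dotInt (Pi.single none 8 : GolayPt → ℤ) (ovec (enc 1)))

theorem sqNorm_U : sqNorm (Spor.leechU : GolayPt → ℤ) = 32 :=
  (by decide +kernel : sqNorm Spor.vecU = 32)

theorem octC_perp : octC ∈ leechPerpU :=
  (by decide +kernel : (16 : ℤ) ∣ dotInt (ovec (enc 2)) Spor.vecU)

theorem epsC_U : (epsC : Co0) • Spor.leechU = Spor.leechU := by
  refine Subtype.ext (funext fun p => ?_)
  rw [epsC, sgn_apply]
  exact (by decide +kernel : ∀ p : GolayPt,
    (if word (enc 8) p ≠ 0 then -Spor.vecU p else Spor.vecU p) = Spor.vecU p) p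

theorem octC_moved : ¬ Cong ((epsC : Co0) • octC) octC ∧
    ¬ Cong ((epsC : Co0) • octC) (octC + Spor.leechU) := by
  have e : (((epsC : Co0) • octC - octC : leechLattice) : GolayPt → ℤ) =
      fun p => (if word (enc 8) p ≠ 0 then -ovec (enc 2) p else ovec (enc 2) p) - ovec (enc 2) p := by
    funext p
    rw [AddSubgroup.coe_sub, Pi.sub_apply, epsC, sgn_apply]
    rfl
  have hn : sqNorm (((epsC : Co0) • octC - octC : leechLattice) : GolayPt → ℤ) = 64 := by
    rw [e]; decide +kernel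
  constructor <;> rintro ⟨x, hx⟩
  · rcases cong_short (v := (epsC : Co0) • octC - octC) (w := 0) ⟨x, by rw [hx]; abel⟩ hn.le
      (by simp [sqNorm]) with h | h | h
    · rw [h] at hn; simp [sqNorm] at hn
    · rw [h] at hn; simp [sqNorm] at hn
    · simp [sqNorm] at h
  · rcases cong_short (v := (epsC : Co0) • octC - octC) (w := Spor.leechU) ⟨x, by rw [hx]; abel⟩ hn.le
      (by rw [sqNorm_U]; norm_num) with h | h | h
    · rw [h, sqNorm_U] at hn; norm_num at hn
    · rw [h, AddSubgroup.coe_neg, ThreeTransp.LeechShort.sqNorm_neg, sqNorm_U] at hn; norm_num at hn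
    · rw [sqNorm_U] at h; norm_num at h

variable {G : Type*} [Group G] [Finite G] {z : G} {Q : Subgroup (Subgroup.centralizer ({z} : Set G))}
  [Q.Normal] {e : (Subgroup.centralizer ({z} : Set G)) ⧸ Q ≃* Spor.Co1}
  {ψ : leechLattice → Q ⧸ Subgroup.center Q}

namespace Frame

theorem rep_inv (F : Frame Q e ψ) {v : leechLattice} {q : Q} (hq : Rep ψ v q) : Rep ψ (-v) q⁻¹ := by
  rw [Rep, QuotientGroup.mk_inv, ← hq]
  refine eq_inv_of_mul_eq_one_left ?_
  rw [← F.iso.1, neg_add_cancel, (F.iso.2.2.1 0).2 ⟨0, by simp⟩]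

theorem settingC (F : Frame Q e ψ) :
    Setting (zC z) Q 12 := by
  refine ⟨F.extra, fun x hx => ?_, fun c _ => ?_, by norm_num, F.core.2.2.2.1⟩
  · obtain ⟨y, hy, hyx⟩ := F.setting.hC x (by
      rintro _ ⟨q, hq, rfl⟩
      exact congrArg Subtype.val (hx q hq))
    rwa [Subtype.ext hyx.symm]
  · exact (Subgroup.normalizer_eq_top (H := Q)).symm ▸ Subgroup.mem_top c

/-- The short class meets some `Q ∩ Q^g`. -/
theorem exists_short_inter (F : Frame Q e ψ) : ∃ (t : Q) (g : G),
    Cl ψ 32 t ∧ g * z * g⁻¹ ∈ Q.map (Subgroup.centralizer ({z} : Set G)).subtype ∧ g * z * g⁻¹ ≠ z ∧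
      g⁻¹ * ((t : Subgroup.centralizer ({z} : Set G)) : G) * g ∈
        Q.map (Subgroup.centralizer ({z} : Set G)).subtype := by
  obtain ⟨s, hs⟩ := exists_rep (ψ := ψ) LeechOrder.base8
  obtain ⟨hconj, hne⟩ := (F.conj_iff s).2 ⟨_, LeechOrder.norm_base8, hs⟩
  obtain ⟨g, hg⟩ := isConj_iff.1 hconj
  obtain ⟨-, hE⟩ := F.images_of_cross (k := 1) hg (hg ▸ hne) LeechOrder.norm_base8 hs (one_smul _ _)
  obtain ⟨d, hd, hde⟩ := mem_eIm.1 (show pj (epsA : Co0) ∈ eIm e g by
    rw [hE]
    exact ⟨pj (epsA : Co0), ⟨epsA, permOf_sgn _, rfl⟩, by simp⟩)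
  obtain ⟨q, hq⟩ := exists_rep (ψ := ψ) octA
  have hqs := (F.comm_iff hs hq).2 octA_dot
  have hr := F.rep_mul (F.rep_smul hde.symm hq) (F.rep_inv hq)
  refine ⟨_, g, ⟨_, ?_, hr⟩, ⟨s, s.2, hg.symm⟩, hg ▸ hne, ?_⟩
  · rw [← sub_eq_add_neg, octA_sub, AddSubgroup.coe_neg, ThreeTransp.LeechShort.sqNorm_neg, sqNorm_U]
  · rw [← mem_map_conj]
    have hc : ((q : Subgroup.centralizer ({z} : Set G)) : G) * (g * z * g⁻¹) =
        g * z * g⁻¹ * (q : Subgroup.centralizer ({z} : Set G)) := by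
      rw [hg]
      exact congrArg Subtype.val hqs.symm
    have := mul_mem hd (F.setting.conj_normal hc (inv_mem hd))
    simp only [Subgroup.coe_mul, Subgroup.coe_inv]
    simpa [mul_assoc] using this

/-- An element fixing `t` moves `z` into `Q` away from `z` and `z t`. -/
theorem exists_fixing (F : Frame Q e ψ) {t : Q}
    (h2 : orderOf ((t : Subgroup.centralizer ({z} : Set G)) : G) = 2)
    (hn : ¬ IsConj z ((t : Subgroup.centralizer ({z} : Set G)) : G)) :
    ∃ g : G, g * (t : Subgroup.centralizer ({z} : Set G)) = (t : Subgroup.centralizer ({z} : Set G)) * g ∧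
      g * z * g⁻¹ ∈ Q.map (Subgroup.centralizer ({z} : Set G)).subtype ∧ g * z * g⁻¹ ≠ z := by
  obtain ⟨t0, g, ht0, hs, hne, hmem⟩ := F.exists_short_inter
  obtain ⟨h, hh⟩ := F.transitive (Or.inl rfl) ht0 (F.nonconj_short t h2 hn)
  have hh' : (h : G) * ((t0 : Subgroup.centralizer ({z} : Set G)) : G) * (h : G)⁻¹ =
      ((t : Subgroup.centralizer ({z} : Set G)) : G) := congrArg Subtype.val hh
  obtain ⟨y, hy, hye⟩ := hmem
  have hzh : (h : G) * z * (h : G)⁻¹ = z := by
    rw [Subgroup.mem_centralizer_singleton_iff.1 h.2, mul_inv_cancel_right]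
  have hyt : ((h : G) * g) * (y : G) * ((h : G) * g)⁻¹ = ((t : Subgroup.centralizer ({z} : Set G)) : G) := by
    rw [← hh', show (y : G) = g⁻¹ * ((t0 : Subgroup.centralizer ({z} : Set G)) : G) * g from hye]
    group
  have hcy : IsConj ((y : G)) ((t : Subgroup.centralizer ({z} : Set G)) : G) := isConj_iff.2 ⟨_, hyt⟩
  have hy2 : orderOf (y : G) = 2 := by
    rw [← h2, ← hyt, ← MulAut.conj_apply]
    exact (orderOf_injective (MulAut.conj ((h : G) * g)).toMonoidHom
      (MulAut.conj ((h : G) * g)).injective (y : G)).symm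
  obtain ⟨c, hc⟩ := F.transitive (Or.inl rfl)
    (F.nonconj_short ⟨y, hy⟩ hy2 fun hz => hn (hz.trans hcy)) (F.nonconj_short t h2 hn)
  have hc' : (c : G) * (y : G) * (c : G)⁻¹ = ((t : Subgroup.centralizer ({z} : Set G)) : G) :=
    congrArg Subtype.val hc
  have hzc : (c : G)⁻¹ * z * c = z := by
    rw [mul_assoc, ← Subgroup.mem_centralizer_singleton_iff.1 c.2, inv_mul_cancel_left]
  have he : (h : G) * g * (c : G)⁻¹ * z * ((h : G) * g * (c : G)⁻¹)⁻¹ = h * (g * z * g⁻¹) * (h : G)⁻¹ := by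
    calc _ = (h : G) * g * ((c : G)⁻¹ * z * c) * ((h : G) * g)⁻¹ := by group
      _ = _ := by rw [hzc]; group
  refine ⟨h * g * (c : G)⁻¹, ?_, ?_, fun e => hne ?_⟩
  · rw [← mul_inv_eq_iff_eq_mul]
    calc _ = (h : G) * g * ((c : G)⁻¹ * ((t : Subgroup.centralizer ({z} : Set G)) : G) * c) *
          ((h : G) * g)⁻¹ := by group
      _ = _ := by rw [← hc']; conv_rhs => rw [hc', ← hyt]
                  group
  · rw [he]
    obtain ⟨s, hsQ, hse⟩ := hs
    exact ⟨h * s * h⁻¹, (inferInstance : Q.Normal).conj_mem s hsQ h, by rw [← hse]; rfl⟩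
  · rw [he] at e
    calc g * z * g⁻¹ = (h : G)⁻¹ * (h * (g * z * g⁻¹) * (h : G)⁻¹) * h := by group
      _ = (h : G)⁻¹ * z * h := by rw [e]
      _ = z := by
        calc (h : G)⁻¹ * z * h = (h : G)⁻¹ * ((h : G) * z * (h : G)⁻¹) * h := by rw [hzh]
          _ = z := by group

end Frame

end CfsgLib.Sporadic.MonsterFusion
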