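import Cfsg.Prelude.Def_MonsterType
import Cfsg.Agent.Lib.ThreeTransp.Extraspecial
import Cfsg.Agent.Lib.ThreeTransp.LargePair
import Cfsg.Agent.Lib.Components.GenFitting
import Cfsg.Agent.Lib.Solvable.Cores
import Cfsg.Agent.Lib.ThreeTransp.Simplicity

/-!
The conjugates of `z` in the extraspecial subgroup `Q` of its centraliser: basic local facts.
-/

set_option autoImplicit false

namespace CfsgLib.Sporadic.MonsterFusion

open Cfsg CfsgLib.ThreeTransp.Extraspecial
open scoped commutatorElement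

variable {G : Type*} [Group G] [Finite G]

/-- `Q` is extraspecial of width `w ≥ 2`, self-centralising and normal in the centraliser of `z`. -/
structure Setting (z : G) (Q : Subgroup G) (w : ℕ) : Prop where
  ext : Extra Q z
  hC : ∀ x : G, (∀ q ∈ Q, x * q = q * x) → x ∈ Q
  hN : Subgroup.centralizer ({z} : Set G) ≤ Subgroup.normalizer (Q : Set G)
  hw : 2 ≤ w
  card : Nat.card ↥Q = 2 ^ (2 * w + 1)

theorem setting_of {z : G} {Q : Subgroup (Subgroup.centralizer ({z} : Set G))} [hQn : Q.Normal] {w : ℕ}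
    (h : IsExtraspecialCentralizerSetting z Q w) (hw : 2 ≤ w) :
    Setting z (Q.map (Subgroup.centralizer ({z} : Set G)).subtype) w := by
  obtain ⟨hz, hF, hext, hcard, -⟩ := h
  have hzC : z ∈ (Subgroup.centralizer ({z} : Set G)) := Subgroup.mem_centralizer_singleton_iff.2 rfl
  have hzc : ∀ x : (Subgroup.centralizer ({z} : Set G)), x * ⟨z, hzC⟩ = ⟨z, hzC⟩ * x := fun x =>
    Subtype.ext (Subgroup.mem_centralizer_singleton_iff.1 x.2)
  have hQc : Subgroup.centralizer (Q : Set ↥(Subgroup.centralizer ({z} : Set G))) ≤ Q := by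
    have := Components.centralizer_generalizedFitting_le (G := ↥(Subgroup.centralizer ({z} : Set G)))
    rwa [hF] at this
  have hzQ : (⟨z, hzC⟩ : (Subgroup.centralizer ({z} : Set G))) ∈ Q :=
    hQc (Subgroup.mem_centralizer_iff.2 fun q _ => hzc q)
  have hext' : IsExtraspecial 2 ↥(Q.map (Subgroup.centralizer ({z} : Set G)).subtype) :=
    ThreeTransp.Simplicity.isExtraspecial_of_equiv
      (Q.equivMapOfInjective (Subgroup.centralizer ({z} : Set G)).subtype (Subgroup.centralizer ({z} : Set G)).subtype_injective) hext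
  obtain ⟨t, ht⟩ := exists_extra hext'
  have hz1 : z ≠ 1 := fun e => by simp [e] at hz
  have htz : t = z := by
    rcases ht.mem_center_cases (x := z) ⟨_, hzQ, rfl⟩ (by
      rintro _ ⟨q, -, rfl⟩
      exact (congrArg Subtype.val (hzc q)).symm) with e | e
    · exact absurd e hz1
    · exact e.symm
  rw [htz] at ht
  refine ⟨ht, fun x hx => ?_, fun c hc => ?_, hw, ?_⟩
  · have hxC : x ∈ (Subgroup.centralizer ({z} : Set G)) := Subgroup.mem_centralizer_singleton_iff.2 (hx _ ⟨_, hzQ, rfl⟩)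
    exact ⟨⟨x, hxC⟩, hQc (Subgroup.mem_centralizer_iff.2 fun q hq =>
      Subtype.ext (hx _ ⟨q, hq, rfl⟩).symm), rfl⟩
  · refine Subgroup.mem_normalizer_fintype ?_
    rintro _ ⟨q, hq, rfl⟩
    exact ⟨_, hQn.conj_mem q hq ⟨c, hc⟩, rfl⟩
  · rw [Subgroup.card_map_of_injective (Subgroup.centralizer ({z} : Set G)).subtype_injective, hcard]

namespace Setting

variable {z : G} {Q : Subgroup G} {w : ℕ}

/-- `z ∈ Q^g` whenever `z^g ∈ Q`. -/
theorem symm (S : Setting z Q w) {g : G} (hu : g * z * g⁻¹ ∈ Q) (hne : g * z * g⁻¹ ≠ z) :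
    g⁻¹ * z * g ∈ Q :=
  mem_conj_of_nonabelian S.ext S.hC S.hN hu hne
    (ThreeTransp.LargePair.nonabelian_centralizer S.ext S.hw S.card hu (S.ext.map_conj g).z_ne
      (S.ext.map_conj g).z_sq hne)

/-- The centraliser of a non-central involution in `Q` has index 2. -/
theorem card_inf (S : Setting z Q w) {u : G} (hu : u ∈ Q) (h1 : u ≠ 1) (hne : u ≠ z)
    (hsq : u * u = 1) : Nat.card ↥(Q ⊓ Subgroup.centralizer ({u} : Set G)) = 2 ^ (2 * w) := by
  have hcentral : ∀ x y : ↥Q, x⁻¹ * y * x * y⁻¹ ∈ Subgroup.center ↥Q := fun x y => by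
    rw [← S.ext.ext.1.2.2, _root_.commutator_def]
    simpa [commutatorElement_def] using
      Subgroup.commutator_mem_commutator (Subgroup.mem_top x⁻¹) (Subgroup.mem_top y)
  have hu2 : (⟨u, hu⟩ : ↥Q) * ⟨u, hu⟩ = 1 := Subtype.ext hsq
  set A := Subgroup.zpowers (⟨u, hu⟩ : ↥Q) with hA
  have hcA : Nat.card A = 2 := by
    rw [hA, Nat.card_zpowers, ← Subgroup.orderOf_coe]
    exact orderOf_eq_prime (by rw [pow_two]; exact hsq) h1
  have hint : A ⊓ Subgroup.center ↥Q = ⊥ := by
    rw [Subgroup.eq_bot_iff_forall]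
    rintro x ⟨hx, hxc⟩
    rcases (mem_zpowers_involution hu2).1 hx with e | e
    · exact e
    · exfalso
      subst e
      rcases S.ext.eq_one_or_z_of_mem_center hxc with e' | e'
      exacts [h1 e', hne e']
  have d := Cfsg.Agent.S2880.double_count A hcentral S.ext.ext.2
  rw [hint, Subgroup.card_bot, one_mul, hcA, S.card, pow_succ] at d
  have he : (Q ⊓ Subgroup.centralizer ({u} : Set G)).subgroupOf Q =
      Subgroup.centralizer (A : Set ↥Q) := by
    rw [hA, Subgroup.zpowers_eq_closure, Subgroup.centralizer_closure]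
    ext x
    simp [Subgroup.mem_subgroupOf, Subgroup.mem_centralizer_singleton_iff, Subtype.ext_iff]
  rw [← he, Nat.card_congr (Subgroup.subgroupOfEquivOfLe inf_le_left).toEquiv] at d
  omega

theorem card_conj_inf (S : Setting z Q w) {g : G} (hu : g * z * g⁻¹ ∈ Q) (hne : g * z * g⁻¹ ≠ z) :
    Nat.card ↥(Q.map (MulAut.conj g).toMonoidHom ⊓ Subgroup.centralizer ({z} : Set G)) =
      2 ^ (2 * w) := by
  have hv := S.symm hu hne
  have hv1 : g⁻¹ * z * g ≠ 1 := fun e => S.ext.z_ne (by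
    calc z = g * (g⁻¹ * z * g) * g⁻¹ := by group
      _ = 1 := by rw [e]; group)
  have hvz : g⁻¹ * z * g ≠ z := fun e => hne (by
    calc g * z * g⁻¹ = g * (g⁻¹ * z * g) * g⁻¹ := by rw [e]
      _ = z := by group)
  have hvs : g⁻¹ * z * g * (g⁻¹ * z * g) = 1 := by
    calc g⁻¹ * z * g * (g⁻¹ * z * g) = g⁻¹ * (z * z) * g := by group
      _ = 1 := by rw [S.ext.z_sq]; group
  rw [← S.card_inf hv hv1 hvz hvs]
  rw [← Subgroup.card_map_of_injective (f := (MulAut.conj g).toMonoidHom)
    (MulAut.conj g).injective (K := Q ⊓ Subgroup.centralizer ({g⁻¹ * z * g} : Set G))]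
  congr 2
  ext y
  simp only [Subgroup.mem_inf, mem_map_conj, Subgroup.mem_centralizer_singleton_iff]
  refine and_congr_right fun _ => ?_
  constructor
  · intro e
    calc g⁻¹ * y * g * (g⁻¹ * z * g) = g⁻¹ * (y * z) * g := by group
      _ = g⁻¹ * z * g * (g⁻¹ * y * g) := by rw [e]; group
  · intro e
    calc y * z = g * (g⁻¹ * y * g * (g⁻¹ * z * g)) * g⁻¹ := by group
      _ = z * y := by rw [e]; group

/-- `C(z)` meets `Q^g` outside `Q`. -/
theorem exists_out (S : Setting z Q w) {g : G} (hu : g * z * g⁻¹ ∈ Q) (hne : g * z * g⁻¹ ≠ z) :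
    ∃ d ∈ Q.map (MulAut.conj g).toMonoidHom, d * z = z * d ∧ d ∉ Q := by
  have h' := S.ext.map_conj g
  have hzm : z ∈ Q.map (MulAut.conj g).toMonoidHom := mem_map_conj.2 (S.symm hu hne)
  have hcard' : Nat.card ↥(Q.map (MulAut.conj g).toMonoidHom) = 2 ^ (2 * w + 1) := by
    rw [Subgroup.card_map_of_injective (MulAut.conj g).injective, S.card]
  obtain ⟨b, hb, c, hc, hbz, hcz, hbc⟩ := ThreeTransp.LargePair.nonabelian_centralizer h' S.hw
    hcard' hzm S.ext.z_ne S.ext.z_sq hne.symm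
  by_contra hall
  push Not at hall
  have hbQ := hall b hb hbz
  have hcQ := hall c hc hcz
  have e1 := S.ext.conj_eq_of_not_comm hcQ hbQ hbc
  have e2 := h'.conj_eq_of_not_comm hc hb hbc
  exact hne (mul_left_cancel (e2.symm.trans e1))

theorem conj_normal (S : Setting z Q w) {g c x : G} (hc : c * (g * z * g⁻¹) = g * z * g⁻¹ * c)
    (hx : x ∈ Q.map (MulAut.conj g).toMonoidHom) :
    c * x * c⁻¹ ∈ Q.map (MulAut.conj g).toMonoidHom :=
  mem_map_conj.2 (centralizer_conj_le S.hN g hc (mem_map_conj.1 hx))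

end Setting

end CfsgLib.Sporadic.MonsterFusion
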