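import Cfsg.Agent.Lib.Sporadic.MonsterFusion.Fusion
import Cfsg.Agent.Lib.SmallGroups.LeechGroup

/-!
The stabiliser of the standard cross modulo the centre: `2^11 : M24`.
-/

set_option autoImplicit false

namespace CfsgLib.Sporadic.MonsterFusion

open Cfsg CfsgLib.SmallGroups CfsgLib.SmallGroups.LeechGroup

theorem card_map_mul' {A B : Type*} [Group A] [Group B] (f : A →* B) (X : Subgroup A) :
    Nat.card ↥(X.map f) * Nat.card ↥(f.ker ⊓ X) = Nat.card X := by
  have e1 : (f.comp X.subtype).ker = f.ker.subgroupOf X := by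
    ext x; simp [Subgroup.mem_subgroupOf, MonoidHom.mem_ker]
  have e2 : (f.comp X.subtype).range = X.map f := by
    rw [MonoidHom.range_comp, Subgroup.range_subtype]
  have h3 := Nat.card_congr (QuotientGroup.quotientKerEquivRange (f.comp X.subtype)).toEquiv
  rw [e2] at h3
  have h5 := Subgroup.card_eq_card_quotient_mul_card_subgroup (f.comp X.subtype).ker
  rw [h3, e1] at h5
  rw [h5]
  congr 1
  rw [← Nat.card_congr (Subgroup.subgroupOfEquivOfLe (inf_le_right : f.ker ⊓ X ≤ X)).toEquiv,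
    Subgroup.inf_subgroupOf_right]

/-- Coordinate permutations. -/
noncomputable def permM : M24 →* monoSub :=
  MonoidHom.mk' (fun σ => ⟨LeechMonomial.mono (σ, ⟨∅, LeechReach.empty_mem_CS⟩), mono_mem _⟩)
    fun σ τ => ext_apply fun v i => by
      rw [Subgroup.coe_mul, mul_smul, LeechMonomial.mono_apply, LeechMonomial.mono_apply,
        LeechMonomial.mono_apply]
      simp [signedPerm, ← Equiv.Perm.inv_def]

theorem permOf_permM (σ : M24) : permOf (permM σ) = σ := permOf_spec (p := (σ, _)) rfl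

theorem one_word : (sgn ⟨1, LeechBasic.one_mem_code⟩ : Co0) = negG :=
  Subtype.ext (Equiv.ext fun v => Subtype.ext (funext fun i => by
    show (((sgn ⟨1, LeechBasic.one_mem_code⟩ : Co0) • v : leechLattice) : GolayPt → ℤ) i = _
    rw [sgn_apply, if_pos (by simp)]
    rfl))

theorem center_cases' {c : Co0} (hc : c ∈ Subgroup.center Co0) : c = 1 ∨ c = negG :=
  (LeechCenter.central_cases hc).imp (fun h => Subtype.ext h) fun h => Subtype.ext h

/-- The monomial group modulo the centre. -/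
noncomputable def phi : monoSub →* Spor.Co1 := pj.comp monoSub.subtype

/-- The stabiliser of the standard cross. -/
noncomputable def M1 : Subgroup Spor.Co1 := phi.range

/-- The sign changes. -/
noncomputable def S1 : Subgroup Spor.Co1 := (permOf.ker).map phi

/-- The permutations. -/
noncomputable def K1 : Subgroup Spor.Co1 := (phi.comp permM).range

theorem mem_phi_ker {g : monoSub} (hg : g ∈ phi.ker) : permOf g = 1 ∧ ∃ w : golayCode, g = sgn w := by
  have h : permOf g = 1 := by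
    rcases center_cases' ((QuotientGroup.eq_one_iff (g : Co0)).1 hg) with e | e
    · rw [show g = 1 from Subtype.ext e, map_one]
    · rw [show g = sgn ⟨1, LeechBasic.one_mem_code⟩ from Subtype.ext (e.trans one_word.symm),
        permOf_sgn]
  exact ⟨h, exists_sgn h⟩

theorem card_ker_permOf : Nat.card permOf.ker = 4096 := by
  have hsurj : permOf.range = ⊤ := eq_top_iff.2 fun σ _ => ⟨permM σ, permOf_permM σ⟩
  have h := Subgroup.card_eq_card_quotient_mul_card_subgroup permOf.ker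
  rw [Nat.card_congr (QuotientGroup.quotientKerEquivRange permOf).toEquiv, hsurj,
    Subgroup.card_top, M24Group.card_M24, card_monoSub] at h
  omega

theorem card_phi_ker : Nat.card phi.ker = 2 := by
  rw [← LeechCenter.card_center_Co0]
  refine Nat.card_congr ⟨fun g => ⟨g.1.1, (QuotientGroup.eq_one_iff _).1 g.2⟩,
    fun c => ⟨⟨c.1, ?_⟩, (QuotientGroup.eq_one_iff c.1).2 c.2⟩, fun _ => rfl, fun _ => rfl⟩
  rcases center_cases' c.2 with e | e <;> rw [e]
  · exact one_mem _
  · exact one_word ▸ SetLike.coe_mem _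

theorem card_S1 : Nat.card S1 = 2 ^ 11 := by
  have h := card_map_mul' phi permOf.ker
  rw [inf_eq_left.2 fun g hg => (mem_phi_ker hg).1, card_phi_ker, card_ker_permOf] at h
  show Nat.card ↥(permOf.ker.map phi) = _
  omega

theorem S1_le : S1 ≤ M1 := by
  rintro _ ⟨g, -, rfl⟩
  exact ⟨g, rfl⟩

theorem K1_le : K1 ≤ M1 := by
  rintro _ ⟨σ, rfl⟩
  exact ⟨permM σ, rfl⟩

theorem S1_sq : Cfsg.IsElementaryAbelian 2 S1 := by
  constructor
  · refine ⟨⟨?_⟩⟩
    rintro ⟨_, g, hg, rfl⟩ ⟨_, g', hg', rfl⟩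
    obtain ⟨w, rfl⟩ := exists_sgn hg
    obtain ⟨w', rfl⟩ := exists_sgn hg'
    refine Subtype.ext ?_
    show phi (sgn w) * phi (sgn w') = phi (sgn w') * phi (sgn w)
    rw [← map_mul, ← map_mul, ← sgn_add, ← sgn_add, add_comm]
  · rintro _ ⟨g, hg, rfl⟩
    obtain ⟨w, rfl⟩ := exists_sgn hg
    rw [← map_pow, pow_two, ← sgn_add,
      show w + w = 0 from Subtype.ext (funext fun i => CharTwo.add_self_eq_zero _), sgn_zero, map_one]

theorem S1_normal {x y : Spor.Co1} (hx : x ∈ M1) (hy : y ∈ S1) : x * y * x⁻¹ ∈ S1 := by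
  obtain ⟨g, rfl⟩ := hx
  obtain ⟨h, hh, rfl⟩ := hy
  exact ⟨g * h * g⁻¹, (inferInstance : permOf.ker.Normal).conj_mem h hh g, by simp⟩

theorem K1_equiv : Nonempty (K1 ≃* M24) := by
  refine ⟨(MonoidHom.ofInjective ?_).symm⟩
  rw [← MonoidHom.ker_eq_bot_iff, Subgroup.eq_bot_iff_forall]
  intro σ hσ
  rw [← permOf_permM σ]
  exact (mem_phi_ker hσ).1

theorem inf_eq : S1 ⊓ K1 = ⊥ := by
  rw [Subgroup.eq_bot_iff_forall]
  rintro _ ⟨⟨g, hg, rfl⟩, σ, hσ⟩
  have h : g⁻¹ * permM σ ∈ phi.ker := by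
    rw [MonoidHom.mem_ker, map_mul, map_inv]
    exact inv_mul_eq_one.2 hσ.symm
  have := (mem_phi_ker h).1
  rw [map_mul, map_inv, MonoidHom.mem_ker.1 hg, inv_one, one_mul, permOf_permM] at this
  rw [← hσ, this, map_one]

theorem sup_eq : S1 ⊔ K1 = M1 := by
  refine le_antisymm (sup_le S1_le K1_le) ?_
  rintro _ ⟨g, rfl⟩
  have e : g = g * (permM (permOf g))⁻¹ * permM (permOf g) := by group
  rw [e, map_mul]
  refine Subgroup.mul_mem_sup ⟨_, ?_, rfl⟩ ⟨_, rfl⟩
  rw [SetLike.mem_coe, MonoidHom.mem_ker, map_mul, map_inv, permOf_permM, mul_inv_cancel]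

/-- A non-trivial normal 2-subgroup of the cross stabiliser consists of all sign changes. -/
theorem eq_S1 {P : Subgroup Spor.Co1} (hle : P ≤ M1) (hP : IsPGroup 2 P)
    (hn : ∀ x ∈ M1, ∀ y ∈ P, x * y * x⁻¹ ∈ P) (hb : P ≠ ⊥) : P = S1 := by
  have := finite_Co0
  have : Fact (Nat.Prime 2) := ⟨Nat.prime_two⟩
  set P' := P.comap phi with hP'
  have : P'.Normal := ⟨fun y hy x => by
    rw [Subgroup.mem_comap, map_mul, map_mul, map_inv]
    exact hn _ ⟨x, rfl⟩ _ hy⟩
  have hmap : P'.map phi = P := Subgroup.map_comap_eq_self hle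
  have h2 : IsPGroup 2 P' := by
    obtain ⟨n, hn'⟩ := IsPGroup.iff_card.1 hP
    have h := card_map_mul' phi P'
    rw [inf_eq_left.2 (by rw [hP', ← MonoidHom.comap_bot]; exact Subgroup.comap_mono bot_le),
      card_phi_ker, hmap, hn'] at h
    exact IsPGroup.of_card (n := n + 1) (by rw [← h, pow_succ])
  rcases central_or_all P' with hc | hall
  · exfalso
    apply hb
    rw [← hmap, Subgroup.map_eq_bot_iff]
    intro g hg
    exact (QuotientGroup.eq_one_iff (g : Co0)).2 (hc g hg)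
  have hle' : permOf.ker ≤ P' := fun g hg => by
    obtain ⟨w, rfl⟩ := exists_sgn hg
    exact hall w
  have hbot : P'.map permOf = ⊥ := by
    have hs : IsSimpleGroup M24 := MathieuSimple.isSimple_M24
    have hnorm := Subgroup.Normal.map (f := permOf) (H := P') inferInstance
      fun σ => ⟨permM σ, permOf_permM σ⟩
    refine hnorm.eq_bot_or_eq_top.resolve_right fun h => ?_
    have hp := h2.map permOf
    rw [h] at hp
    obtain ⟨n, hn'⟩ := IsPGroup.iff_card.1 hp
    rw [Subgroup.card_top, M24Group.card_M24] at hn'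
    have h5 : (5 : ℕ) ∣ 2 ^ n := hn' ▸ by norm_num
    have := (by norm_num : Nat.Prime 5).dvd_of_dvd_pow h5
    norm_num at this
  rw [← hmap, S1, le_antisymm ((Subgroup.map_eq_bot_iff _).1 hbot) hle']

theorem cong_base (g : Co0) : Cong (g • LeechOrder.base8) LeechOrder.base8 ↔ g ∈ monoSub := by
  constructor
  · intro h v hv
    obtain ⟨x, hx⟩ := h
    rw [← LeechOrder.cross_base8] at hv ⊢
    obtain ⟨-, hn, z, hz, e⟩ := hv
    have he : LeechOrder.base8 = v + (⟨z, hz⟩ + ⟨z, hz⟩) := Subtype.ext (by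
      rw [AddSubgroup.coe_add, AddSubgroup.coe_add, eq_add_of_sub_eq e, two_nsmul, add_comm])
    refine ⟨SetLike.coe_mem _, (g.2.2 v).trans hn, _, (g • (⟨z, hz⟩ : leechLattice) - x).2, ?_⟩
    have h1 := congrArg (fun w : leechLattice => g • w) he
    simp only [ThreeTransp.LeechForm.smul_add', hx] at h1
    have h2 : LeechOrder.base8 - g • v =
        2 • (g • (⟨z, hz⟩ : leechLattice) - x) := by
      rw [eq_sub_of_add_eq h1]
      abel
    exact congrArg (fun w : leechLattice => (w : GolayPt → ℤ)) h2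
  · intro h
    have hm := h LeechOrder.base8 (LeechOrder.cross_base8 ▸
      ⟨LeechOrder.base8.2, rfl, 0, zero_mem _, by simp⟩)
    rw [← LeechOrder.cross_base8] at hm
    obtain ⟨-, -, z, hz, e⟩ := hm
    refine ⟨-⟨z, hz⟩, Subtype.ext ?_⟩
    simp only [AddSubgroup.coe_add, AddSubgroup.coe_neg]
    rw [eq_add_of_sub_eq e, two_nsmul]
    abel

theorem cong_conj {k : Co0} {v : leechLattice} (hk : k • LeechOrder.base8 = v) (x : Spor.Co1) :
    (∃ g : Co0, pj g = x ∧ Cong (g • v) v) ↔ x ∈ M1.map (MulAut.conj (pj k)).toMonoidHom := by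
  constructor
  · rintro ⟨g, rfl, hg⟩
    have h := cong_smul k⁻¹ hg
    rw [← hk, inv_smul_smul, smul_smul, smul_smul, cong_base] at h
    refine ⟨pj (k⁻¹ * g * k), ⟨⟨_, h⟩, rfl⟩, ?_⟩
    show pj k * pj (k⁻¹ * g * k) * (pj k)⁻¹ = pj g
    simp [mul_assoc]
  · rintro ⟨_, ⟨g, rfl⟩, rfl⟩
    refine ⟨k * (g : Co0) * k⁻¹, ?_, ?_⟩
    · simp [phi]
    · rw [← hk, smul_smul, show k * (g : Co0) * k⁻¹ * k = k * g by group, mul_smul]
      exact cong_smul k ((cong_base g).2 g.2)

end CfsgLib.Sporadic.MonsterFusion
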