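import Cfsg.Agent.Lib.Sporadic.MonsterFusion.FIImage

/-!
The order of the kernel of the projective action and faithfulness on the classes of fixed vectors.
-/

set_option autoImplicit false
set_option maxRecDepth 20000
set_option maxHeartbeats 800000

namespace CfsgLib.Sporadic.MonsterFusion.FI

open Cfsg CfsgLib.SmallGroups CfsgLib.SmallGroups.Golay CfsgLib.SmallGroups.LeechGroup CfsgLib.Orth
  CfsgLib.Classical CfsgLib.Sporadic.M24Orbits QuadraticMap
open Held (cong_symm cong_trans)

theorem sg_kap (n : Fin 12 → ZMod 2) : sg • kap n = kap n := sg_fv (coe_kap n)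

theorem cong_refl (v : leechLattice) : Cong v v := ⟨0, by simp⟩

/-! ### The action on classes -/

/-- The class of the image of a fixed class. -/
noncomputable def cls (g : CC) (n : Fin 12 → ZMod 2) : Fin 12 → ZMod 2 :=
  (span ((g : Co0) • kap n) (smul_fixed g.2 (sg_kap n))).choose

theorem cls_spec (g : CC) (n : Fin 12 → ZMod 2) : Cong ((g : Co0) • kap n) (kap (cls g n)) :=
  (span ((g : Co0) • kap n) (smul_fixed g.2 (sg_kap n))).choose_spec

theorem cls_eq {g : CC} {n m : Fin 12 → ZMod 2} (h : Cong ((g : Co0) • kap n) (kap m)) : cls g n = m :=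
  kap_inj (cong_trans (cong_symm (cls_spec g n)) h)

theorem cls_mul (g h : CC) (n : Fin 12 → ZMod 2) : cls (g * h) n = cls g (cls h n) := by
  refine cls_eq ?_
  rw [Subgroup.coe_mul, mul_smul]
  exact cong_trans (cong_smul _ (cls_spec h n)) (cls_spec g _)

theorem cls_one (n : Fin 12 → ZMod 2) : cls 1 n = n :=
  cls_eq (by rw [Subgroup.coe_one, one_smul]; exact cong_refl _)

/-- The action on the classes of fixed vectors. -/
noncomputable def theta : CC →* Equiv.Perm (Fin 12 → ZMod 2) :=
  MonoidHom.mk'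
    (fun g => ⟨cls g, cls g⁻¹,
      fun n => by rw [← cls_mul, inv_mul_cancel, cls_one],
      fun n => by rw [← cls_mul, mul_inv_cancel, cls_one]⟩)
    fun g h => Equiv.ext fun n => cls_mul g h n

theorem theta_apply (g : CC) (n : Fin 12 → ZMod 2) : theta g n = cls g n := rfl

theorem theta_eq_one {g : CC} (h : ∀ n, Cong ((g : Co0) • kap n) (kap n)) : theta g = 1 :=
  Equiv.ext fun n => cls_eq (h n)

/-- The class with the given code number. -/
def kof (k : ℕ) : Fin 12 → ZMod 2 := fun j => if k.testBit j then 1 else 0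

/-- The action of a generator on classes. -/
def actL (i : Fin 9) (n : Fin 12 → ZMod 2) : Fin 12 → ZMod 2 :=
  ∑ j : Fin 12, n j • kof ((actT.getD i []).getD j 0)

theorem gen_Bv_cong (i : Fin 9) (j : Fin 12) :
    Cong (gen i • Bv j) (kap (kof ((actT.getD i []).getD j 0))) :=
  (cong_iff (gen_Bv i j) (coe_kap _)).2 ((by decide +kernel : ∀ i j,
    congB (imgV i j) (comb (kof ((actT.getD (i : Fin 9) []).getD (j : Fin 12) 0))) = true) i j)

theorem cong_add {a b c d : leechLattice} (h : Cong a b) (h' : Cong c d) : Cong (a + c) (b + d) := by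
  obtain ⟨x, rfl⟩ := h
  obtain ⟨y, rfl⟩ := h'
  exact ⟨x + y, by abel⟩

theorem cong_sum {s : Finset (Fin 12)} {f : Fin 12 → leechLattice} {m : Fin 12 → Fin 12 → ZMod 2}
    (h : ∀ j, Cong (f j) (kap (m j))) : Cong (∑ j ∈ s, f j) (kap (∑ j ∈ s, m j)) := by
  induction s using Finset.induction_on with
  | empty =>
    rw [Finset.sum_empty, Finset.sum_empty, show kap 0 = 0 by simp [kap]]
    exact cong_refl 0
  | insert a s ha ih =>
    rw [Finset.sum_insert ha, Finset.sum_insert ha]
    exact cong_trans (cong_add (h a) ih) (kap_add _ _)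

theorem cls_gen (i : Fin 9) (n : Fin 12 → ZMod 2) : cls (genC i) n = actL i n := by
  refine cls_eq ?_
  let φ : leechLattice →+ leechLattice := AddMonoidHom.mk' (gen i : Equiv.Perm leechLattice) (gen i).2.1
  show Cong (φ (∑ j, (n j).val • Bv j)) _
  rw [map_sum]
  refine cong_sum fun j => ?_
  rw [map_nsmul]
  rcases (show ∀ x : ZMod 2, x = 0 ∨ x = 1 by decide) (n j) with e | e <;> rw [e]
  · rw [ZMod.val_zero, zero_smul, zero_smul, show kap 0 = 0 by simp [kap]]
    exact cong_refl 0
  · rw [ZMod.val_one, one_smul, one_smul]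
    exact gen_Bv_cong i j

/-- The action of a word on classes. -/
def actW (l : List (Fin 9)) (n : Fin 12 → ZMod 2) : Fin 12 → ZMod 2 := l.foldr actL n

theorem cls_gWC : ∀ (l : List (Fin 9)) (n : Fin 12 → ZMod 2), cls (gWC l) n = actW l n
  | [], n => cls_one n
  | i :: l, n => by
    rw [gWC, List.map_cons, List.prod_cons, ← gWC, cls_mul, cls_gWC l n, cls_gen]
    rfl

/-! ### The monomial stabiliser of a class -/

/-- The class of the standard vector of squared length 64. -/
def n0 : Fin 12 → ZMod 2 := Pi.single 11 1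

theorem kap_n0 : kap n0 = LeechOrder.base8 := by
  rw [n0, kap_single]
  exact Subtype.ext ((funext fun p => (by decide +kernel : ∀ p, fv (bas12 11) p =
    (Pi.single none 8 : GolayPt → ℤ) p) p).trans LeechOrder.coe_base8.symm)

/-- The quadratic condition on the classes of vectors of squared length 64. -/
def qn (n : Fin 12 → ZMod 2) : Bool := decide (dot12 (comb n) (comb n) % 32 = 0)

theorem qn_of_cong {v : leechLattice} {n : Fin 12 → ZMod 2} (hv : sqNorm (v : GolayPt → ℤ) = 64)
    (h : Cong v (kap n)) : qn n = true := by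
  obtain ⟨y, hy⟩ := h
  refine decide_eq_true ?_
  rw [← dot_fv, ← coe_kap]
  have hc := congrArg Subtype.val hy
  simp only [AddSubgroup.coe_add] at hc
  have ha := ThreeTransp.LeechForm.eight_dvd_dot (kap n) y
  have hb := ThreeTransp.LeechForm.eight_dvd_dot y y
  obtain ⟨K, hK⟩ : ∃ K : GolayPt → ℤ, (kap n : GolayPt → ℤ) = K := ⟨_, rfl⟩
  obtain ⟨Y, hY⟩ : ∃ Y : GolayPt → ℤ, (y : GolayPt → ℤ) = Y := ⟨_, rfl⟩
  rw [hK, hY] at ha hc
  rw [hK]
  rw [hY] at hb
  rw [show sqNorm (v : GolayPt → ℤ) = dotInt (v : GolayPt → ℤ) (v : GolayPt → ℤ) from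
    Finset.sum_congr rfl fun i _ => pow_two _, hc, dotInt_add_left, dotInt_add_left, dot_comm' K (K + (Y + Y)),
    dot_comm' Y (K + (Y + Y)), dotInt_add_left, dotInt_add_left, dotInt_add_left, dotInt_add_left,
    dot_comm' Y K] at hv
  omega

theorem qn_cls (g : CC) : qn (cls g n0) = true :=
  qn_of_cong ((((g : Co0)).2.2 _).trans LeechOrder.norm_base8) (kap_n0 ▸ cls_spec g n0)

/-- The same condition, computed on the bits of a code number. -/
def qk (k : ℕ) : Bool :=
  let a := fun j => k / 2 ^ j % 2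
  decide ((3 * (a 0 * a 0 + (a 0 + 2 * a 1) ^ 2 + (a 0 + 2 * a 2) ^ 2 + (a 0 + 2 * a 3) ^ 2 + (a 0 + 2 * a 4) ^ 2 +
      (a 0 + 2 * a 5) ^ 2) +
    (a 0 + 2 * a 1 + 2 * a 2 + 2 * a 3 + 2 * a 5 + 4 * a 6) ^ 2 +
    (a 0 + 2 * a 1 + 2 * a 2 + 2 * a 4 + 2 * a 5 + 4 * a 7) ^ 2 +
    (a 0 + 2 * a 1 + 2 * a 2 + 2 * a 3 + 2 * a 4 + 4 * a 8) ^ 2 +
    (a 0 + 2 * a 1 + 2 * a 3 + 2 * a 4 + 2 * a 5 + 4 * a 9) ^ 2 +
    (a 0 + 2 * a 1 + 2 * a 2 + 2 * a 3 + 2 * a 4 + 2 * a 5 + 4 * a 10) ^ 2 +
    (5 * a 0 + 2 * a 2 + 2 * a 3 + 2 * a 4 + 2 * a 5 + 4 * a 6 + 4 * a 7 + 4 * a 8 + 4 * a 9 + 4 * a 10 +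
      8 * a 11) ^ 2) % 32 = 0)

theorem card_qk : ((Finset.range 4096).filter fun k => qk k = true).card ≤ 2080 := by decide +kernel

theorem kn_bits (n : Fin 12 → ZMod 2) : kn n < 4096 ∧ ∀ j : Fin 12, kn n / 2 ^ (j : ℕ) % 2 = (n j).val := by
  have h := fun j => ZMod.val_lt (n j)
  have h0 := h 0; have h1 := h 1; have h2 := h 2; have h3 := h 3; have h4 := h 4; have h5 := h 5
  have h6 := h 6; have h7 := h 7; have h8 := h 8; have h9 := h 9; have h10 := h 10; have h11 := h 11
  simp only [kn, Fin.sum_univ_succ, Fin.sum_univ_zero, Fin.succ_zero_eq_one, Fin.succ_one_eq_two]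
  refine ⟨by simp; omega, fun j => ?_⟩
  fin_cases j <;> simp <;> omega

theorem qk_kn {n : Fin 12 → ZMod 2} (h : qn n = true) : qk (kn n) = true := by
  obtain ⟨r0, r1, r2, r3, r4, r5, r6, r7, r8, r9, r10, r11⟩ := bas12_rows
  have hb := (kn_bits n).2
  have b0 := hb 0; have b1 := hb 1; have b2 := hb 2; have b3 := hb 3; have b4 := hb 4; have b5 := hb 5
  have b6 := hb 6; have b7 := hb 7; have b8 := hb 8; have b9 := hb 9; have b10 := hb 10; have b11 := hb 11
  simp only [Fin.val_zero, Fin.val_one, Fin.val_two, Fin.coe_ofNat_eq_mod, Nat.reduceMod] at b0 b1 b2 b3 b4 b5 b6 b7 b8 b9 b10 b11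
  simp only [qn, qk, decide_eq_true_eq, b0, b1, b2, b3, b4, b5, b6, b7, b8, b9, b10, b11] at h ⊢
  rw [← Int.natCast_inj]
  push_cast
  refine (congrArg (· % 32) ?_).trans h
  simp [dot12, comb, Fin.sum_univ_succ, r0, r1, r2, r3, r4, r5, r6, r7, r8, r9, r10, r11]
  ring

theorem kn_injective : Function.Injective kn := fun n m h => funext fun j => by
  refine ZMod.val_injective 2 ?_
  rw [← (kn_bits n).2, ← (kn_bits m).2, h]

theorem card_qn : Nat.card {n : Fin 12 → ZMod 2 // qn n = true} ≤ 2080 := by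
  refine le_trans ?_ card_qk
  rw [← Nat.card_eq_finsetCard]
  exact Nat.card_le_card_of_injective
    (fun n => ⟨kn n.1, Finset.mem_filter.2 ⟨Finset.mem_range.2 (kn_bits n.1).1, qk_kn n.2⟩⟩)
    fun n m h => Subtype.ext (kn_injective (congrArg Subtype.val h))

theorem mem_stab (g : CC) : cls g n0 = n0 ↔ (g : Co0) ∈ monoSub := by
  rw [← cong_base, ← kap_n0]
  exact ⟨fun h => by have := cls_spec g n0; rwa [h] at this, cls_eq⟩

theorem card_stab : Nat.card ↥(monoSub.subgroupOf CC) ≤ 69120 := by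
  refine le_trans (le_of_eq (Nat.card_congr ?_)) card_mono
  exact ⟨fun x => ⟨⟨((x : CC) : Co0), x.2⟩, (x : CC).2⟩, fun y => ⟨⟨((y : monoSub) : Co0), y.2⟩, (y : monoSub).2⟩,
    fun _ => rfl, fun _ => rfl⟩

theorem card_CC : Nat.card CC ≤ 2080 * 69120 := by
  have := finite_Co0
  rw [Subgroup.card_eq_card_quotient_mul_card_subgroup (monoSub.subgroupOf CC)]
  refine Nat.mul_le_mul (le_trans ?_ card_qn) card_stab
  refine Nat.card_le_card_of_injective (fun q => ⟨cls q.out n0, qn_cls q.out⟩) fun q q' e => ?_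
  simp only [Subtype.mk.injEq] at e
  rw [← q.out_eq', ← q'.out_eq', QuotientGroup.eq, Subgroup.mem_subgroupOf]
  refine (mem_stab _).1 ?_
  rw [cls_mul, ← e, ← cls_mul, inv_mul_cancel, cls_one]

/-! ### Signs and the element -/

/-- Negation in the centraliser. -/
noncomputable def negC : CC :=
  ⟨negG, mem_CC.2 ((Subgroup.mem_center_iff.1 negG_central sg).symm)⟩

/-- The element in its centraliser. -/
noncomputable def sC : CC := ⟨sg, mem_CC.2 (Commute.refl sg)⟩

theorem rho_negC : rho negC = negO := by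
  refine Subtype.ext (LinearEquiv.ext fun w => ?_)
  show (rho negC).1 w = -w
  conv_lhs => rw [← projW_liftW w]
  rw [rho_apply, ← projW_smul negC.2 (sg_liftW w)]
  show projW (negG • liftW w) = _
  rw [negG_smul, map_neg, projW_liftW]

theorem rho_sC : rho sC = 1 := by
  refine Subtype.ext (LinearEquiv.ext fun w => ?_)
  show (rho sC).1 w = w
  conv_lhs => rw [← projW_liftW w]
  rw [rho_apply, ← projW_smul sC.2 (sg_liftW w)]
  show projW (sg • liftW w) = _
  rw [sg_liftW, projW_liftW]

theorem theta_negC : theta negC = 1 :=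
  theta_eq_one fun n => ⟨-kap n, by show negG • kap n = _; rw [negG_smul]; abel⟩

theorem theta_sC : theta sC = 1 := theta_eq_one fun n => by
  show Cong (sg • kap n) _
  rw [sg_kap]
  exact cong_refl _

theorem sg_three : sg ^ 3 = 1 :=
  congrArg Subtype.val (show permM sM ^ 3 = 1 by rw [← map_pow, sM_pow, map_one])

theorem sg_ne : sg ≠ 1 := fun h => by
  refine (by decide +kernel : ¬ ∀ i, tblFun sigT i = i) fun i => ?_
  have h1 := sg_unit i
  rw [h, one_smul] at h1
  have h2 := congrFun (congrArg (fun v : leechLattice => (v : GolayPt → ℤ)) h1) i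
  by_contra hne
  simp [LeechCenter.unitVec, Pi.single_apply, Ne.symm (show sigma i ≠ i from hne)] at h2

theorem negG_sq : negG * negG = 1 :=
  Held.co0_ext fun i => by rw [mul_smul, negG_smul, negG_smul, neg_neg, one_smul]

theorem negG_ne : negG ≠ 1 := fun e0 => by
  have := congrArg (fun x : Co0 => ((x • LeechOrder.base8 : leechLattice) : GolayPt → ℤ) none) e0
  simp only [negG_smul, one_smul, AddSubgroup.coe_neg, Pi.neg_apply, LeechOrder.coe_base8,
    Pi.single_eq_same] at this
  norm_num at this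

theorem order_TT : orderOf (sC * negC) = 6 := by
  have : Fact (Nat.Prime 2) := ⟨Nat.prime_two⟩
  have : Fact (Nat.Prime 3) := ⟨Nat.prime_three⟩
  have h2 : orderOf negC = 2 :=
    orderOf_eq_prime (Subtype.ext (by rw [SubmonoidClass.coe_pow, pow_two]; exact negG_sq))
      fun h => negG_ne (congrArg Subtype.val h)
  have h3 : orderOf sC = 3 :=
    orderOf_eq_prime (Subtype.ext (by rw [SubmonoidClass.coe_pow]; exact sg_three))
      fun h => sg_ne (congrArg Subtype.val h)
  have hc : Commute sC negC := Subtype.ext (Subgroup.mem_center_iff.1 negG_central sg)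
  rw [hc.orderOf_mul_eq_mul_orderOf_of_coprime (by rw [h2, h3]; norm_num), h2, h3]

/-! ### The projective action -/

/-- The projective action. -/
noncomputable def rb : CC →* PO6 := mkP.comp rho

theorem OmP_le : OmP ≤ rb.range := by
  rintro _ ⟨x, hx, rfl⟩
  obtain ⟨g, rfl⟩ := commutator_le_range hx
  exact ⟨g, rfl⟩

/-- The determinant. -/
noncomputable def dt : orthGroup Q6 →* ZMod 3 where
  toFun g := LinearMap.det (g.1 : W6 →ₗ[ZMod 3] W6)
  map_one' := LinearMap.det_id
  map_mul' g h := by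
    rw [← map_mul]
    rfl

theorem dt_commutator {x : orthGroup Q6} (hx : x ∈ commutator (orthGroup Q6)) : dt x = 1 := by
  have h := Abelianization.commutator_subset_ker dt.toHomUnits hx
  exact congrArg Units.val (show dt.toHomUnits x = 1 from h)

theorem dt_negO : dt negO = 1 := by
  show LinearMap.det ((negEl Q6).1 : W6 →ₗ[ZMod 3] W6) = 1
  rw [show ((negEl Q6).1 : W6 →ₗ[ZMod 3] W6) = (-1 : ZMod 3) • LinearMap.id from
    LinearMap.ext fun v => (negEl_apply v).trans (neg_one_smul (ZMod 3) v).symm, LinearMap.det_smul,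
    LinearMap.det_id, mul_one, Module.finrank_fintype_fun_eq_card]
  decide

theorem refl_not_mem : mkP (refl Q6 e0) ∉ OmP := by
  rintro ⟨y, hy, he⟩
  have hd : dt (refl Q6 e0) = -1 := det_refl Q6 (a := e0) (by rw [Q6_apply]; decide +kernel)
  have h1 : dt (y⁻¹ * refl Q6 e0) = 1 := by
    rcases mkP_eq_one.1 (show mkP (y⁻¹ * refl Q6 e0) = 1 by rw [map_mul, map_inv, he, inv_mul_cancel]) with r | r
    · rw [r, map_one]
    · rw [r, dt_negO]
  rw [map_mul, dt_commutator (inv_mem hy), hd, one_mul] at h1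
  exact absurd h1 (by decide)

theorem two_card_OmP : 2 * Nat.card OmP ≤ Nat.card rb.range := by
  have := finite_Co0
  have hne : OmP.subgroupOf rb.range ≠ ⊤ := fun h => by
    rw [Subgroup.subgroupOf_eq_top] at h
    exact refl_not_mem (h ⟨genC 3, congrArg mkP rho_three⟩)
  rw [← Subgroup.card_mul_index (OmP.subgroupOf rb.range),
    Nat.card_congr (Subgroup.subgroupOfEquivOfLe OmP_le).toEquiv, mul_comm]
  refine Nat.mul_le_mul_left _ ?_
  have h0 := Subgroup.index_ne_zero_of_finite (H := OmP.subgroupOf rb.range)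
  have h1 := mt Subgroup.index_eq_one.1 hne
  omega

theorem card_mul : Nat.card rb.ker * Nat.card rb.range ≤ 2080 * 69120 := by
  refine le_trans (le_of_eq ?_) card_CC
  rw [Subgroup.card_eq_card_quotient_mul_card_subgroup rb.ker,
    Nat.card_congr (QuotientGroup.quotientKerEquivRange rb).toEquiv, mul_comm]

/-- The word of the element of the kernel that is not trivial on the classes. -/
def lH : List (Fin 9) := wordH.map fun g => Fin.ofNat 9 g

theorem rho_lH : rho (gWC lH) = negO :=
  Subtype.ext (LinearEquiv.toLinearMap_injective ((Pi.basisFun (ZMod 3) I6).ext fun k => by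
    rw [Pi.basisFun_apply]
    exact (rho_gWC lH _).trans ((by decide +kernel : ∀ k : I6,
      rgW lH (Pi.single k 1) = -Pi.single k 1) k)))

theorem TT_mem : sC * negC ∈ theta.ker ∧ sC * negC ∈ rb.ker := by
  constructor
  · rw [MonoidHom.mem_ker, map_mul, theta_sC, theta_negC, one_mul]
  · rw [MonoidHom.mem_ker, rb, MonoidHom.comp_apply, map_mul, rho_sC, rho_negC, one_mul]
    exact mkP_eq_one.2 (Or.inr rfl)

/-- The kernel has order 18 and only six elements of it act trivially on the classes. -/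
theorem ker_facts : Nat.card rb.ker = 18 ∧ Nat.card ↥(theta.ker ⊓ rb.ker) = 6 := by
  classical
  have := finite_Co0
  set K0 : Subgroup CC := theta.ker ⊓ rb.ker with hK0
  have h6 : 6 ∣ Nat.card K0 := by
    rw [← order_TT]
    refine Subgroup.orderOf_dvd_natCard K0 ⟨?_, ?_⟩
    · exact TT_mem.1
    · exact TT_mem.2
  have hm : Nat.card (rb.ker.map theta) * Nat.card K0 = Nat.card rb.ker := card_map_mul' theta rb.ker
  have h3 : 3 ≤ Nat.card (rb.ker.map theta) := by
    set t := theta (gWC lH * gWC lH) with ht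
    have hmem : t ∈ rb.ker.map theta := ⟨_, by
      show rb (gWC lH * gWC lH) = 1
      rw [rb, MonoidHom.comp_apply, map_mul, rho_lH, negO_sq, map_one], rfl⟩
    have hne : t ≠ 1 ∧ t * t ≠ 1 := by
      have key : (¬ ∀ j, actW (lH ++ lH) (Pi.single j 1) = Pi.single j 1) ∧
          ¬ ∀ j, actW (lH ++ lH ++ (lH ++ lH)) (Pi.single j 1) = Pi.single j 1 := by decide +kernel
      have e2 : gWC lH * gWC lH = gWC (lH ++ lH) := by rw [gWC, gWC, List.map_append, List.prod_append]
      have e4 : gWC (lH ++ lH) * gWC (lH ++ lH) = gWC (lH ++ lH ++ (lH ++ lH)) := by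
        rw [gWC, gWC, List.map_append (l₁ := lH ++ lH), List.prod_append]
      refine ⟨fun h => key.1 fun j => ?_, fun h => key.2 fun j => ?_⟩
      · rw [← cls_gWC, ← e2, ← theta_apply, ← ht, h]
        rfl
      · rw [← cls_gWC, ← e4, ← theta_apply, map_mul, ← e2, ← ht, h]
        rfl
    have h2 : t⁻¹ ∈ rb.ker.map theta := inv_mem hmem
    refine le_trans (le_of_eq ?_) (Nat.card_le_card_of_injective
      (fun i : Fin 3 => (⟨![1, t, t⁻¹] i, by fin_cases i <;> first | exact one_mem _ | exact hmem | exact h2⟩ :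
        rb.ker.map theta)) fun i j h => ?_)
    · simp
    · have h' := congrArg Subtype.val h
      fin_cases i <;> fin_cases j <;> simp at h' <;> first
        | rfl
        | exact absurd h' hne.1
        | exact absurd h'.symm hne.1
        | exact absurd (mul_eq_one_iff_eq_inv.2 h') hne.2
        | exact absurd (mul_eq_one_iff_eq_inv.2 h'.symm) hne.2
  have h22 : Nat.card rb.ker ≤ 22 := by
    have h := (Nat.mul_le_mul_left (Nat.card rb.ker) two_card_OmP).trans card_mul
    rw [card_OmP] at h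
    generalize Nat.card rb.ker = k at h ⊢
    omega
  obtain ⟨m, hm6⟩ := h6
  have hK0pos : 0 < Nat.card K0 := Nat.card_pos
  have h36 : 3 * Nat.card K0 ≤ Nat.card (rb.ker.map theta) * Nat.card K0 := Nat.mul_le_mul_right _ h3
  have hK6 : Nat.card K0 = 6 := by omega
  refine ⟨?_, hK6⟩
  rw [hK6] at hm
  omega

theorem card_rb_range : Nat.card rb.range = 2 * Nat.card OmP := by
  have := finite_Co0
  have h := card_mul
  rw [ker_facts.1] at h
  have h2 := two_card_OmP
  obtain ⟨k, hk⟩ := Subgroup.card_dvd_of_le OmP_le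
  rw [hk] at h h2 ⊢
  rw [card_OmP] at h h2 ⊢
  omega

theorem ker_theta_le : theta.ker ≤ rb.ker := by
  have := finite_Co0
  have := simple_OmP
  set X : Subgroup PO6 := theta.ker.map rb with hX
  have hnorm : ∀ o ∈ OmP, ∀ x ∈ X, o * x * o⁻¹ ∈ X := by
    rintro o ho _ ⟨g, hg, rfl⟩
    obtain ⟨h, rfl⟩ := OmP_le ho
    exact ⟨h * g * h⁻¹, (inferInstance : theta.ker.Normal).conj_mem g hg h, by rw [map_mul, map_mul, map_inv]⟩
  have hXcard : Nat.card X ≤ 69120 := by
    have hle : theta.ker ≤ monoSub.subgroupOf CC := fun g hg => by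
      rw [Subgroup.mem_subgroupOf, ← mem_stab, ← theta_apply, show theta g = 1 from hg]
      rfl
    have h1 : Nat.card X ∣ Nat.card theta.ker := Subgroup.card_map_dvd theta.ker rb
    have h2 : Nat.card theta.ker ≤ Nat.card ↥(monoSub.subgroupOf CC) := Subgroup.card_le_of_le hle
    have h0 : 0 < Nat.card theta.ker := Nat.card_pos
    exact le_trans (Nat.le_of_dvd h0 h1) (le_trans h2 card_stab)
  have hbot : ∀ x ∈ X, x ∈ OmP → x = 1 := by
    have hn : (X.subgroupOf OmP).Normal := ⟨fun x hx o => hnorm o o.2 x hx⟩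
    intro x hx hxo
    rcases hn.eq_bot_or_eq_top with h | h
    · exact congrArg Subtype.val
        ((Subgroup.eq_bot_iff_forall _).1 h (⟨x, hxo⟩ : OmP) (Subgroup.mem_subgroupOf.2 hx))
    · rw [Subgroup.subgroupOf_eq_top] at h
      have := (Subgroup.card_le_of_le h).trans hXcard
      rw [card_OmP] at this
      omega
  intro g hg
  have hx : rb g ∈ X := ⟨g, hg, rfl⟩
  have hc : rb g ∈ Subgroup.centralizer (OmP : Set PO6) := Subgroup.mem_centralizer_iff.2 fun o ho => by
    refine mul_inv_eq_one.1 (hbot _ ?_ ?_)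
    · rw [mul_inv_rev, ← mul_assoc]
      exact mul_mem (hnorm o ho _ hx) (inv_mem hx)
    · rw [mul_inv_rev, ← mul_assoc, mul_assoc o, mul_assoc o]
      exact mul_mem ho ((inferInstance : OmP.Normal).conj_mem _ (inv_mem ho) (rb g))
  rw [centralizer_OmP, Subgroup.mem_bot] at hc
  exact hc

/-- An element trivial on the classes is a power of the element up to sign. -/
theorem theta_kernel {g : CC} (h : theta g = 1) : ∃ k : ℕ, pj (g : Co0) = pj sg ^ k := by
  have := finite_Co0
  have hg : g ∈ theta.ker ⊓ rb.ker := ⟨h, ker_theta_le h⟩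
  have hT : Subgroup.zpowers (sC * negC) = theta.ker ⊓ rb.ker := by
    refine Subgroup.eq_of_le_of_card_ge (Subgroup.zpowers_le.2 ⟨?_, ?_⟩) (le_of_eq ?_)
    · exact TT_mem.1
    · exact TT_mem.2
    · rw [Nat.card_zpowers, order_TT, ker_facts.2]
  rw [← hT, ← mem_powers_iff_mem_zpowers] at hg
  obtain ⟨k, rfl⟩ := hg
  refine ⟨k, ?_⟩
  show pj ((((sC * negC) ^ k : CC)) : Co0) = _
  rw [SubmonoidClass.coe_pow, Subgroup.coe_mul, map_pow, map_mul]
  show (pj sg * pj negG) ^ k = _
  rw [pj_negG, mul_one]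

/-- The image of the kernel in the quotient by the centre. -/
theorem card_pjK : Nat.card (rb.ker.map (pj.comp CC.subtype)) = 9 := by
  have := finite_Co0
  have h := card_map_mul' (pj.comp CC.subtype) rb.ker
  rw [ker_facts.1] at h
  have h2 : Nat.card ↥((pj.comp CC.subtype).ker ⊓ rb.ker) = 2 := by
    have e : (pj.comp CC.subtype).ker ⊓ rb.ker = Subgroup.zpowers negC := by
      refine le_antisymm (fun g hg => ?_) (Subgroup.zpowers_le.2 ⟨pj_negG, ?_⟩)
      · rcases center_cases' ((QuotientGroup.eq_one_iff _).1 (show pj (g : Co0) = 1 from hg.1)) with r | r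
        · rw [show g = 1 from Subtype.ext r]
          exact one_mem _
        · rw [show g = negC from Subtype.ext r]
          exact Subgroup.mem_zpowers _
      · show rb negC = 1
        rw [rb, MonoidHom.comp_apply, rho_negC]
        exact mkP_eq_one.2 (Or.inr rfl)
    rw [e, Nat.card_zpowers]
    have : Fact (Nat.Prime 2) := ⟨Nat.prime_two⟩
    exact orderOf_eq_prime (Subtype.ext (by rw [SubmonoidClass.coe_pow, pow_two]; exact negG_sq))
      fun h => negG_ne (congrArg Subtype.val h)
  rw [h2] at h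
  omega

end CfsgLib.Sporadic.MonsterFusion.FI
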