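import Cfsg.Agent.Lib.Sporadic.MonsterFusion.HeldElts

/-!
The centraliser of the element in the lattice group and its action on a three-dimensional space of
classes.
-/

set_option autoImplicit false
set_option maxRecDepth 20000

namespace CfsgLib.Sporadic.MonsterFusion.Held

open Cfsg CfsgLib.SmallGroups CfsgLib.SmallGroups.Golay CfsgLib.SmallGroups.M24Group
  CfsgLib.Sporadic.M24Orbits CfsgLib.SmallGroups.LeechGroup

theorem cong_refl (v : leechLattice) : Cong v v := ⟨0, by simp⟩

theorem cong_symm {v w : leechLattice} (h : Cong v w) : Cong w v := by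
  obtain ⟨x, rfl⟩ := h
  exact ⟨-x, by abel⟩

theorem cong_trans {u v w : leechLattice} (h : Cong u v) (h' : Cong v w) : Cong u w := by
  obtain ⟨x, rfl⟩ := h
  obtain ⟨y, rfl⟩ := h'
  exact ⟨y + x, by abel⟩

/-! ### The elements fixing the base class -/

/-- The word of three letters. -/
def wE (e : Fin 3 → Bool) : GolayPt → ZMod 2 := fun p => if e (Fin.ofNat 3 (blk p)) then 1 else 0

theorem wE_mem (e : Fin 3 → Bool) : wE e ∈ golayCode :=
  mem_code_iff_isCW.2 ((by decide +kernel : ∀ e, isCW (mask (wE e)) = true) e)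

/-- A signed commuting element. -/
noncomputable def elt (t : Fin 6) (e : Fin 3 → Bool) : Co0 :=
  ((sgn ⟨wE e, wE_mem e⟩ * permM (piM t) : monoSub) : Co0)

/-- Its action on block vectors. -/
def actA (t : Fin 6) (e : Fin 3 → Bool) (a : Fin 6 → ℤ) : Fin 6 → ℤ := fun b =>
  if e (Fin.ofNat 3 b) then -a (tau6 (tinv t) b) else a (tau6 (tinv t) b)

theorem elt_fv (t : Fin 6) (e : Fin 3 → Bool) {v : leechLattice} {a : Fin 6 → ℤ}
    (h : (v : GolayPt → ℤ) = fv a) : ((elt t e • v : leechLattice) : GolayPt → ℤ) = fv (actA t e a) := by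
  funext q
  obtain ⟨p, rfl⟩ := (piP t).surjective q
  rw [elt, Subgroup.coe_mul, mul_smul, sgn_apply, permM_apply,
    show ((piM t : M24) : Equiv.Perm GolayPt).symm (piP t p) = p from (piP t).symm_apply_apply p, h]
  have hb : blk (piP t p) = tau6 t (blk p) :=
    (by decide +kernel : ∀ t p, blk (cand false t (shiftOf t) p) = tau6 t (blk p)) t p
  simp only [fv, actA, wE, hb, (tinv_spec t (blk p)).1]
  by_cases hc : e (Fin.ofNat 3 (tau6 t (blk p) : ℕ)) = true <;> simp [hc]

theorem commute_permM {π : M24} (h : π * sM = sM * π) : Commute ((permM π : monoSub) : Co0) sg :=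
  congrArg Subtype.val (show permM π * permM sM = permM sM * permM π by rw [← map_mul, ← map_mul, h])

theorem sgn_commute_iff (w : golayCode) :
    Commute ((sgn w : monoSub) : Co0) sg ↔ ∀ p, (w : GolayPt → ZMod 2) (sigma p) = (w : GolayPt → ZMod 2) p := by
  constructor
  · intro h p
    have h1 : (sgn w : Co0) • (sg • LeechCenter.unitVec p) = sg • ((sgn w : Co0) • LeechCenter.unitVec p) := by
      rw [← mul_smul, ← mul_smul, h.eq]
    have h2 := congrFun (congrArg (fun v : leechLattice => (v : GolayPt → ℤ)) h1) (sigma p)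
    simp only [sg_unit, sgn_apply, sg_apply, Equiv.symm_apply_apply, LeechCenter.unitVec,
      Pi.single_eq_same] at h2
    rcases (show ∀ x : ZMod 2, x = 0 ∨ x = 1 by decide) ((w : GolayPt → ZMod 2) (sigma p)) with e | e <;>
      rcases (show ∀ x : ZMod 2, x = 0 ∨ x = 1 by decide) ((w : GolayPt → ZMod 2) p) with e' | e' <;>
      simp [e, e'] at h2 ⊢
  · intro h
    refine co0_ext fun i => Subtype.ext (funext fun q => ?_)
    obtain ⟨p, rfl⟩ := sigma.surjective q
    rw [mul_smul, mul_smul, sgn_apply, sg_apply, sg_apply, sgn_apply, Equiv.symm_apply_apply, h]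

theorem elt_commute (t : Fin 6) (e : Fin 3 → Bool) : Commute (elt t e) sg := by
  rw [elt, Subgroup.coe_mul]
  refine Commute.mul_left ((sgn_commute_iff _).2 fun p => ?_) (commute_permM (sM_comm t))
  exact (by decide +kernel : ∀ e p, wE e (tblFun sigT p) = wE e p) e p

theorem permOf_sg : permOf (permM sM) = sM := permOf_permM sM

theorem mono_classify {g : Co0} (hg : g ∈ monoSub) (hc : Commute g sg) :
    ∃ (n : ℕ) (t : Fin 6) (e : Fin 3 → Bool), g = sg ^ n * elt t e := by
  set g' : monoSub := ⟨g, hg⟩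
  have hc' : g' * permM sM = permM sM * g' := Subtype.ext hc.eq
  have hπ : permOf g' * sM = sM * permOf g' := by
    rw [← permOf_sg, ← map_mul, ← map_mul, hc']
  obtain ⟨-, n, t, hnt⟩ := classify (π := permOf g') (d := false) fun p =>
    congrArg (fun x : M24 => (x : Equiv.Perm GolayPt) p) hπ
  obtain ⟨w, hw⟩ := exists_sgn (g := g' * (permM (permOf g'))⁻¹) (by
    rw [map_mul, map_inv, permOf_permM, mul_inv_cancel])
  have hwc : Commute ((sgn w : monoSub) : Co0) sg := by
    rw [← hw, Subgroup.coe_mul, Subgroup.coe_inv]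
    exact hc.mul_left (commute_permM hπ).inv_left
  have hinv := (sgn_commute_iff w).1 hwc
  have hblk : ∀ p, (w : GolayPt → ZMod 2) p = (w : GolayPt → ZMod 2) (rep (blk p)) := by
    have hi : ∀ n q, (w : GolayPt → ZMod 2) ((tblFun sigT)^[n] q) = (w : GolayPt → ZMod 2) q := by
      intro n
      induction n with
      | zero => intro q; rfl
      | succ n ih =>
        intro q
        rw [Function.iterate_succ', Function.comp]
        exact (hinv _).trans (ih q)
    intro p
    conv_lhs => rw [← pos_spec p]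
    rw [hi]
  have hwb : (w : GolayPt → ZMod 2) = bword fun b => decide ((w : GolayPt → ZMod 2) (rep b) = 1) := by
    funext p
    rw [hblk p]
    simp only [bword, decide_eq_true_eq]
    rcases (show ∀ x : ZMod 2, x = 0 ∨ x = 1 by decide) ((w : GolayPt → ZMod 2) (rep (blk p))) with r | r <;>
      simp [r]
  obtain ⟨h3, h4, h5⟩ := bword_code _ (mem_code_iff_isCW.1 (hwb ▸ w.2))
  refine ⟨n, t, fun j => decide ((w : GolayPt → ZMod 2) (rep (Fin.ofNat 6 j)) = 1), ?_⟩
  have hwe : w = ⟨wE fun j => decide ((w : GolayPt → ZMod 2) (rep (Fin.ofNat 6 j)) = 1), wE_mem _⟩ := by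
    refine Subtype.ext ?_
    conv_lhs => rw [hwb]
    funext p
    have hbb : ∀ (B : Fin 6 → Bool), B 3 = B 0 → B 4 = B 1 → B 5 = B 2 →
        ∀ b : Fin 6, B b = B (Fin.ofNat 6 ((Fin.ofNat 3 (b : ℕ) : Fin 3) : ℕ)) := by
      intro B k3 k4 k5 b
      fin_cases b
      exacts [rfl, rfl, rfl, k3, k4, k5]
    exact congrArg (fun x : Bool => if x then (1 : ZMod 2) else 0)
      (hbb (fun b => decide ((w : GolayPt → ZMod 2) (rep b) = 1)) h3 h4 h5 (blk p))
  have hg' : g = ((sgn w : monoSub) : Co0) * (sg ^ n * ((permM (piM t) : monoSub) : Co0)) := by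
    have : g' = sgn w * permM (permOf g') := by rw [← hw, inv_mul_cancel_right]
    rw [hnt, map_mul, map_pow] at this
    exact congrArg Subtype.val this
  rw [hg', ← mul_assoc, (hwc.pow_right n).eq, mul_assoc, elt, Subgroup.coe_mul, ← hwe]

theorem pow_smul_fixed {v : leechLattice} (h : sg • v = v) (n : ℕ) : sg ^ n • v = v := by
  induction n with
  | zero => rw [pow_zero, one_smul]
  | succ n ih => rw [pow_succ, mul_smul, h, ih]

theorem sg_kap (n : Fin 6 → ZMod 2) : sg • kap n = kap n := sg_fv (coe_kap n)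

/-! ### The orbit of the base class -/

/-- The class with the given code number. -/
def kof (k : ℕ) : Fin 6 → ZMod 2 := fun j => if k.testBit j then 1 else 0

/-- The three spanning classes of the orbit. -/
def iota (a : Fin 3 → ZMod 2) : Fin 6 → ZMod 2 := fun i => a 0 * kof 32 i + a 1 * kof 60 i + a 2 * kof 14 i

theorem iota_add (a b : Fin 3 → ZMod 2) : iota (a + b) = iota a + iota b := by
  funext i
  simp only [iota, Pi.add_apply]
  ring

theorem iota_inj : ∀ a, iota a = 0 → a = 0 := by decide +kernel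

theorem iota_64 : ∀ a, a ≠ 0 → kn (iota a) ∈ uCls := by decide +kernel

theorem iota_surj : ∀ n, kn n ∈ uCls → ∃ a, a ≠ 0 ∧ n = iota a := by decide +kernel

theorem base_iota : Cong LeechOrder.base8 (kap (iota (Pi.single 0 1))) := by
  rw [show iota (Pi.single 0 1) = kof 32 by decide +kernel]
  exact base_kap

theorem sg_base : sg • LeechOrder.base8 = LeechOrder.base8 := by
  rw [LeechOrder.base8, sg_unit, show sigma none = none by decide +kernel]

theorem exists_U (a : Fin 3 → ZMod 2) (ha : a ≠ 0) :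
    ∃ g : Co0, Commute g sg ∧ Cong (g • LeechOrder.base8) (kap (iota a)) := by
  rcases (by decide +kernel : ∀ a : Fin 3 → ZMod 2, a ≠ 0 → a = Pi.single 0 1 ∨
      ∃ t e, congB (actA t e (comb (kof 60))) (comb (iota a)) = true) a ha with rfl | ⟨t, e, h⟩
  · exact ⟨1, Commute.one_left _, by rw [one_smul]; exact base_iota⟩
  · obtain ⟨g, hg, hb⟩ := exists_gU
    refine ⟨elt t e * g, (elt_commute t e).mul_left hg, ?_⟩
    rw [mul_smul]
    exact cong_trans (cong_smul _ hb) ((cong_iff (elt_fv t e (coe_kap _)) (coe_kap _)).2 h)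

theorem orbit_sub {g : Co0} (hg : Commute g sg) {n : Fin 6 → ZMod 2}
    (hn : Cong (g • LeechOrder.base8) (kap n)) : ∃ a, a ≠ 0 ∧ n = iota a := by
  have hno : sqNorm ((g • LeechOrder.base8 : leechLattice) : GolayPt → ℤ) = 64 :=
    (g.2.2 _).trans LeechOrder.norm_base8
  refine iota_surj n ((cl64 hno hn).resolve_right fun hV => ?_)
  have key : ∀ (k : ℕ) (gk : Co0), gk * sg⁻¹ = sg * gk → Cong (gk • LeechOrder.base8) (kap (kof k)) →
      ∀ (t : Fin 6) (e : Fin 3 → Bool), congB (actA t e (comb (kof k))) (comb n) = true → False := by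
    intro k gk hgk hk t e h
    have h1 : Cong ((elt t e * gk) • LeechOrder.base8) (g • LeechOrder.base8) := by
      rw [mul_smul]
      exact cong_trans (cong_trans (cong_smul _ hk)
        ((cong_iff (elt_fv t e (coe_kap _)) (coe_kap _)).2 h)) (cong_symm hn)
    have h2 := cong_smul (elt t e * gk)⁻¹ h1
    rw [inv_smul_smul, smul_smul] at h2
    set y := (elt t e * gk)⁻¹ * g with hy
    have hym : y ∈ monoSub := (cong_base y).1 (cong_symm h2)
    have hyc : y * sg = sg⁻¹ * y := by
      have e1 : (elt t e * gk)⁻¹ * sg = sg⁻¹ * (elt t e * gk)⁻¹ := by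
        rw [inv_mul_eq_iff_eq_mul, mul_assoc, ← mul_assoc gk, hgk, ← mul_assoc, ← mul_assoc,
          (elt_commute t e).eq, mul_assoc sg, mul_inv_cancel_right]
      rw [hy, mul_assoc, hg.eq, ← mul_assoc, e1, mul_assoc]
    have hc' : (⟨y, hym⟩ : monoSub) * permM sM = (permM sM)⁻¹ * ⟨y, hym⟩ := Subtype.ext hyc
    have hπ : permOf ⟨y, hym⟩ * sM = sM⁻¹ * permOf ⟨y, hym⟩ := by
      rw [← permOf_sg, ← map_inv, ← map_mul, ← map_mul, hc']
    have := (classify (π := permOf ⟨y, hym⟩) (d := true) fun p =>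
      congrArg (fun x : M24 => (x : Equiv.Perm GolayPt) p) hπ).1
    exact Bool.noConfusion this
  obtain ⟨gA, hgA, hA⟩ := exists_gA
  obtain ⟨gB, hgB, hB⟩ := exists_gB
  rcases (by decide +kernel : ∀ n, kn n ∈ vCls →
      (∃ t e, congB (actA t e (comb (kof 4))) (comb n) = true) ∨
        ∃ t e, congB (actA t e (comb (kof 25))) (comb n) = true) n hV with ⟨t, e, h⟩ | ⟨t, e, h⟩
  · exact key 4 gA hgA hA t e h
  · exact key 25 gB hgB hB t e h

theorem U_invariant {g : Co0} (hg : Commute g sg) (a : Fin 3 → ZMod 2) :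
    ∃ a', Cong (g • kap (iota a)) (kap (iota a')) := by
  by_cases ha : a = 0
  · subst ha
    refine ⟨0, ?_⟩
    have h0 : kap (iota 0) = 0 := by
      rw [show iota 0 = 0 from funext fun i => by simp [iota]]
      simp [kap]
    rw [h0, show g • (0 : leechLattice) = 0 from
      map_zero (AddMonoidHom.mk' (g : Equiv.Perm leechLattice) g.2.1)]
    exact cong_refl 0
  obtain ⟨ga, hga, hb⟩ := exists_U a ha
  have hfix : sg • ((g * ga) • LeechOrder.base8) = (g * ga) • LeechOrder.base8 := by
    rw [smul_smul, ← (hg.mul_left hga).eq, mul_smul, sg_base]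
  obtain ⟨n, hn⟩ := span _ hfix
  obtain ⟨a', -, rfl⟩ := orbit_sub (hg.mul_left hga) hn
  refine ⟨a', cong_trans ?_ hn⟩
  rw [mul_smul]
  exact cong_symm (cong_smul g hb)

/-- An element fixing the three classes is a power of the element up to sign. -/
theorem kernel_U {g : Co0} (hg : Commute g sg)
    (h : ∀ a, Cong (g • kap (iota a)) (kap (iota a))) : ∃ n : ℕ, pj g = pj sg ^ n := by
  have hm : g ∈ monoSub := (cong_base g).1
    (cong_trans (cong_trans (cong_smul g base_iota) (h _)) (cong_symm base_iota))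
  obtain ⟨n, t, e, rfl⟩ := mono_classify hm hg
  have hfix : ∀ a, congB (actA t e (comb (iota a))) (comb (iota a)) = true := fun a => by
    have h1 : Cong ((elt t e) • kap (iota a)) ((sg ^ n)⁻¹ • kap (iota a)) := by
      have := cong_smul (sg ^ n)⁻¹ (h a)
      rwa [smul_smul, inv_mul_cancel_left] at this
    rw [inv_smul_eq_iff.2 (pow_smul_fixed (sg_kap _) n).symm] at h1
    exact (cong_iff (elt_fv t e (coe_kap _)) (coe_kap _)).1 h1
  obtain ⟨rfl, h01, h02⟩ := (by decide +kernel : ∀ t e,
    (∀ a : Fin 3 → ZMod 2, congB (actA t e (comb (iota a))) (comb (iota a)) = true) →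
      t = 0 ∧ e 0 = e 1 ∧ e 0 = e 2) t e hfix
  refine ⟨n, ?_⟩
  rw [map_mul, map_pow, mul_eq_left]
  have hpi : piM 0 = 1 := Subtype.ext (Equiv.ext fun p =>
    (by decide +kernel : ∀ p, cand false 0 (shiftOf 0) p = p) p)
  rw [elt, hpi, map_one, mul_one]
  cases h0 : e 0
  · rw [show (⟨wE e, wE_mem e⟩ : golayCode) = 0 from Subtype.ext (funext fun p => by
        have : e (Fin.ofNat 3 (blk p)) = false := by
          generalize Fin.ofNat 3 (blk p) = j
          fin_cases j <;> simp_all
        show wE e p = 0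
        simp only [wE, this]; rfl), sgn_zero]
    exact map_one _
  · rw [show (⟨wE e, wE_mem e⟩ : golayCode) = ⟨1, LeechBasic.one_mem_code⟩ from
        Subtype.ext (funext fun p => by
          have : e (Fin.ofNat 3 (blk p)) = true := by
            generalize Fin.ofNat 3 (blk p) = j
            fin_cases j <;> simp_all
          show wE e p = 1
          simp only [wE, this]; rfl), one_word]
    exact pj_negG

/-- The stabiliser of the base class induces all maps fixing the first coordinate. -/
theorem stab_U : ∀ p q : Fin 3 → ZMod 2, p 1 * q 2 + p 2 * q 1 = 1 →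
    ∃ (t : Fin 6) (e : Fin 3 → Bool),
      congB (actA t e (comb (iota (Pi.single 0 1)))) (comb (iota (Pi.single 0 1))) = true ∧
      congB (actA t e (comb (iota (Pi.single 1 1)))) (comb (iota p)) = true ∧
      congB (actA t e (comb (iota (Pi.single 2 1)))) (comb (iota q)) = true := by
  decide +kernel

end CfsgLib.Sporadic.MonsterFusion.Held
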