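import Cfsg.Agent.Lib.Sporadic.MonsterFusion.BabyData
import Cfsg.Agent.Lib.Sporadic.MonsterFusion.HeldOrbit

/-!
Lifting the element of order seven and its centraliser into the centraliser of the involution.
-/

set_option autoImplicit false

namespace CfsgLib.Sporadic.MonsterFusion.Held

open Cfsg CfsgLib.SmallGroups CfsgLib.SmallGroups.LeechGroup CfsgLib.ThreeTransp.Extraspecial

/-- An element of order prime to a normalised subgroup has a fixed point in each stable coset. -/
theorem coprime_fix {K : Type*} [Group K] {p : ℕ} [Fact p.Prime] {b q : K} {A : Subgroup K} [Finite A]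
    (hb : b ^ p = 1) (hA : ∀ a ∈ A, b * a * b⁻¹ ∈ A) (hq : q⁻¹ * b * q * b⁻¹ ∈ A)
    (hp : ¬ p ∣ Nat.card A) : ∃ a ∈ A, Commute b (q * a) := by
  classical
  have := Fintype.ofFinite A
  let f : A → A := fun a => ⟨q⁻¹ * b * q * b⁻¹ * (b * (a : K) * b⁻¹), mul_mem hq (hA a a.2)⟩
  have hf : ∀ a : A, q * (f a : K) = b * (q * a) * b⁻¹ := fun a => by
    show q * (q⁻¹ * b * q * b⁻¹ * (b * (a : K) * b⁻¹)) = _
    group
  have hinj : Function.Injective f := fun a c h => by
    have := congrArg (fun x : A => q * (x : K)) h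
    simp only [hf, mul_left_inj, mul_right_inj] at this
    exact Subtype.ext this
  let σ : Equiv.Perm A := Equiv.ofBijective f (Finite.injective_iff_bijective.1 hinj)
  have hpow : ∀ (n : ℕ) (a : A), q * ((σ ^ n) a : K) = b ^ n * (q * a) * (b ^ n)⁻¹ := by
    intro n
    induction n with
    | zero => intro a; simp
    | succ n ih =>
      intro a
      rw [pow_succ', Equiv.Perm.mul_apply, show σ ((σ ^ n) a) = f ((σ ^ n) a) from rfl, hf, ih,
        pow_succ']
      group
  have hσ : σ ^ p ^ 1 = 1 := by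
    refine Equiv.ext fun a => Subtype.ext (mul_left_cancel (a := q) ?_)
    rw [pow_one, hpow, hb]
    simp
  obtain ⟨a, ha⟩ := Equiv.Perm.exists_fixed_point_of_prime
    (by rwa [← Nat.card_eq_fintype_card]) hσ
  refine ⟨a, a.2, ?_⟩
  have h := hf a
  rw [show f a = a from ha] at h
  exact (eq_mul_inv_iff_mul_eq.1 h).symm

theorem not_seven_dvd_two_pow (n : ℕ) : ¬ 7 ∣ 2 ^ n := fun h => by
  have := (by norm_num : Nat.Prime 7).dvd_of_dvd_pow h
  norm_num at this

theorem card_M1 : Nat.card M1 * 2 = 4096 * 244823040 := by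
  have h := card_map_mul' phi ⊤
  rwa [← MonoidHom.range_eq_map, inf_top_eq, card_phi_ker, Subgroup.card_top, card_monoSub] at h

theorem fact7 : (Nat.card M1).factorization 7 = 1 := by
  have h := card_M1
  rw [show Nat.card M1 = 7 * 71628226560 by omega, Nat.factorization_mul (by norm_num) (by norm_num),
    Finsupp.add_apply, (by norm_num : Nat.Prime 7).factorization_self,
    Nat.factorization_eq_zero_of_not_dvd (by norm_num)]

theorem sM_pow : sM ^ 7 = 1 := Subtype.ext (Equiv.ext fun p => by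
  rw [SubmonoidClass.coe_pow, Equiv.Perm.coe_pow]
  exact (by decide +kernel : ∀ p, (M24Orbits.tblFun sigT)^[7] p = p) p)

theorem sg_pow : sg ^ 7 = 1 :=
  congrArg Subtype.val (show permM sM ^ 7 = 1 by rw [← map_pow, sM_pow, map_one])

theorem pj_sg : orderOf (pj sg) = 7 := by
  have : Fact (Nat.Prime 7) := ⟨by norm_num⟩
  refine orderOf_eq_prime (by rw [← map_pow, sg_pow, map_one]) fun h => ?_
  have h1 : permM sM ∈ phi.ker := h
  have h2 := (mem_phi_ker h1).1
  rw [permOf_permM] at h2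
  exact (by decide +kernel : ¬ ∀ p, M24Orbits.tblFun sigT p = p)
    fun p => congrArg (fun x : M24 => (x : Equiv.Perm GolayPt) p) h2

theorem finite_Co1 : Finite Spor.Co1 := by
  have := finite_Co0
  exact inferInstanceAs (Finite (Co0 ⧸ Subgroup.center Co0))

/-- An element of order seven of the cross stabiliser has a power conjugate to ours. -/
theorem conj_to_sg {x : Spor.Co1} (hx : x ∈ M1) (h7 : orderOf x = 7) :
    ∃ (m : monoSub) (i : ℕ), x ^ i = pj (m : Co0) * pj sg * (pj (m : Co0))⁻¹ := by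
  classical
  have := finite_Co1
  have : Fact (Nat.Prime 7) := ⟨by norm_num⟩
  have hf := fact7
  have hy : pj sg ∈ M1 := ⟨permM sM, rfl⟩
  have hc : ∀ u : M1, orderOf u = 7 → Nat.card (Subgroup.zpowers u) = 7 ^ (Nat.card M1).factorization 7 :=
    fun u hu => by rw [Nat.card_zpowers, hu, hf, pow_one]
  let P := Sylow.ofCard _ (hc ⟨pj sg, hy⟩ (by rw [Subgroup.orderOf_mk, pj_sg]))
  let R := Sylow.ofCard _ (hc ⟨x, hx⟩ (by rw [Subgroup.orderOf_mk, h7]))
  obtain ⟨⟨c, m, rfl⟩, hcR⟩ := MulAction.exists_smul_eq M1 P R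
  have hmem : (⟨phi m, m, rfl⟩ : M1) * ⟨pj sg, hy⟩ * (⟨phi m, m, rfl⟩ : M1)⁻¹ ∈ (R : Subgroup M1) := by
    rw [← hcR, Sylow.coe_subgroup_smul]
    exact Subgroup.mem_map_of_mem _ (Subgroup.mem_zpowers _)
  obtain ⟨i, hi⟩ := mem_powers_iff_mem_zpowers.2 hmem
  exact ⟨m, i, congrArg Subtype.val hi⟩

variable {G : Type*} [Group G] [Finite G] {z : G} {Q : Subgroup (Subgroup.centralizer ({z} : Set G))}
  [Q.Normal] {e : (Subgroup.centralizer ({z} : Set G)) ⧸ Q ≃* Spor.Co1}
  {ψ : leechLattice → Q ⧸ Subgroup.center Q}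

/-- A change of identification by a lattice automorphism. -/
theorem transport (F : Frame Q e ψ) (K : Co0) :
    Frame Q (e.trans (MulAut.conj (pj K)).symm) (fun v => ψ (K • v)) := by
  refine ⟨F.core, fun v w => ?_, fun x => ?_, fun v => ?_, fun h g hg v q hq => ?_⟩
  · simp only [ThreeTransp.LeechForm.smul_add', F.iso.1]
  · obtain ⟨v, hv⟩ := F.iso.2.1 x
    exact ⟨K⁻¹ • v, by simp only [smul_inv_smul, hv]⟩
  · rw [F.iso.2.2.1]
    constructor
    · rintro ⟨w, hw⟩
      refine ⟨K⁻¹ • w, ?_⟩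
      rw [← ThreeTransp.LeechForm.smul_add', ← hw, inv_smul_smul]
    · rintro ⟨w, rfl⟩
      exact ⟨K • w, ThreeTransp.LeechForm.smul_add' _ _ _⟩
  · have hg' : pj (K * g * K⁻¹) = e (QuotientGroup.mk h) := by
      rw [map_mul, map_mul, map_inv]
      change pj K * pj g * (pj K)⁻¹ = _
      rw [show pj g = (MulAut.conj (pj K)).symm (e (QuotientGroup.mk h)) from hg, MulAut.conj_symm_apply]
      group
    have := F.rep_smul hg' (v := K • v) hq
    rwa [smul_smul, inv_mul_cancel_right, mul_smul] at this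

/-- A generator of the Sylow subgroup and an identification in which it is the standard element. -/
theorem setup (F : Frame Q e ψ) {s : G} (hsC : s ∈ Subgroup.centralizer ({z} : Set G))
    (hsQ : (⟨s, hsC⟩ : Subgroup.centralizer ({z} : Set G)) ∈ Q) (hs : IsConj z s) (hs1 : s ≠ z)
    (B : Subgroup G) (hB : B ≤ Subgroup.centralizer ({z, s} : Set G))
    (hBp : Nat.card B = 7 ^ (Nat.card ↥(Subgroup.centralizer ({z, s} : Set G))).factorization 7) :
    ∃ (b : Subgroup.centralizer ({z} : Set G))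
      (e' : (Subgroup.centralizer ({z} : Set G)) ⧸ Q ≃* Spor.Co1)
      (ψ' : leechLattice → Q ⧸ Subgroup.center Q),
      B = Subgroup.zpowers (b : G) ∧ orderOf (b : G) = 7 ∧ Frame Q e' ψ' ∧
        e' (QuotientGroup.mk b) = pj sg := by
  classical
  have : Fact (Nat.Prime 7) := ⟨by norm_num⟩
  have : Fact (Nat.Prime 2) := ⟨Nat.prime_two⟩
  obtain ⟨g, hg⟩ := isConj_iff.1 hs
  have := finite_Co1
  obtain ⟨k, hX, -⟩ := F.exists_cross (u := ⟨_, hsQ⟩) hg (hg ▸ hs1)
  set c := MulAut.conj (pj k) with hc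
  set L := (Subgroup.centralizer ({z, s} : Set G)).subgroupOf (Subgroup.centralizer ({z} : Set G)) with hL
  have hLle : Subgroup.centralizer ({z, s} : Set G) ≤ Subgroup.centralizer ({z} : Set G) :=
    Subgroup.centralizer_le (Set.singleton_subset_iff.2 (Set.mem_insert _ _))
  have hmemL : ∀ h : Subgroup.centralizer ({z} : Set G), h ∈ L ↔ h * ⟨s, hsC⟩ = ⟨s, hsC⟩ * h := by
    intro h
    rw [hL, Subgroup.mem_subgroupOf, Subgroup.mem_centralizer_iff]
    constructor
    · intro hh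
      exact Subtype.ext (hh s (Or.inr rfl)).symm
    · rintro hh x (rfl | rfl)
      · exact (Subgroup.mem_centralizer_singleton_iff.1 h.2).symm
      · exact (congrArg Subtype.val hh).symm
  have hcard : ∃ n, Nat.card (Subgroup.centralizer ({z, s} : Set G)) = 2 ^ n * Nat.card M1 := by
    have h := card_map_mul' (e.toMonoidHom.comp (QuotientGroup.mk' Q)) L
    have hmap : L.map (e.toMonoidHom.comp (QuotientGroup.mk' Q)) = M1.map c.toMonoidHom := by
      ext x
      rw [← hX x]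
      exact ⟨fun ⟨h, hh, e'⟩ => ⟨h, e', (hmemL h).1 hh⟩, fun ⟨h, e', hh⟩ => ⟨h, (hmemL h).2 hh, e'⟩⟩
    have hk : IsPGroup 2 ↥((e.toMonoidHom.comp (QuotientGroup.mk' Q)).ker ⊓ L) := by
      refine F.extra.isPGroup.to_le fun x hx => (QuotientGroup.eq_one_iff x).1 ?_
      exact e.map_eq_one_iff.1 (MonoidHom.mem_ker.1 hx.1)
    obtain ⟨n, hn⟩ := IsPGroup.iff_card.1 hk
    refine ⟨n, ?_⟩
    rw [← Nat.card_congr (Subgroup.subgroupOfEquivOfLe hLle).toEquiv, ← hL, ← h, hmap,
      Subgroup.card_map_of_injective c.injective, hn, mul_comm]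
  obtain ⟨n, hn⟩ := hcard
  have h7 : Nat.card B = 7 := by
    rw [hBp, hn, Nat.factorization_mul (by positivity) Nat.card_pos.ne', Finsupp.add_apply,
      Nat.factorization_eq_zero_of_not_dvd (not_seven_dvd_two_pow n), zero_add, fact7, pow_one]
  obtain ⟨⟨b0, hb0⟩, hb07⟩ := exists_prime_orderOf_dvd_card' (G := B) 7 (dvd_of_eq h7.symm)
  rw [Subgroup.orderOf_mk] at hb07
  set b1 : Subgroup.centralizer ({z} : Set G) := ⟨b0, hLle (hB hb0)⟩ with hb1
  obtain ⟨x, hx, hxe⟩ := (hX (e (QuotientGroup.mk b1))).1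
    ⟨b1, rfl, (hmemL b1).1 (Subgroup.mem_subgroupOf.2 (hB hb0))⟩
  have hb17 : orderOf b1 = 7 := by rw [hb1, Subgroup.orderOf_mk, hb07]
  have hx7 : orderOf x = 7 := by
    rw [← orderOf_injective c.toMonoidHom c.injective, hxe, MulEquiv.orderOf_eq]
    refine orderOf_eq_prime (by rw [← QuotientGroup.mk_pow, ← hb17, pow_orderOf_eq_one, QuotientGroup.mk_one]) fun h1 => ?_
    obtain ⟨j, hj⟩ := F.extra.isPGroup ⟨b1, (QuotientGroup.eq_one_iff _).1 h1⟩
    have := orderOf_dvd_of_pow_eq_one (congrArg Subtype.val hj : b1 ^ 2 ^ j = 1)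
    rw [hb17] at this
    exact not_seven_dvd_two_pow j this
  obtain ⟨m, i, hi⟩ := conj_to_sg hx hx7
  have hbi : orderOf (b0 ^ i) = 7 := by
    refine orderOf_eq_prime ?_ fun h1 => ?_
    · rw [← pow_mul, mul_comm, pow_mul, ← hb07, pow_orderOf_eq_one, one_pow]
    · have := orderOf_dvd_of_pow_eq_one h1
      rw [hb07, ← hx7, orderOf_dvd_iff_pow_eq_one, hi, conj_eq_one_iff] at this
      have h7 := pj_sg
      rw [this, orderOf_one] at h7
      omega
  refine ⟨b1 ^ i, _, _, ?_, hbi, transport F (k * m), ?_⟩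
  · refine (Subgroup.eq_of_le_of_card_ge (Subgroup.zpowers_le.2 ?_) ?_).symm
    · rw [Subgroup.coe_pow]
      exact pow_mem hb0 i
    · rw [Nat.card_zpowers, h7, Subgroup.coe_pow]
      exact hbi.ge
  · show (MulAut.conj (pj (k * (m : Co0)))).symm (e (QuotientGroup.mk (b1 ^ i))) = _
    rw [QuotientGroup.mk_pow, map_pow, ← hxe, ← map_pow, hi, MulAut.conj_symm_apply, map_mul, hc]
    simp [mul_assoc]

namespace Frame7

variable {b : Subgroup.centralizer ({z} : Set G)}

theorem b_pow (hb7 : orderOf (b : G) = 7) : b ^ 7 = 1 := by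
  rw [← hb7, Subgroup.orderOf_coe, pow_orderOf_eq_one]

/-- An element of `Q` over a fixed class commutes with `b`. -/
theorem rep_commute (F : Frame Q e ψ) (hb7 : orderOf (b : G) = 7) (hb : e (QuotientGroup.mk b) = pj sg)
    {v : leechLattice} (hv : Cong (sg • v) v) {q : Q} (hq : Rep ψ v q) :
    Commute b (q : Subgroup.centralizer ({z} : Set G)) := by
  have h := F.rep_unique hq ((F.psi_eq_iff.2 (cong_symm hv)).trans (F.rep_smul hb.symm hq))
  rcases h with r | r
  · exact mul_inv_eq_iff_eq_mul.1 r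
  · simp only at r
    have hbz : b * zC z * b⁻¹ = zC z := by
      refine Subtype.ext ?_
      show (b : G) * z * (b : G)⁻¹ = z
      rw [Subgroup.mem_centralizer_singleton_iff.1 b.2, mul_inv_cancel_right]
    have h2 : (b * b) * (q : Subgroup.centralizer ({z} : Set G)) * (b * b)⁻¹ = q := by
      calc _ = b * (b * q * b⁻¹) * b⁻¹ := by group
        _ = b * (q * zC z) * b⁻¹ := by rw [r]
        _ = b * q * b⁻¹ * (b * zC z * b⁻¹) := by group
        _ = q := by rw [r, hbz, mul_assoc, F.extra.z_sq, mul_one]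
    have h3 : Commute (b * b) (q : Subgroup.centralizer ({z} : Set G)) := mul_inv_eq_iff_eq_mul.1 h2
    have h4 := h3.pow_left 4
    rwa [← sq, ← pow_mul, show 2 * 4 = 7 + 1 from rfl, pow_add, b_pow hb7, one_mul, pow_one] at h4

/-- The classes of elements of `Q` commuting with `b`. -/
theorem exists_kap (F : Frame Q e ψ) (hb : e (QuotientGroup.mk b) = pj sg)
    {q : Q} (hq : Commute b (q : Subgroup.centralizer ({z} : Set G))) :
    ∃ n, Rep ψ (kap n) q := by
  obtain ⟨v, hv⟩ := F.exists_vec q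
  have h1 : Cong (sg • v) v := by
    refine F.psi_eq_iff.1 (((F.rep_smul hb.symm hv).trans ?_).trans hv.symm)
    exact congrArg _ (Subtype.ext (show b * q * b⁻¹ = q by rw [hq.eq, mul_inv_cancel_right]))
  have hn : ∀ i : ℕ, ψ (sg ^ i • v) = ψ v := by
    intro i
    induction i with
    | zero => rw [pow_zero, one_smul]
    | succ i ih =>
      rw [pow_succ, mul_smul, ← ih]
      exact F.psi_eq_iff.2 (cong_smul _ h1)
  let φ : leechLattice →+ leechLattice := AddMonoidHom.mk' (sg : Equiv.Perm leechLattice) sg.2.1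
  set v' := ∑ i ∈ Finset.range 7, sg ^ i • v with hv'
  have hfix : sg • v' = v' := by
    have e0 : sg • v' = ∑ i ∈ Finset.range 7, sg ^ (i + 1) • v := by
      show φ v' = _
      rw [hv', map_sum]
      exact Finset.sum_congr rfl fun i _ => by rw [pow_succ', mul_smul]; rfl
    have h8 := Finset.sum_range_succ' (fun i => sg ^ i • v) 7
    rw [Finset.sum_range_succ] at h8
    simp only [sg_pow, pow_zero] at h8
    rw [e0, hv']
    exact (add_right_cancel h8).symm
  have hψ : ψ v' = ψ v := by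
    have hsum : ∀ k, ψ (∑ i ∈ Finset.range k, sg ^ i • v) = ψ v ^ k := by
      intro k
      induction k with
      | zero => rw [Finset.sum_range_zero, pow_zero, (F.iso.2.2.1 0).2 ⟨0, by simp⟩]
      | succ k ih => rw [Finset.sum_range_succ, F.iso.1, ih, hn, pow_succ]
    rw [hv', hsum]
    have h2 : ψ v * ψ v = 1 := by rw [← F.iso.1, (F.iso.2.2.1 _).2 ⟨v, rfl⟩]
    rw [show 7 = 2 * 3 + 1 from rfl, pow_succ, pow_mul, pow_two, h2, one_pow, one_mul]
  obtain ⟨n, hn'⟩ := span v' hfix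
  exact ⟨n, ((F.psi_eq_iff.2 hn').symm.trans hψ).trans hv⟩

/-- An element commuting with ours lifts to one commuting with `b`. -/
theorem lift (F : Frame Q e ψ) (hb7 : orderOf (b : G) = 7) (hb : e (QuotientGroup.mk b) = pj sg)
    {g : Co0} (hg : Commute g sg) : ∃ h : Subgroup.centralizer ({z} : Set G),
      Commute b h ∧ e (QuotientGroup.mk h) = pj g := by
  have : Fact (Nat.Prime 7) := ⟨by norm_num⟩
  obtain ⟨h0, hh0⟩ := Frame.exists_lift (e := e) g
  have hmem : h0⁻¹ * b * h0 * b⁻¹ ∈ Q := by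
    rw [← QuotientGroup.eq_one_iff, ← e.map_eq_one_iff]
    simp only [QuotientGroup.mk_mul, QuotientGroup.mk_inv, map_mul, map_inv, ← hh0, hb]
    have := hg.map pj
    rw [mul_assoc (pj g)⁻¹, ← this.eq, inv_mul_cancel_left, mul_inv_cancel]
  obtain ⟨a, ha, hc⟩ := coprime_fix (p := 7) (b_pow hb7)
    (fun a ha => (inferInstance : Q.Normal).conj_mem a ha b) hmem
    (by rw [F.core.2.2.2.1]; exact not_seven_dvd_two_pow _)
  refine ⟨h0 * a, hc, ?_⟩
  rw [QuotientGroup.mk_mul, (QuotientGroup.eq_one_iff a).2 ha, mul_one, hh0]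

/-- The image of an element commuting with `b` commutes with ours. -/
theorem exists_pre (hb : e (QuotientGroup.mk b) = pj sg) {h : Subgroup.centralizer ({z} : Set G)}
    (hh : Commute b h) : ∃ g : Co0, Commute g sg ∧ pj g = e (QuotientGroup.mk h) := by
  obtain ⟨g, hg⟩ := QuotientGroup.mk_surjective (e (QuotientGroup.mk h))
  refine ⟨g, ?_, hg⟩
  have h1 : Commute (pj sg) (pj g) := by
    rw [show pj g = e (QuotientGroup.mk h) from hg, ← hb]
    exact (hh.map (QuotientGroup.mk' Q)).map e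
  have h2 : (g * sg) * (sg * g)⁻¹ ∈ Subgroup.center Co0 := by
    refine (QuotientGroup.eq_one_iff _).1 ?_
    show pj ((g * sg) * (sg * g)⁻¹) = 1
    rw [map_mul, map_inv, map_mul, map_mul, h1.eq, mul_inv_cancel]
  rcases center_cases' h2 with r | r
  · exact mul_inv_eq_one.1 r
  · exfalso
    have hneg : negG ≠ 1 := fun e0 => by
      have := congrArg (fun x : Co0 => ((x • LeechOrder.base8 : leechLattice) : GolayPt → ℤ) none) e0
      simp only [negG_smul, one_smul, AddSubgroup.coe_neg, Pi.neg_apply, LeechOrder.coe_base8,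
        Pi.single_eq_same] at this
      norm_num at this
    have hgs : g * sg * g⁻¹ = negG * sg := by
      rw [mul_inv_eq_iff_eq_mul] at r ⊢
      rw [r, mul_assoc]
    have h7 := congrArg (· ^ 7) hgs
    simp only [conj_pow, sg_pow, mul_one, mul_inv_cancel] at h7
    rw [(Subgroup.mem_center_iff.1 negG_central sg).symm |>
      fun h : negG * sg = sg * negG => (show Commute negG sg from h).mul_pow, sg_pow, mul_one] at h7
    have hn2 : negG * negG = 1 := by
      refine co0_ext fun i => ?_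
      rw [mul_smul, negG_smul, negG_smul, neg_neg, one_smul]
    rw [show 7 = 2 * 3 + 1 from rfl, pow_succ, pow_mul, pow_two, hn2, one_pow, one_mul] at h7
    exact hneg h7.symm

/-- A class of squared length 64 commuting with `b` is conjugate to `z` by an element commuting
with `b`. -/
theorem conj_in (F : Frame Q e ψ) (hb7 : orderOf (b : G) = 7) {x : Q}
    (hx : Commute b (x : Subgroup.centralizer ({z} : Set G))) (hcl : Cl ψ 64 x) :
    ∃ g : G, Commute (b : G) g ∧ g * z * g⁻¹ = ((x : Subgroup.centralizer ({z} : Set G)) : G) := by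
  have : Fact (Nat.Prime 7) := ⟨by norm_num⟩
  have : Fact (Nat.Prime 2) := ⟨Nat.prime_two⟩
  have hb7' : (b : G) ^ 7 = 1 := congrArg Subtype.val (b_pow hb7)
  set xG : G := ((x : Subgroup.centralizer ({z} : Set G)) : G) with hxG
  set Q0 := Q.map (Subgroup.centralizer ({z} : Set G)).subtype with hQ0
  obtain ⟨hconj, hne⟩ := (F.conj_iff x).2 hcl
  obtain ⟨g0, (hg0 : g0 * z * g0⁻¹ = xG)⟩ := isConj_iff.1 hconj
  have hbx : (b : G) * xG = xG * b := congrArg Subtype.val hx.eq
  have hbz : (b : G) * z = z * b := Subgroup.mem_centralizer_singleton_iff.1 b.2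
  set Q' := Q0.map (MulAut.conj g0).toMonoidHom with hQ'
  have hE : Extra Q' xG := hg0 ▸ F.setting.ext.map_conj g0
  have hxQ0 : xG ∈ Q0 := ⟨x, x.2, rfl⟩
  have hzQ' : z ∈ Q' := mem_map_conj.2 (F.setting.symm (hg0 ▸ hxQ0) (hg0 ▸ hne))
  have hb' : ∀ y ∈ Q', (b : G) * y * (b : G)⁻¹ ∈ Q' := fun y hy =>
    F.setting.conj_normal (by rw [hg0]; exact hbx) hy
  have hb0 : ∀ y ∈ Q0, (b : G) * y * (b : G)⁻¹ ∈ Q0 := by
    rintro _ ⟨y, hy, rfl⟩
    exact ⟨b * y * b⁻¹, (inferInstance : Q.Normal).conj_mem y hy b, rfl⟩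
  have key : ∀ (H : Subgroup G) (c u : G), Extra H c → u ∈ H → u ≠ 1 → u ≠ c →
      (∀ y ∈ H, (b : G) * y * (b : G)⁻¹ ∈ H) → (b : G) * u = u * b → (b : G) * c = c * b →
      ∃ q : G, Commute (b : G) q ∧ q * u * q⁻¹ = u * c := by
    intro H c u hH hu hu1 huc hbH hbu hbc
    obtain ⟨q, hq, hqu⟩ := hH.exists_conj_eq hu hu1 huc
    set A := H ⊓ Subgroup.centralizer ({u} : Set G) with hA
    obtain ⟨k, hk⟩ := IsPGroup.iff_card.1 (hH.isPGroup.to_le (inf_le_left : A ≤ H))
    have hbu' : (b : G) * u * (b : G)⁻¹ = u := by rw [hbu, mul_inv_cancel_right]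
    have hbc' : (b : G) * c * (b : G)⁻¹ = c := by rw [hbc, mul_inv_cancel_right]
    have hq' : q⁻¹ * (b : G) * q * (b : G)⁻¹ ∈ A := by
      refine ⟨by simpa [mul_assoc] using mul_mem (inv_mem hq) (hbH q hq),
        Subgroup.mem_centralizer_singleton_iff.2 (mul_inv_eq_iff_eq_mul.1 ?_)⟩
      calc q⁻¹ * (b : G) * q * (b : G)⁻¹ * u * (q⁻¹ * (b : G) * q * (b : G)⁻¹)⁻¹
          = q⁻¹ * ((b : G) * (q * ((b : G)⁻¹ * u * b) * q⁻¹) * (b : G)⁻¹) * q := by group
        _ = q⁻¹ * ((b : G) * (q * u * q⁻¹) * (b : G)⁻¹) * q := by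
          rw [mul_assoc _ u, ← hbu, inv_mul_cancel_left]
        _ = q⁻¹ * (u * c) * q := by rw [hqu, ← conj_mul, hbu', hbc']
        _ = u := by rw [← hqu]; group
    obtain ⟨a, ha, hc⟩ := coprime_fix (p := 7) (A := A) hb7' (fun y hy => ⟨hbH y hy.1,
      Subgroup.mem_centralizer_singleton_iff.2 (mul_inv_eq_iff_eq_mul.1 (by
        calc (b : G) * y * (b : G)⁻¹ * u * ((b : G) * y * (b : G)⁻¹)⁻¹
            = (b : G) * (y * ((b : G)⁻¹ * u * b) * y⁻¹) * (b : G)⁻¹ := by group
          _ = (b : G) * (y * u * y⁻¹) * (b : G)⁻¹ := by rw [mul_assoc _ u, ← hbu, inv_mul_cancel_left]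
          _ = u := by rw [Subgroup.mem_centralizer_singleton_iff.1 hy.2, mul_inv_cancel_right, hbu']))⟩)
      hq' (hk ▸ not_seven_dvd_two_pow k)
    refine ⟨q * a, hc, ?_⟩
    calc q * a * u * (q * a)⁻¹ = q * (a * u * a⁻¹) * q⁻¹ := by group
      _ = u * c := by
        rw [Subgroup.mem_centralizer_singleton_iff.1 ha.2, mul_inv_cancel_right, hqu]
  obtain ⟨p, hpc, hp⟩ := key Q' xG z hE hzQ' F.setting.ext.z_ne hne.symm hb' hbz hbx
  obtain ⟨q, hqc, hq⟩ := key Q0 z xG F.setting.ext hxQ0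
    (fun h => (F.rep_ne (Or.inr rfl) hcl).1 (Subtype.ext h)) hne hb0 hbx hbz
  refine ⟨q⁻¹ * p, hqc.inv_right.mul_right hpc, ?_⟩
  calc q⁻¹ * p * z * (q⁻¹ * p)⁻¹ = q⁻¹ * (p * z * p⁻¹) * q := by group
    _ = q⁻¹ * (xG * z) * q := by rw [hp, F.setting.ext.z_comm hxQ0]
    _ = xG := by rw [← hq]; group

end Frame7

end CfsgLib.Sporadic.MonsterFusion.Held
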