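import Cfsg.Agent.Lib.Sporadic.MonsterFusion.THFixed
import Cfsg.Agent.Lib.Sporadic.MonsterFusion.HeldLift

/-!
Generators of the centraliser of the element of order three and its intersection with the monomial
group.
-/

set_option autoImplicit false
set_option maxRecDepth 20000

namespace CfsgLib.Sporadic.MonsterFusion.TH

open Cfsg CfsgLib.SmallGroups CfsgLib.SmallGroups.Golay CfsgLib.SmallGroups.M24Group
  CfsgLib.Sporadic.M24Orbits CfsgLib.SmallGroups.LeechGroup CfsgLib.Sporadic.LeechCrossMax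
  CfsgLib.Sporadic.LeechCrossData CfsgLib.SmallGroups.GolayOctads
open scoped Pointwise

theorem sg_unit (i : GolayPt) : sg • LeechCenter.unitVec i = LeechCenter.unitVec (sigma i) := by
  refine Subtype.ext (funext fun q => ?_)
  rw [sg_apply]
  simp [LeechCenter.unitVec, Pi.single_apply, Equiv.symm_apply_eq]

/-- The ten basic permutations. -/
def gp (i : Fin 10) : Equiv.Perm GolayPt :=
  ⟨tblFun (permT.getD i []), tblFun (permI.getD i []),
    (by decide +kernel : ∀ (i : Fin 10) p, tblFun (permI.getD i []) (tblFun (permT.getD i []) p) = p) i,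
    (by decide +kernel : ∀ (i : Fin 10) p, tblFun (permT.getD i []) (tblFun (permI.getD i []) p) = p) i⟩

theorem gp_mem (i : Fin 10) : gp i ∈ M24 :=
  mem_M24_of_basis (f := tblFun (permT.getD i [])) (fun _ => rfl) (fun j hj =>
    (by decide +kernel : ∀ i : Fin 10, ∀ j < 12,
      isCW (mask fun p => word (bas j) (tblFun (permT.getD i []) p)) = true) i j hj)

/-- The same in `M24`. -/
def gM (i : Fin 10) : M24 := ⟨gp i, gp_mem i⟩

theorem gM_comm (i : Fin 10) : gM i * sM = sM * gM i :=
  Subtype.ext (Equiv.ext fun p => (by decide +kernel : ∀ (i : Fin 10) p,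
    tblFun (permT.getD i []) (tblFun sigT p) = tblFun sigT (tblFun (permT.getD i []) p)) i p)

theorem sM_pow : sM ^ 3 = 1 := Subtype.ext (Equiv.ext fun p => by
  rw [SubmonoidClass.coe_pow, Equiv.Perm.coe_pow]
  exact (by decide +kernel : ∀ p, (tblFun sigT)^[3] p = p) p)

/-- The commuting elements of `M24` up to powers of ours. -/
def piM (i : Fin 8) (u : Fin 7) (v : Fin 3) : M24 :=
  gM (Fin.ofNat 10 (i : ℕ)) * gM 8 ^ (u : ℕ) * gM 9 ^ (v : ℕ)

theorem commute_piM (i : Fin 8) (u : Fin 7) (v : Fin 3) : piM i u v * sM = sM * piM i u v := by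
  have h : ∀ j, Commute (gM j) sM := gM_comm
  exact (((h _).mul_left ((h _).pow_left _)).mul_left ((h _).pow_left _)).eq

theorem pow_apply (π : M24) (n : ℕ) (p : GolayPt) :
    ((π ^ n : M24) : Equiv.Perm GolayPt) p = ((π : Equiv.Perm GolayPt))^[n] p := by
  rw [SubmonoidClass.coe_pow, Equiv.Perm.coe_pow]

theorem octad_map {g : Equiv.Perm GolayPt} (hg : g ∈ M24) {o o' F : ℕ} (ho : o ∈ cwOfWeight 8)
    (ho' : o' ∈ cwOfWeight 8) (h5 : 5 ≤ pc (o &&& F))
    (hF : ∀ p, F.testBit (idx p) = true → o.testBit (idx p) = true → o'.testBit (idx (g p)) = true)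
    (p : GolayPt) : o'.testBit (idx (g p)) = o.testBit (idx p) := by
  have hoct : toSet o ∈ octads := mem_octads.mpr ⟨o, ho, rfl⟩
  have hoct' : toSet o' ∈ octads := mem_octads.mpr ⟨o', ho', rfl⟩
  have hst : g • toSet o = toSet o' := by
    refine octad_eq_of_inter (smul_mem_weight hg hoct) hoct' ?_
    refine (le_trans h5 (le_of_eq ((card_toSet _).symm.trans (Finset.card_smul_finset g _).symm))).trans
      (Finset.card_le_card ?_)
    intro q hq
    obtain ⟨r, hr, rfl⟩ := Finset.mem_smul_finset.1 hq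
    rw [← toSet_inter, Finset.mem_inter] at hr
    refine Finset.mem_inter.mpr ⟨Finset.smul_mem_smul_finset hr.1, ?_⟩
    rw [Equiv.Perm.smul_def, mem_toSet]
    exact hF r (mem_toSet.1 hr.2) (mem_toSet.1 hr.1)
  have hmem : g p ∈ toSet o' ↔ p ∈ toSet o := by
    rw [← hst, ← Equiv.Perm.smul_def]
    exact Finset.smul_mem_smul_finset_iff g
  rw [mem_toSet, mem_toSet] at hmem
  exact Bool.eq_iff_iff.2 hmem

/-- The points of the first two cycles. -/
def maskF : ℕ := (List.range 24).foldl (fun m i => if blkT.getD i 0 < 2 then m ||| 2 ^ i else m) 0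

/-- A candidate given by the images of the representatives. -/
def candQ (Q : Fin 8 → GolayPt) (p : GolayPt) : GolayPt := (tblFun sigT)^[pos p] (Q (blk p))

/-- The images of the representatives with the first two cycles fixed up to a shift. -/
def repQ (k : Fin 3) (q2 q3 q4 q5 q6 q7 : GolayPt) : Fin 8 → GolayPt :=
  ![cpt 0 0, cpt 1 k, q2, q3, q4, q5, q6, q7]

/-- A possible image of a representative. -/
def okQ (k : Fin 3) (j : Fin 8) (q : GolayPt) : Bool :=
  (List.range 6).all fun m =>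
    ((octI.getD k []).getD m 0).testBit (idx q) == (octA.getD m 0).testBit (idx (rep j))

theorem search : ∀ k : Fin 3, ∀ q2, okQ k 2 q2 = true → ∀ q3, okQ k 3 q3 = true → ∀ q4, okQ k 4 q4 = true →
    ∀ q5, okQ k 5 q5 = true → ∀ q6, okQ k 6 q6 = true → ∀ q7, okQ k 7 q7 = true →
      ((List.range 12).all fun i => isCW (mask fun p => word (bas i) (candQ (repQ k q2 q3 q4 q5 q6 q7) p))) = true →
        decide (∃ v : Fin 3, ∀ b, repQ k q2 q3 q4 q5 q6 q7 b = (tblFun (permT.getD 9 []))^[(v : ℕ)] (rep b)) =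
          true := by
  decide +kernel

/-- An element of `M24` commuting with ours is one of 504. -/
theorem classify {π : M24} (h : π * sM = sM * π) :
    ∃ (n : ℕ) (i : Fin 8) (u : Fin 7) (v : Fin 3), π = sM ^ n * piM i u v := by
  have hit : ∀ {π : M24}, π * sM = sM * π → ∀ n p, (π : Equiv.Perm GolayPt) ((tblFun sigT)^[n] p) =
      (tblFun sigT)^[n] ((π : Equiv.Perm GolayPt) p) := by
    intro π h n
    induction n with
    | zero => intro p; rfl
    | succ n ih =>
      intro p
      simp only [Function.iterate_succ', Function.comp_apply, ← ih]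
      exact congrArg (fun x : M24 => (x : Equiv.Perm GolayPt) ((tblFun sigT)^[n] p)) h
  obtain ⟨n, i, h0⟩ : ∃ (n : Fin 3) (i : Fin 8),
      (tblFun sigT)^[(n : ℕ)] (tblFun (permT.getD (Fin.ofNat 10 (i : ℕ) : Fin 10) []) (cpt 0 0)) =
        (π : Equiv.Perm GolayPt) (cpt 0 0) :=
    (by decide +kernel : ∀ q, ∃ (n : Fin 3) (i : Fin 8),
      (tblFun sigT)^[(n : ℕ)] (tblFun (permT.getD (Fin.ofNat 10 (i : ℕ) : Fin 10) []) (cpt 0 0)) = q) _
  set x := sM ^ (n : ℕ) * gM (Fin.ofNat 10 (i : ℕ)) with hx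
  set π1 := x⁻¹ * π with hπ1
  have hc1 : π1 * sM = sM * π1 :=
    ((((Commute.refl sM).pow_left _).mul_left (gM_comm _)).inv_left.mul_left h).eq
  have hx1 : π = x * π1 := (mul_inv_cancel_left x π).symm
  have h10 : (π1 : Equiv.Perm GolayPt) (cpt 0 0) = cpt 0 0 := by
    rw [hπ1, Subgroup.coe_mul, Equiv.Perm.mul_apply, Subgroup.coe_inv, Equiv.Perm.inv_eq_iff_eq, hx,
      Subgroup.coe_mul, Equiv.Perm.mul_apply, pow_apply]
    exact h0.symm
  have hcyc : ∀ k : Fin 3, (π1 : Equiv.Perm GolayPt) (cpt 0 k) = cpt 0 k := fun k => by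
    have := hit hc1 (k : ℕ) (cpt 0 0)
    rwa [h10, (by decide +kernel : ∀ k : Fin 3, (tblFun sigT)^[(k : ℕ)] (cpt 0 0) = cpt 0 k) k] at this
  have hb : blk ((π1 : Equiv.Perm GolayPt) (cpt 1 0)) ≠ 0 := by
    intro hb
    obtain ⟨k, hk⟩ := (by decide +kernel : ∀ q, blk q = 0 → ∃ k : Fin 3, cpt 0 k = q) _ hb
    rw [← hcyc k] at hk
    exact (by decide +kernel : ∀ k : Fin 3, cpt 0 k ≠ cpt 1 0) k ((π1 : Equiv.Perm GolayPt).injective hk)
  obtain ⟨u, k, hu⟩ := (by decide +kernel : ∀ q, blk q ≠ 0 → ∃ (u : Fin 7) (k : Fin 3),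
    (tblFun (permT.getD ((8 : Fin 10) : ℕ) []))^[(u : ℕ)] (cpt 1 k) = q) _ hb
  set π2 := (gM 8 ^ (u : ℕ))⁻¹ * π1 with hπ2
  have hc2 : π2 * sM = sM * π2 :=
    (((show Commute (gM 8) sM from gM_comm 8).pow_left _).inv_left.mul_left hc1).eq
  have hx2 : π1 = gM 8 ^ (u : ℕ) * π2 := (mul_inv_cancel_left _ π1).symm
  have h20 : (π2 : Equiv.Perm GolayPt) (cpt 0 0) = cpt 0 0 := by
    rw [hπ2, Subgroup.coe_mul, Equiv.Perm.mul_apply, Subgroup.coe_inv, Equiv.Perm.inv_eq_iff_eq, h10, pow_apply]
    exact ((by decide +kernel : ∀ u : Fin 7,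
      (tblFun (permT.getD ((8 : Fin 10) : ℕ) []))^[(u : ℕ)] (cpt 0 0) = cpt 0 0) u).symm
  have h21 : (π2 : Equiv.Perm GolayPt) (cpt 1 0) = cpt 1 k := by
    rw [hπ2, Subgroup.coe_mul, Equiv.Perm.mul_apply, Subgroup.coe_inv, Equiv.Perm.inv_eq_iff_eq, pow_apply]
    exact hu.symm
  have hpos : ∀ p, (π2 : Equiv.Perm GolayPt) p =
      (tblFun sigT)^[pos p] ((π2 : Equiv.Perm GolayPt) (rep (blk p))) := fun p => by
    conv_lhs => rw [← pos_spec p]
    rw [hit hc2]
  have hF : ∀ p, maskF.testBit (idx p) = true → (π2 : Equiv.Perm GolayPt) p =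
      candQ (repQ k (rep 2) (rep 3) (rep 4) (rep 5) (rep 6) (rep 7)) p := fun p hp => by
    rw [hpos p, candQ]
    rcases (by decide +kernel : ∀ p, maskF.testBit (idx p) = true → blk p = 0 ∨ blk p = 1) p hp with e | e <;>
      rw [e]
    · exact congrArg _ h20
    · exact congrArg _ h21
  have hok : ∀ j : Fin 8, okQ k j ((π2 : Equiv.Perm GolayPt) (rep j)) = true := by
    intro j
    refine List.all_eq_true.2 fun m hm => beq_iff_eq.2 ?_
    rw [List.mem_range] at hm
    obtain ⟨ho, ho', h5, hK⟩ := (by decide +kernel : ∀ (k : Fin 3), ∀ m < 6,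
      octA.getD m 0 ∈ cwOfWeight 8 ∧ (octI.getD k []).getD m 0 ∈ cwOfWeight 8 ∧
        5 ≤ pc (octA.getD m 0 &&& maskF) ∧
        ∀ p, maskF.testBit (idx p) = true → (octA.getD m 0).testBit (idx p) = true →
          ((octI.getD k []).getD m 0).testBit
            (idx (candQ (repQ k (rep 2) (rep 3) (rep 4) (rep 5) (rep 6) (rep 7)) p)) = true) k m hm
    exact octad_map π2.2 ho ho' h5 (fun p hp hp' => by rw [hF p hp]; exact hK p hp hp') (rep j)
  have hQ : ∀ b, repQ k ((π2 : Equiv.Perm GolayPt) (rep 2)) ((π2 : Equiv.Perm GolayPt) (rep 3))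
      ((π2 : Equiv.Perm GolayPt) (rep 4)) ((π2 : Equiv.Perm GolayPt) (rep 5)) ((π2 : Equiv.Perm GolayPt) (rep 6))
      ((π2 : Equiv.Perm GolayPt) (rep 7)) b = (π2 : Equiv.Perm GolayPt) (rep b) := by
    intro b
    fin_cases b
    exacts [h20.symm, h21.symm, rfl, rfl, rfl, rfl, rfl, rfl]
  obtain ⟨v, hv⟩ := of_decide_eq_true (search k _ (hok 2) _ (hok 3) _ (hok 4) _ (hok 5) _ (hok 6) _ (hok 7)
    (List.all_eq_true.2 fun j hj => by
      refine mem_code_iff_isCW.1 ?_
      have : ∀ p, candQ (repQ k ((π2 : Equiv.Perm GolayPt) (rep 2)) ((π2 : Equiv.Perm GolayPt) (rep 3))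
          ((π2 : Equiv.Perm GolayPt) (rep 4)) ((π2 : Equiv.Perm GolayPt) (rep 5))
          ((π2 : Equiv.Perm GolayPt) (rep 6)) ((π2 : Equiv.Perm GolayPt) (rep 7))) p =
          (π2 : Equiv.Perm GolayPt) p := fun p => by rw [candQ, hQ, ← hpos p]
      simp only [this]
      exact LeechBasic.comp_mem_code π2.2 (word_bas_mem (List.mem_range.1 hj))))
  have h9 : π2 = gM 9 ^ (v : ℕ) := Subtype.ext (Equiv.ext fun p => by
    have hc9 : gM 9 ^ (v : ℕ) * sM = sM * gM 9 ^ (v : ℕ) :=
      ((show Commute (gM 9) sM from gM_comm 9).pow_left _).eq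
    rw [hpos p, ← hQ, hv]
    conv_rhs => rw [← pos_spec p]
    rw [hit hc9, pow_apply]
    rfl)
  refine ⟨(n : ℕ), i, u, v, ?_⟩
  rw [hx1, hx, hx2, h9, piM]
  simp only [mul_assoc]

/-! ### Generators -/

/-- The word of a set of blocks given by a code number. -/
def wM (m : ℕ) : GolayPt → ZMod 2 := fun p => if m.testBit (blk p) then 1 else 0

theorem wM_code : ∀ m ∈ signT, isCW (mask (wM m)) = true := by decide +kernel

/-- The sign changes that generate the fixed ones. -/
noncomputable def sgnG (i : Fin 4) : monoSub :=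
  sgn ⟨wM (signT.getD i 0), mem_code_iff_isCW.2 ((by decide +kernel :
    ∀ i : Fin 4, isCW (mask (wM (signT.getD i 0))) = true) i)⟩

theorem sgn_commute_iff (w : golayCode) :
    Commute ((sgn w : monoSub) : Co0) sg ↔ ∀ p, (w : GolayPt → ZMod 2) (sigma p) = (w : GolayPt → ZMod 2) p := by
  constructor
  · intro h p
    have h1 : (sgn w : Co0) • (sg • LeechCenter.unitVec p) = sg • ((sgn w : Co0) • LeechCenter.unitVec p) := by
      rw [← mul_smul, ← mul_smul, h.eq]
    have h2 := congrFun (congrArg (fun v : leechLattice => (v : GolayPt → ℤ)) h1) (sigma p)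
    simp only [sg_unit, sgn_apply, sg_apply, Equiv.symm_apply_apply, LeechCenter.unitVec,
      Pi.single_eq_same] at h2
    rcases (show ∀ x : ZMod 2, x = 0 ∨ x = 1 by decide) ((w : GolayPt → ZMod 2) (sigma p)) with e | e <;>
      rcases (show ∀ x : ZMod 2, x = 0 ∨ x = 1 by decide) ((w : GolayPt → ZMod 2) p) with e' | e' <;>
      simp [e, e'] at h2 ⊢
  · intro h
    refine Held.co0_ext fun i => Subtype.ext (funext fun q => ?_)
    obtain ⟨p, rfl⟩ := sigma.surjective q
    rw [mul_smul, mul_smul, sgn_apply, sg_apply, sg_apply, sgn_apply, Equiv.symm_apply_apply, h]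

theorem commute_permM {π : M24} (h : π * sM = sM * π) : Commute ((permM π : monoSub) : Co0) sg :=
  congrArg Subtype.val (show permM π * permM sM = permM sM * permM π by rw [← map_mul, ← map_mul, h])

theorem exists_gen : ∃ g : Co0, Commute g sg ∧
    ∀ j : Fin 8, ((g • Bv j : leechLattice) : GolayPt → ℤ) = fv fun i => (imgT.getD j []).getD i 0 := by
  obtain ⟨g, hg⟩ := acts_run wordG (by decide +kernel)
  refine ⟨g, Held.co0_ext fun i => ?_, fun j => ?_⟩
  · rw [mul_smul, sg_unit, mul_smul]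
    refine Subtype.ext (funext fun q => ?_)
    rw [sg_apply, hg, hg]
    exact (by decide +kernel : ∀ i q, run wordG (Pi.single (tblFun sigT i) 8) q =
      run wordG (Pi.single i 8) (tblFun sigI q)) i q
  · funext q
    rw [hg]
    exact (by decide +kernel : ∀ j q, run wordG (fv (bas8 j)) q =
      fv (fun i => (imgT.getD j []).getD i 0) q) j q

/-- The non-monomial generator. -/
noncomputable def gG : Co0 := exists_gen.choose

/-- The fifteen generators. -/
noncomputable def gen (i : Fin 15) : Co0 :=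
  if h : (i : ℕ) < 10 then ((permM (gM ⟨i, h⟩) : monoSub) : Co0)
  else if h' : (i : ℕ) < 14 then ((sgnG ⟨(i : ℕ) - 10, by omega⟩ : monoSub) : Co0) else gG

theorem gen_commute (i : Fin 15) : Commute (gen i) sg := by
  unfold gen
  split_ifs with h h'
  · exact commute_permM (gM_comm _)
  · refine (sgn_commute_iff _).2 fun p => ?_
    exact (by decide +kernel : ∀ (j : Fin 4) p,
      wM (signT.getD j 0) (tblFun sigT p) = wM (signT.getD j 0) p) _ p
  · exact exists_gen.choose_spec.1

/-- The group generated by the element and the generators. -/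
noncomputable def N : Subgroup Co0 := Subgroup.closure (insert sg (Set.range gen))

theorem sg_mem_N : sg ∈ N := Subgroup.subset_closure (Set.mem_insert _ _)

theorem gen_mem_N (i : Fin 15) : gen i ∈ N := Subgroup.subset_closure (Set.mem_insert_of_mem _ ⟨i, rfl⟩)

theorem span_words : ∀ b : Fin 8 → Bool, isCW (mask (bword b)) = true → ∃ e : Fin 4 → Bool, ∀ j : Fin 8,
    b j = Bool.xor (e 0 && (signT.getD 0 0).testBit j) (Bool.xor (e 1 && (signT.getD 1 0).testBit j)
      (Bool.xor (e 2 && (signT.getD 2 0).testBit j) (e 3 && (signT.getD 3 0).testBit j))) := by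
  decide +kernel

/-- The product of a subset of the sign generators. -/
noncomputable def sgnE (e : Fin 4 → Bool) : monoSub :=
  (if e 0 then sgnG 0 else 1) * ((if e 1 then sgnG 1 else 1) *
    ((if e 2 then sgnG 2 else 1) * (if e 3 then sgnG 3 else 1)))

theorem sgnG_gen (i : Fin 4) : ((sgnG i : monoSub) : Co0) = gen (Fin.ofNat 15 (10 + i)) := by
  fin_cases i <;> rfl

theorem sgnE_mem (e : Fin 4 → Bool) : ((sgnE e : monoSub) : Co0) ∈ N := by
  have h : ∀ i, ((if e i then sgnG i else 1 : monoSub) : Co0) ∈ N := fun i => by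
    split
    · rw [sgnG_gen]; exact gen_mem_N _
    · exact one_mem _
  exact mul_mem (h 0) (mul_mem (h 1) (mul_mem (h 2) (h 3)))

theorem sgnE_apply (e : Fin 4 → Bool) (v : leechLattice) (q : GolayPt) :
    (((sgnE e : Co0)) • v : leechLattice).1 q =
      if Bool.xor (e 0 && (signT.getD 0 0).testBit (blk q)) (Bool.xor (e 1 && (signT.getD 1 0).testBit (blk q))
        (Bool.xor (e 2 && (signT.getD 2 0).testBit (blk q)) (e 3 && (signT.getD 3 0).testBit (blk q))))
      then -(v : GolayPt → ℤ) q else (v : GolayPt → ℤ) q := by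
  have h : ∀ (i : Fin 4) (w : leechLattice), ((((if e i then sgnG i else 1 : monoSub) : Co0)) • w : leechLattice).1 q =
      if (e i && (signT.getD i 0).testBit (blk q)) then -(w : GolayPt → ℤ) q else (w : GolayPt → ℤ) q := fun i w => by
    cases hi : e i
    · simp [one_smul]
    · simp only [if_true, Bool.true_and]
      rw [sgnG, sgn_apply]
      simp [wM]
  rw [sgnE, Subgroup.coe_mul, Subgroup.coe_mul, Subgroup.coe_mul, mul_smul, mul_smul, mul_smul, h, h, h, h]
  simp only [Fin.val_zero, Fin.val_one, Fin.val_two, show ((3 : Fin 4) : ℕ) = 3 from rfl]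
  generalize (e 0 && (signT.getD 0 0).testBit (blk q)) = b0
  generalize (e 1 && (signT.getD 1 0).testBit (blk q)) = b1
  generalize (e 2 && (signT.getD 2 0).testBit (blk q)) = b2
  generalize (e 3 && (signT.getD 3 0).testBit (blk q)) = b3
  cases b0 <;> cases b1 <;> cases b2 <;> cases b3 <;> simp

theorem mono_classify {g : Co0} (hg : g ∈ monoSub) (hc : Commute g sg) :
    ∃ (n : ℕ) (e : Fin 4 → Bool) (i : Fin 8) (u : Fin 7) (v : Fin 3),
      g = sg ^ n * (sgnE e * permM (piM i u v) : monoSub) := by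
  set g' : monoSub := ⟨g, hg⟩
  have hc' : g' * permM sM = permM sM * g' := Subtype.ext hc.eq
  have hπ : permOf g' * sM = sM * permOf g' := by
    rw [← permOf_permM sM, ← map_mul, ← map_mul, hc']
  obtain ⟨n, i, u, v, hnt⟩ := classify hπ
  obtain ⟨w, hw⟩ := exists_sgn (g := g' * (permM (permOf g'))⁻¹) (by
    rw [map_mul, map_inv, permOf_permM, mul_inv_cancel])
  have hwc : Commute ((sgn w : monoSub) : Co0) sg := by
    rw [← hw, Subgroup.coe_mul, Subgroup.coe_inv]
    exact hc.mul_left (commute_permM hπ).inv_left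
  have hinv := (sgn_commute_iff w).1 hwc
  have hblk : ∀ p, (w : GolayPt → ZMod 2) p = (w : GolayPt → ZMod 2) (rep (blk p)) := by
    have hi : ∀ n q, (w : GolayPt → ZMod 2) ((tblFun sigT)^[n] q) = (w : GolayPt → ZMod 2) q := by
      intro n
      induction n with
      | zero => intro q; rfl
      | succ n ih =>
        intro q
        rw [Function.iterate_succ', Function.comp]
        exact (hinv _).trans (ih q)
    intro p
    conv_lhs => rw [← pos_spec p]
    rw [hi]
  have hwb : (w : GolayPt → ZMod 2) = bword fun b => decide ((w : GolayPt → ZMod 2) (rep b) = 1) := by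
    funext p
    rw [hblk p]
    simp only [bword, decide_eq_true_eq]
    rcases (show ∀ x : ZMod 2, x = 0 ∨ x = 1 by decide) ((w : GolayPt → ZMod 2) (rep (blk p))) with r | r <;>
      simp [r]
  obtain ⟨e, he⟩ := span_words _ (mem_code_iff_isCW.1 (hwb ▸ w.2))
  have hwe : sgn w = sgnE e := by
    refine LeechGroup.ext_apply fun x q => ?_
    rw [sgn_apply, sgnE_apply, ← he (blk q)]
    rw [hblk q]
    rcases (show ∀ x : ZMod 2, x = 0 ∨ x = 1 by decide) ((w : GolayPt → ZMod 2) (rep (blk q))) with r | r <;>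
      simp [r]
  refine ⟨n, e, i, u, v, ?_⟩
  have hg' : g = ((sgn w : monoSub) : Co0) * (sg ^ n * ((permM (piM i u v) : monoSub) : Co0)) := by
    have : g' = sgn w * permM (permOf g') := by rw [← hw, inv_mul_cancel_right]
    rw [hnt, map_mul, map_pow] at this
    exact congrArg Subtype.val this
  rw [hg', ← mul_assoc, (hwc.pow_right n).eq, mul_assoc, ← hwe, Subgroup.coe_mul]

theorem mono_mem_N {g : Co0} (hg : g ∈ monoSub) (hc : Commute g sg) : g ∈ N := by
  obtain ⟨n, e, i, u, v, rfl⟩ := mono_classify hg hc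
  refine mul_mem (pow_mem sg_mem_N n) ?_
  rw [Subgroup.coe_mul]
  refine mul_mem (sgnE_mem e) ?_
  have hp : ∀ j : Fin 10, ((permM (gM j) : monoSub) : Co0) ∈ N := fun j => by
    have : ((permM (gM j) : monoSub) : Co0) = gen ⟨j, by omega⟩ := by
      unfold gen
      rw [dif_pos j.2]
    rw [this]
    exact gen_mem_N _
  simp only [piM, map_mul, map_pow, Subgroup.coe_mul, SubmonoidClass.coe_pow]
  exact mul_mem (mul_mem (hp _) (pow_mem (hp _) _)) (pow_mem (hp _) _)

end CfsgLib.Sporadic.MonsterFusion.TH
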