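import Cfsg.Agent.Lib.Sporadic.MonsterFusion.FIFixed
import Cfsg.Agent.Lib.Sporadic.MonsterFusion.THElts

/-!
Generators of the centraliser of the element of order three with six fixed points and a bound on its
intersection with the monomial group.
-/

set_option autoImplicit false
set_option maxRecDepth 20000

namespace CfsgLib.Sporadic.MonsterFusion.FI

open Cfsg CfsgLib.SmallGroups CfsgLib.SmallGroups.Golay CfsgLib.SmallGroups.M24Group
  CfsgLib.Sporadic.M24Orbits CfsgLib.SmallGroups.LeechGroup CfsgLib.Sporadic.LeechCrossMax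
  CfsgLib.Sporadic.LeechCrossData CfsgLib.SmallGroups.GolayOctads
open scoped Pointwise

theorem sg_unit (i : GolayPt) : sg • LeechCenter.unitVec i = LeechCenter.unitVec (sigma i) := by
  refine Subtype.ext (funext fun q => ?_)
  rw [sg_apply]
  simp [LeechCenter.unitVec, Pi.single_apply, Equiv.symm_apply_eq]

/-- The two basic permutations. -/
def gp (i : Fin 2) : Equiv.Perm GolayPt :=
  ⟨tblFun (permT.getD i []), tblFun (permI.getD i []),
    (by decide +kernel : ∀ (i : Fin 2) p, tblFun (permI.getD i []) (tblFun (permT.getD i []) p) = p) i,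
    (by decide +kernel : ∀ (i : Fin 2) p, tblFun (permT.getD i []) (tblFun (permI.getD i []) p) = p) i⟩

theorem gp_mem (i : Fin 2) : gp i ∈ M24 :=
  mem_M24_of_basis (f := tblFun (permT.getD i [])) (fun _ => rfl) (fun j hj =>
    (by decide +kernel : ∀ i : Fin 2, ∀ j < 12,
      isCW (mask fun p => word (bas j) (tblFun (permT.getD i []) p)) = true) i j hj)

/-- The same in `M24`. -/
def gM (i : Fin 2) : M24 := ⟨gp i, gp_mem i⟩

theorem gM_comm (i : Fin 2) : gM i * sM = sM * gM i :=
  Subtype.ext (Equiv.ext fun p => (by decide +kernel : ∀ (i : Fin 2) p,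
    tblFun (permT.getD i []) (tblFun sigT p) = tblFun sigT (tblFun (permT.getD i []) p)) i p)

theorem sM_pow : sM ^ 3 = 1 := Subtype.ext (Equiv.ext fun p => by
  rw [SubmonoidClass.coe_pow, Equiv.Perm.coe_pow]
  exact (by decide +kernel : ∀ p, (tblFun sigT)^[3] p = p) p)

/-- The centraliser of the element in `M24`. -/
def CM : Subgroup M24 := Subgroup.centralizer ({sM} : Set M24)

theorem mem_CM {π : M24} : π ∈ CM ↔ π * sM = sM * π := Subgroup.mem_centralizer_singleton_iff

/-- A fixed point. -/
def fpt (i : Fin 6) : GolayPt := rep (Fin.ofNat 12 (6 + (i : ℕ)))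

/-- The number of a fixed point. -/
def fidx (p : GolayPt) : Fin 6 := Fin.ofNat 6 ((blk p : ℕ) - 6)

theorem fidx_fpt : ∀ i, fidx (fpt i) = i := by decide +kernel

theorem fpt_fix : ∀ i, tblFun sigT (fpt i) = fpt i := by decide +kernel

theorem fixed_cases : ∀ q, tblFun sigT q = q → fpt (fidx q) = q := by decide +kernel

theorem comm_apply {π : M24} (h : π ∈ CM) (p : GolayPt) :
    (π : Equiv.Perm GolayPt) (tblFun sigT p) = tblFun sigT ((π : Equiv.Perm GolayPt) p) :=
  congrArg (fun x : M24 => (x : Equiv.Perm GolayPt) p) (mem_CM.1 h)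

theorem maps_fixed (π : CM) (i : Fin 6) :
    fpt (fidx (((π : M24) : Equiv.Perm GolayPt) (fpt i))) = ((π : M24) : Equiv.Perm GolayPt) (fpt i) :=
  fixed_cases _ (by rw [← comm_apply π.2, fpt_fix])

/-- The action on the six fixed points. -/
def sixP : CM →* Equiv.Perm (Fin 6) :=
  MonoidHom.mk'
    (fun π => ⟨fun i => fidx (((π : M24) : Equiv.Perm GolayPt) (fpt i)),
      fun i => fidx ((((π⁻¹ : CM) : M24) : Equiv.Perm GolayPt) (fpt i)),
      fun i => by
        simp only [maps_fixed π i, Subgroup.coe_inv, Equiv.Perm.inv_def, Equiv.symm_apply_apply, fidx_fpt],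
      fun i => by
        have h := maps_fixed π⁻¹ i
        simp only [Subgroup.coe_inv, Equiv.Perm.inv_def] at h ⊢
        rw [h, Equiv.apply_symm_apply, fidx_fpt]⟩)
    fun π ρ => Equiv.ext fun i => by
      show fidx ((((π * ρ : CM) : M24) : Equiv.Perm GolayPt) (fpt i)) =
        fidx (((π : M24) : Equiv.Perm GolayPt) (fpt (fidx (((ρ : M24) : Equiv.Perm GolayPt) (fpt i)))))
      rw [maps_fixed ρ i]
      rfl

/-- The two permutations of the six fixed points that are examined. -/
def swp (s : Bool) (i : Fin 6) : Fin 6 := if s then Equiv.swap 0 1 i else i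

/-- A candidate given by the images of the cycles. -/
def candQ (s : Bool) (Q : Fin 6 → GolayPt) (p : GolayPt) : GolayPt :=
  if h : (blk p : ℕ) < 6 then (tblFun sigT)^[pos p] (Q ⟨blk p, h⟩) else fpt (swp s (fidx p))

/-- The points of the six fixed positions. -/
def maskF : ℕ := (List.range 24).foldl (fun m i => if 6 ≤ blkT.getD i 0 then m ||| 2 ^ i else m) 0

/-- A possible image of a representative. -/
def okQ (s : Bool) (j : Fin 6) (q : GolayPt) : Bool :=
  (List.range 6).all fun m => ((octI.getD (if s then 1 else 0) []).getD m 0).testBit (idx q) ==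
    (octA.getD m 0).testBit (idx (cpt j 0))

theorem search : ∀ s : Bool, ∀ q0, okQ s 0 q0 = true → ∀ q1, okQ s 1 q1 = true → ∀ q2, okQ s 2 q2 = true →
    ∀ q3, okQ s 3 q3 = true → ∀ q4, okQ s 4 q4 = true → ∀ q5, okQ s 5 q5 = true →
      ((List.range 12).all fun i => isCW (mask fun p => word (bas i) (candQ s ![q0, q1, q2, q3, q4, q5] p))) = true →
        decide (s = false ∧ ∃ k : Fin 3, ∀ j : Fin 6, ![q0, q1, q2, q3, q4, q5] j = cpt j k) = true := by
  decide +kernel

theorem hit {π : M24} (h : π ∈ CM) : ∀ n p, (π : Equiv.Perm GolayPt) ((tblFun sigT)^[n] p) =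
    (tblFun sigT)^[n] ((π : Equiv.Perm GolayPt) p) := by
  intro n
  induction n with
  | zero => intro p; rfl
  | succ n ih =>
    intro p
    simp only [Function.iterate_succ', Function.comp_apply, ← ih]
    exact comm_apply h _

theorem six_small {π : CM} {s : Bool} (h : ∀ i, sixP π i = swp s i) :
    s = false ∧ ∃ k : Fin 3, (π : M24) = sM ^ (k : ℕ) := by
  have hF : ∀ i, ((π : M24) : Equiv.Perm GolayPt) (fpt i) = fpt (swp s i) := fun i => by
    rw [← h i, ← maps_fixed π i]
    rfl
  have hpos : ∀ p, (blk p : ℕ) < 6 → ((π : M24) : Equiv.Perm GolayPt) p =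
      (tblFun sigT)^[pos p] (((π : M24) : Equiv.Perm GolayPt) (cpt (blk p : ℕ) 0)) := fun p hp => by
    conv_lhs => rw [← pos_spec p, rep, if_pos hp]
    rw [hit π.2]
  have hout : ∀ p, ¬ (blk p : ℕ) < 6 → ((π : M24) : Equiv.Perm GolayPt) p = fpt (swp s (fidx p)) := fun p hp => by
    conv_lhs => rw [(by decide +kernel : ∀ p, ¬ (blk p : ℕ) < 6 → p = fpt (fidx p)) p hp]
    exact hF _
  set Q : Fin 6 → GolayPt := fun j => ((π : M24) : Equiv.Perm GolayPt) (cpt (j : ℕ) 0) with hQ
  have hcand : ∀ p, candQ s Q p = ((π : M24) : Equiv.Perm GolayPt) p := fun p => by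
    rw [candQ]
    split_ifs with hp
    · exact (hpos p hp).symm
    · exact (hout p hp).symm
  have hok : ∀ j : Fin 6, okQ s j (Q j) = true := by
    intro j
    refine List.all_eq_true.2 fun m hm => beq_iff_eq.2 ?_
    rw [List.mem_range] at hm
    obtain ⟨ho, ho', h5, hK⟩ := (by decide +kernel : ∀ (s : Bool), ∀ m < 6,
      octA.getD m 0 ∈ cwOfWeight 8 ∧ (octI.getD (if s then 1 else 0) []).getD m 0 ∈ cwOfWeight 8 ∧
        5 ≤ pc (octA.getD m 0 &&& maskF) ∧
        ∀ p, maskF.testBit (idx p) = true → ¬ (blk p : ℕ) < 6 ∧ ((octA.getD m 0).testBit (idx p) = true →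
          ((octI.getD (if s then 1 else 0) []).getD m 0).testBit (idx (fpt (swp s (fidx p)))) = true)) s m hm
    exact TH.octad_map (π : M24).2 ho ho' h5
      (fun p hp hp' => by rw [hout p (hK p hp).1]; exact (hK p hp).2 hp') (cpt j 0)
  have hQe : ![Q 0, Q 1, Q 2, Q 3, Q 4, Q 5] = Q := by
    funext j; fin_cases j <;> rfl
  obtain ⟨hs, k, hk⟩ := of_decide_eq_true (search s _ (hok 0) _ (hok 1) _ (hok 2) _ (hok 3) _ (hok 4) _ (hok 5)
    (List.all_eq_true.2 fun j hj => by
      refine mem_code_iff_isCW.1 ?_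
      simp only [hQe, hcand]
      exact LeechBasic.comp_mem_code (π : M24).2 (word_bas_mem (List.mem_range.1 hj))))
  refine ⟨hs, k, Subtype.ext (Equiv.ext fun p => ?_)⟩
  rw [SubmonoidClass.coe_pow, Equiv.Perm.coe_pow]
  show _ = (tblFun sigT)^[(k : ℕ)] p
  rw [← hcand p, candQ]
  subst hs
  split_ifs with hp
  · rw [hQe] at hk
    rw [hk]
    exact (by decide +kernel : ∀ p, (blk p : ℕ) < 6 → ∀ k : Fin 3,
      (tblFun sigT)^[pos p] (cpt (blk p : ℕ) k) = (tblFun sigT)^[(k : ℕ)] p) p hp k
  · exact (by decide +kernel : ∀ p, ¬ (blk p : ℕ) < 6 → ∀ k : Fin 3,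
      fpt (swp false (fidx p)) = (tblFun sigT)^[(k : ℕ)] p) p hp k

theorem sixT_spec : ∀ i : Fin 2, ∀ j : Fin 6,
    fidx (tblFun (permT.getD i []) (fpt j)) = Fin.ofNat 6 ((sixT.getD i []).getD j 0) := by decide +kernel

/-- The product of a word in the two permutations. -/
def gMW (l : List ℕ) : CM := (l.map fun i => ⟨gM (Fin.ofNat 2 i), mem_CM.2 (gM_comm _)⟩).prod

/-- The same map of the six fixed points, computed. -/
def sixW : List ℕ → Fin 6 → Fin 6
  | [], j => j
  | i :: l, j => Fin.ofNat 6 ((sixT.getD (Fin.ofNat 2 i : Fin 2) []).getD (sixW l j) 0)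

theorem sixP_gMW : ∀ (l : List ℕ) (j : Fin 6), sixP (gMW l) j = sixW l j
  | [], j => by rw [gMW, List.map_nil, List.prod_nil, map_one]; rfl
  | i :: l, j => by
    rw [gMW, List.map_cons, List.prod_cons, map_mul, Equiv.Perm.mul_apply, ← gMW, sixP_gMW l j, sixW]
    exact sixT_spec _ _

theorem swap_words : ∀ a b : Fin 6, a ≠ b → ∀ x,
    sixW (swapW.getD (6 * (a : ℕ) + b) []) x = Equiv.swap 0 1 (Equiv.swap a b x) := by decide +kernel

theorem card_sixP : Nat.card sixP.range ≤ 360 := by
  have hT : Equiv.swap (0 : Fin 6) 1 ∉ sixP.range := by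
    rintro ⟨π, hπ⟩
    exact Bool.noConfusion (six_small (s := true) fun i => by rw [hπ]; rfl).1
  have hA : alternatingGroup (Fin 6) ≤ sixP.range := by
    have key : ∀ s : Equiv.Perm (Fin 6), (Equiv.Perm.sign s = 1 → s ∈ sixP.range) ∧
        (Equiv.Perm.sign s = -1 → Equiv.swap 0 1 * s ∈ sixP.range) := by
      have h : ∀ a b : Fin 6, a ≠ b → Equiv.swap 0 1 * Equiv.swap a b ∈ sixP.range := fun a b hab =>
        ⟨gMW (swapW.getD (6 * (a : ℕ) + b) []), Equiv.ext fun x => by
          rw [sixP_gMW, swap_words a b hab]; rfl⟩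
      intro s
      induction s using Equiv.Perm.swap_induction_on with
      | one => exact ⟨fun _ => one_mem _, fun h1 => absurd h1 (by simp)⟩
      | swap_mul s a b hab ih =>
        rw [Equiv.Perm.sign_mul, Equiv.Perm.sign_swap hab]
        rcases Int.units_eq_one_or (Equiv.Perm.sign s) with e | e <;> rw [e]
        · refine ⟨fun h1 => absurd h1 (by decide), fun _ => ?_⟩
          rw [← mul_assoc]
          exact mul_mem (h a b hab) (ih.1 e)
        · refine ⟨fun _ => ?_, fun h1 => absurd h1 (by decide)⟩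
          have h2 : Equiv.swap a b * Equiv.swap 0 1 ∈ sixP.range := by
            have := inv_mem (h a b hab)
            rwa [mul_inv_rev, Equiv.swap_inv, Equiv.swap_inv] at this
          have := mul_mem h2 (ih.2 e)
          rwa [mul_assoc, Equiv.swap_mul_self_mul] at this
    exact fun s hs => (key s).1 (Equiv.Perm.mem_alternatingGroup.1 hs)
  have hle : sixP.range ≤ alternatingGroup (Fin 6) := by
    intro s hs
    rw [Equiv.Perm.mem_alternatingGroup]
    rcases Int.units_eq_one_or (Equiv.Perm.sign s) with e | e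
    · exact e
    · refine absurd ?_ hT
      have := mul_mem (hA (Equiv.Perm.mem_alternatingGroup.2
        (show Equiv.Perm.sign (Equiv.swap 0 1 * s⁻¹) = 1 by
          rw [map_mul, map_inv, e, Equiv.Perm.sign_swap (by decide)]; rfl))) hs
      rwa [inv_mul_cancel_right] at this
  refine (Subgroup.card_le_of_le hle).trans (le_of_eq ?_)
  rw [nat_card_alternatingGroup]
  simp [Nat.factorial]

/-- The centraliser in `M24` has order at most 1080. -/
theorem card_CM : Nat.card CM ≤ 1080 := by
  have h := card_map_mul' sixP (⊤ : Subgroup CM)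
  rw [← MonoidHom.range_eq_map, inf_top_eq, Subgroup.card_top] at h
  have hk : Nat.card sixP.ker ≤ 3 := by
    refine (Nat.card_le_card_of_injective (β := Fin 3) (fun π : sixP.ker =>
      (six_small (π := (π : CM)) (s := false) fun i => by rw [π.2]; rfl).2.choose) fun π ρ e => ?_).trans (by simp)
    simp only at e
    have a := (six_small (π := (π : CM)) (s := false) fun i => by rw [π.2]; rfl).2.choose_spec
    have b := (six_small (π := (ρ : CM)) (s := false) fun i => by rw [ρ.2]; rfl).2.choose_spec
    rw [e, ← b] at a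
    exact Subtype.ext (Subtype.ext a)
  rw [← h]
  exact (Nat.mul_le_mul card_sixP hk).trans (by norm_num)

/-- The word of a set of blocks given by a code number. -/
def wM (m : ℕ) : GolayPt → ZMod 2 := fun p => if m.testBit (blk p) then 1 else 0

theorem wM_code : ∀ m ∈ signT, isCW (mask (wM m)) = true := by decide +kernel

/-- The sign changes that generate the fixed ones. -/
noncomputable def sgnG (i : Fin 6) : monoSub :=
  sgn ⟨wM (signT.getD i 0), mem_code_iff_isCW.2 ((by decide +kernel :
    ∀ i : Fin 6, isCW (mask (wM (signT.getD i 0))) = true) i)⟩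

theorem sgn_commute_iff (w : golayCode) :
    Commute ((sgn w : monoSub) : Co0) sg ↔ ∀ p, (w : GolayPt → ZMod 2) (sigma p) = (w : GolayPt → ZMod 2) p := by
  constructor
  · intro h p
    have h1 : (sgn w : Co0) • (sg • LeechCenter.unitVec p) = sg • ((sgn w : Co0) • LeechCenter.unitVec p) := by
      rw [← mul_smul, ← mul_smul, h.eq]
    have h2 := congrFun (congrArg (fun v : leechLattice => (v : GolayPt → ℤ)) h1) (sigma p)
    simp only [sg_unit, sgn_apply, sg_apply, Equiv.symm_apply_apply, LeechCenter.unitVec,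
      Pi.single_eq_same] at h2
    rcases (show ∀ x : ZMod 2, x = 0 ∨ x = 1 by decide) ((w : GolayPt → ZMod 2) (sigma p)) with e | e <;>
      rcases (show ∀ x : ZMod 2, x = 0 ∨ x = 1 by decide) ((w : GolayPt → ZMod 2) p) with e' | e' <;>
      simp [e, e'] at h2 ⊢
  · intro h
    refine Held.co0_ext fun i => Subtype.ext (funext fun q => ?_)
    obtain ⟨p, rfl⟩ := sigma.surjective q
    rw [mul_smul, mul_smul, sgn_apply, sg_apply, sg_apply, sgn_apply, Equiv.symm_apply_apply, h]

theorem commute_permM {π : M24} (h : π * sM = sM * π) : Commute ((permM π : monoSub) : Co0) sg :=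
  congrArg Subtype.val (show permM π * permM sM = permM sM * permM π by rw [← map_mul, ← map_mul, h])

theorem exists_gen : ∃ g : Co0, Commute g sg ∧
    ∀ j : Fin 12, ((g • Bv j : leechLattice) : GolayPt → ℤ) = fv fun i => (imgT.getD j []).getD i 0 := by
  obtain ⟨g, hg⟩ := acts_run wordG (by decide +kernel)
  refine ⟨g, Held.co0_ext fun i => ?_, fun j => ?_⟩
  · rw [mul_smul, sg_unit, mul_smul]
    refine Subtype.ext (funext fun q => ?_)
    rw [sg_apply, hg, hg]
    exact (by decide +kernel : ∀ i q, run wordG (Pi.single (tblFun sigT i) 8) q =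
      run wordG (Pi.single i 8) (tblFun sigI q)) i q
  · funext q
    rw [hg]
    exact (by decide +kernel : ∀ j q, run wordG (fv (bas12 j)) q =
      fv (fun i => (imgT.getD j []).getD i 0) q) j q

/-- The non-monomial generator. -/
noncomputable def gG : Co0 := exists_gen.choose

/-- The nine generators. -/
noncomputable def gen (i : Fin 9) : Co0 :=
  if h : (i : ℕ) < 2 then ((permM (gM ⟨i, h⟩) : monoSub) : Co0)
  else if h' : (i : ℕ) < 8 then ((sgnG ⟨(i : ℕ) - 2, by omega⟩ : monoSub) : Co0) else gG

theorem gen_commute (i : Fin 9) : Commute (gen i) sg := by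
  unfold gen
  split_ifs with h h'
  · exact commute_permM (gM_comm _)
  · refine (sgn_commute_iff _).2 fun p => ?_
    exact (by decide +kernel : ∀ (j : Fin 6) p,
      wM (signT.getD j 0) (tblFun sigT p) = wM (signT.getD j 0) p) _ p
  · exact exists_gen.choose_spec.1

/-- The centraliser of the element in the lattice group. -/
noncomputable def CC : Subgroup Co0 := Subgroup.centralizer ({sg} : Set Co0)

theorem mem_CC {g : Co0} : g ∈ CC ↔ Commute g sg := Subgroup.mem_centralizer_singleton_iff

theorem card_bword :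
    (Finset.univ.filter fun b : Fin 12 → ZMod 2 => isCW (mask fun p => b (blk p))).card = 64 := by
  decide +kernel

/-- The monomial part of the centraliser has order at most 69120. -/
theorem card_mono : Nat.card ↥(CC.subgroupOf monoSub) ≤ 1080 * 64 := by
  rw [← card_map_mul' permOf (CC.subgroupOf monoSub)]
  refine Nat.mul_le_mul ((Subgroup.card_le_of_le ?_).trans card_CM) ?_
  · rintro _ ⟨g, hg, rfl⟩
    rw [mem_CM, ← permOf_permM sM, ← map_mul, ← map_mul]
    exact congrArg _ (Subtype.ext (mem_CC.1 hg).eq)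
  · have key : ∀ g : ↥(permOf.ker ⊓ CC.subgroupOf monoSub), ∃ b : Fin 12 → ZMod 2,
        isCW (mask fun p => b (blk p)) = true ∧ ∃ hb : (fun p => b (blk p)) ∈ golayCode,
          (g : monoSub) = sgn ⟨fun p => b (blk p), hb⟩ := by
      intro g
      obtain ⟨w, hw⟩ := exists_sgn (g := (g : monoSub)) g.2.1
      have hinv := (sgn_commute_iff w).1 (by rw [← hw]; exact mem_CC.1 g.2.2)
      have hblk : ∀ p, (w : GolayPt → ZMod 2) p = (w : GolayPt → ZMod 2) (rep (blk p)) := by
        have hi : ∀ n q, (w : GolayPt → ZMod 2) ((tblFun sigT)^[n] q) = (w : GolayPt → ZMod 2) q := by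
          intro n
          induction n with
          | zero => intro q; rfl
          | succ n ih =>
            intro q
            rw [Function.iterate_succ', Function.comp]
            exact (hinv _).trans (ih q)
        intro p
        conv_lhs => rw [← pos_spec p]
        rw [hi]
      have hwb : (w : GolayPt → ZMod 2) = fun p => (w : GolayPt → ZMod 2) (rep (blk p)) := funext hblk
      have hb : (fun p => (w : GolayPt → ZMod 2) (rep (blk p))) ∈ golayCode := hwb ▸ w.2
      exact ⟨fun b => (w : GolayPt → ZMod 2) (rep b), mem_code_iff_isCW.1 hb, hb,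
        hw.trans (congrArg sgn (Subtype.ext hwb))⟩
    refine (Nat.card_le_card_of_injective (β := {b : Fin 12 → ZMod 2 // isCW (mask fun p => b (blk p)) = true})
      (fun g => ⟨(key g).choose, (key g).choose_spec.1⟩) fun g g' e => ?_).trans (le_of_eq ?_)
    · obtain ⟨-, h1, e1⟩ := (key g).choose_spec
      obtain ⟨-, h2, e2⟩ := (key g').choose_spec
      refine Subtype.ext ?_
      rw [e1, e2]
      exact congrArg sgn (Subtype.ext (funext fun p => congrFun (congrArg Subtype.val e) (blk p)))
    · rw [Nat.card_eq_fintype_card, Fintype.card_subtype, card_bword]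

end CfsgLib.Sporadic.MonsterFusion.FI
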