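import Cfsg.Agent.Lib.Sporadic.MonsterFusion.FITables
import Cfsg.Agent.Lib.ThreeTransp.LeechForm

/-!
The element of order three with six fixed points and the classes of its fixed vectors.
-/

set_option autoImplicit false
set_option maxRecDepth 20000

namespace CfsgLib.Sporadic.MonsterFusion.FI

open Cfsg CfsgLib.SmallGroups CfsgLib.SmallGroups.Golay CfsgLib.SmallGroups.M24Group
  CfsgLib.Sporadic.M24Orbits CfsgLib.SmallGroups.LeechGroup

/-- The permutation with the given tables. -/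
def sigma : Equiv.Perm GolayPt :=
  ⟨tblFun sigT, tblFun sigI, by decide +kernel, by decide +kernel⟩

theorem sigma_mem : sigma ∈ M24 :=
  mem_M24_of_basis (f := tblFun sigT) (fun _ => rfl) (by decide +kernel)

/-- The element of `M24`. -/
def sM : M24 := ⟨sigma, sigma_mem⟩

/-- The lattice automorphism. -/
noncomputable def sg : Co0 := (permM sM : monoSub)

theorem permM_apply (π : M24) (v : leechLattice) (q : GolayPt) :
    (((permM π : Co0) • v : leechLattice) : GolayPt → ℤ) q =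
      (v : GolayPt → ℤ) ((π : Equiv.Perm GolayPt).symm q) := by
  show (((LeechMonomial.mono (π, ⟨∅, LeechReach.empty_mem_CS⟩)) • v : leechLattice) : GolayPt → ℤ) q = _
  rw [LeechMonomial.mono_apply]
  simp [signedPerm]

theorem sg_apply (v : leechLattice) (q : GolayPt) :
    ((sg • v : leechLattice) : GolayPt → ℤ) q = (v : GolayPt → ℤ) (sigma.symm q) := permM_apply sM v q

/-! ### Blocks -/

/-- The block of a point. -/
def blk (p : GolayPt) : Fin 12 := Fin.ofNat 12 (blkT.getD (idx p) 0)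

/-- The index of a point in its cycle. -/
def pos (p : GolayPt) : ℕ := posT.getD (idx p) 0

/-- The point of a cycle with the given index. -/
def cpt (j i : ℕ) : GolayPt := pt ((cycs.getD j []).getD (i % 3) 0)

/-- The first point of a block. -/
def rep (b : Fin 12) : GolayPt := if (b : ℕ) < 6 then cpt b 0 else pt (fixd.getD ((b : ℕ) - 6) 0)

/-- The vector constant on blocks. -/
def fv (a : Fin 12 → ℤ) : GolayPt → ℤ := fun p => a (blk p)

theorem blk_rep : ∀ b, blk (rep b) = b := by decide +kernel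

theorem pos_spec : ∀ p, (tblFun sigT)^[pos p] (rep (blk p)) = p := by decide +kernel

theorem eq_fv {v : leechLattice} (h : sg • v = v) :
    (v : GolayPt → ℤ) = fv fun b => (v : GolayPt → ℤ) (rep b) := by
  have hs : ∀ q, (v : GolayPt → ℤ) (tblFun sigT q) = (v : GolayPt → ℤ) q := fun q => by
    have := sg_apply v (tblFun sigT q)
    rwa [h, show sigma.symm (tblFun sigT q) = q from sigma.symm_apply_apply q] at this
  have hi : ∀ n q, (v : GolayPt → ℤ) ((tblFun sigT)^[n] q) = (v : GolayPt → ℤ) q := by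
    intro n
    induction n with
    | zero => intro q; rfl
    | succ n ih => intro q; rw [Function.iterate_succ', Function.comp, hs, ih]
  funext p
  conv_lhs => rw [← pos_spec p]
  rw [hi]
  rfl

theorem sg_fv {v : leechLattice} {a : Fin 12 → ℤ} (h : (v : GolayPt → ℤ) = fv a) : sg • v = v := by
  refine Subtype.ext (funext fun q => ?_)
  rw [sg_apply, h, fv, fv]
  exact congrArg a ((by decide +kernel : ∀ q, blk (tblFun sigI q) = blk q) q)

/-! ### Congruence of fixed vectors -/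

theorem ok_of_good {T : GolayPt → ℤ} (h : LeechBasic.Good T) (p : GolayPt) :
    LeechReach.okGood (T p) T = true := by
  obtain ⟨m, h1, h2, h3⟩ := h
  have hp := (h1 p).dvd
  simp only [LeechReach.okGood, Bool.and_eq_true, decide_eq_true_eq]
  refine ⟨⟨fun i => by have := (h1 i).dvd; omega, by have := h2.dvd; omega⟩, ?_⟩
  refine mem_code_iff_isCW.1 ?_
  rw [LeechBasic.wd_shift (m := m) (k := T p) (by omega)]
  exact add_mem h3 (Submodule.smul_mem _ _ LeechBasic.one_mem_code)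

/-- The half of the difference. -/
def halfD (a b : Fin 12 → ℤ) : Fin 12 → ℤ := fun i => (a i - b i) / 2

/-- Congruence of two fixed vectors modulo twice the lattice. -/
def congB (a b : Fin 12 → ℤ) : Bool :=
  decide (∀ i, (a i - b i) % 2 = 0) && LeechReach.okGood (halfD a b 6) (fv (halfD a b))

theorem cong_iff {v w : leechLattice} {a b : Fin 12 → ℤ} (hv : (v : GolayPt → ℤ) = fv a)
    (hw : (w : GolayPt → ℤ) = fv b) : Cong v w ↔ congB a b = true := by
  simp only [congB, Bool.and_eq_true, decide_eq_true_eq]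
  constructor
  · rintro ⟨x, hx⟩
    have hh : ∀ p, a (blk p) - b (blk p) = 2 * (x : GolayPt → ℤ) p := fun p => by
      have := congrFun (congrArg Subtype.val hx) p
      simp only [AddSubgroup.coe_add, Pi.add_apply, hv, hw, fv] at this
      omega
    have h2 : ∀ i, a i - b i = 2 * (x : GolayPt → ℤ) (rep i) := fun i => by
      have := hh (rep i)
      rwa [blk_rep] at this
    have hxe : (x : GolayPt → ℤ) = fv (halfD a b) := funext fun p => by
      have := hh p
      simp only [fv, halfD]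
      omega
    refine ⟨fun i => by have := h2 i; omega, ?_⟩
    have := ok_of_good (LeechBasic.mem_lattice.1 x.2) (rep 6)
    rw [hxe] at this
    simpa [fv, blk_rep] using this
  · rintro ⟨he, hok⟩
    refine ⟨⟨_, LeechBasic.mem_lattice.2 (LeechReach.good_of_ok hok)⟩, Subtype.ext (funext fun p => ?_)⟩
    simp only [AddSubgroup.coe_add, Pi.add_apply, hv, hw, fv, halfD]
    have := he (blk p)
    omega

/-! ### A basis of the fixed lattice -/

/-- The rows of the basis. -/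
def bas12 (j : Fin 12) : Fin 12 → ℤ := fun i => (basT.getD j []).getD i 0

theorem bas12_good : ∀ j, LeechReach.okGood (bas12 j 6) (fv (bas12 j)) = true := by decide +kernel

/-- The basis vectors. -/
noncomputable def Bv (j : Fin 12) : leechLattice :=
  ⟨fv (bas12 j), LeechBasic.mem_lattice.2 (LeechReach.good_of_ok (bas12_good j))⟩

/-- The representative of a class. -/
noncomputable def kap (n : Fin 12 → ZMod 2) : leechLattice := ∑ j, (n j).val • Bv j

/-- The coordinates of the representative. -/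
def comb (n : Fin 12 → ZMod 2) : Fin 12 → ℤ := fun i => ∑ j, ((n j).val : ℤ) * bas12 j i

theorem coe_kap (n : Fin 12 → ZMod 2) : (kap n : GolayPt → ℤ) = fv (comb n) := by
  funext p
  simp [kap, comb, fv, Bv, Finset.sum_apply, -ZMod.natCast_val]

/-- A word of blocks lies in the code only if six of its letters are determined by the others. -/
theorem bword_code : ∀ b : Fin 12 → ZMod 2, b 0 = 0 → isCW (mask fun p => b (blk p)) = true →
    b 6 = b 1 + b 2 + b 3 + b 5 ∧ b 7 = b 1 + b 2 + b 4 + b 5 ∧ b 8 = b 1 + b 2 + b 3 + b 4 ∧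
      b 9 = b 1 + b 3 + b 4 + b 5 ∧ b 10 = b 1 + b 2 + b 3 + b 4 + b 5 ∧
      b 11 = b 2 + b 3 + b 4 + b 5 := by decide +kernel

theorem sum_fv (a : Fin 12 → ℤ) :
    ∑ p, fv a p = 3 * (a 0 + a 1 + a 2 + a 3 + a 4 + a 5) + a 6 + a 7 + a 8 + a 9 + a 10 + a 11 := by
  have h : ∑ p, fv a p = ∑ b : Fin 12, ((Finset.univ.filter fun p => blk p = b).card : ℤ) * a b := by
    rw [← Finset.sum_fiberwise_of_maps_to (t := Finset.univ) (g := blk) (fun _ _ => Finset.mem_univ _)]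
    refine Finset.sum_congr rfl fun b _ => ?_
    rw [Finset.sum_congr rfl fun p hp => show fv a p = a b from congrArg a (Finset.mem_filter.1 hp).2,
      Finset.sum_const, nsmul_eq_mul]
  have hc : ∀ b : Fin 12, (Finset.univ.filter fun p => blk p = b).card = if (b : ℕ) < 6 then 3 else 1 := by
    decide +kernel
  rw [h]
  simp only [Fin.sum_univ_succ, Fin.sum_univ_zero, hc]
  simp
  ring

/-- The inner product of two fixed vectors in coordinates. -/
def dot12 (a b : Fin 12 → ℤ) : ℤ :=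
  3 * (a 0 * b 0 + a 1 * b 1 + a 2 * b 2 + a 3 * b 3 + a 4 * b 4 + a 5 * b 5) + a 6 * b 6 + a 7 * b 7 +
    a 8 * b 8 + a 9 * b 9 + a 10 * b 10 + a 11 * b 11

theorem dot_fv (a b : Fin 12 → ℤ) : dotInt (fv a) (fv b) = dot12 a b := by
  rw [dot12, ← sum_fv fun i => a i * b i]
  rfl

theorem bas12_rows :
    bas12 0 = ![1, 1, 1, 1, 1, 1, 1, 1, 1, 1, 1, 5] ∧ bas12 1 = ![0, 2, 0, 0, 0, 0, 2, 2, 2, 2, 2, 0] ∧
      bas12 2 = ![0, 0, 2, 0, 0, 0, 2, 2, 2, 0, 2, 2] ∧ bas12 3 = ![0, 0, 0, 2, 0, 0, 2, 0, 2, 2, 2, 2] ∧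
      bas12 4 = ![0, 0, 0, 0, 2, 0, 0, 2, 2, 2, 2, 2] ∧ bas12 5 = ![0, 0, 0, 0, 0, 2, 2, 2, 0, 2, 2, 2] ∧
      bas12 6 = ![0, 0, 0, 0, 0, 0, 4, 0, 0, 0, 0, 4] ∧ bas12 7 = ![0, 0, 0, 0, 0, 0, 0, 4, 0, 0, 0, 4] ∧
      bas12 8 = ![0, 0, 0, 0, 0, 0, 0, 0, 4, 0, 0, 4] ∧ bas12 9 = ![0, 0, 0, 0, 0, 0, 0, 0, 0, 4, 0, 4] ∧
      bas12 10 = ![0, 0, 0, 0, 0, 0, 0, 0, 0, 0, 4, 4] ∧ bas12 11 = ![0, 0, 0, 0, 0, 0, 0, 0, 0, 0, 0, 8] := by
  refine ⟨?_, ?_, ?_, ?_, ?_, ?_, ?_, ?_, ?_, ?_, ?_, ?_⟩ <;> decide +kernel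

/-- The basis spans over the integers. -/
theorem exists_coords (v : leechLattice) (h : sg • v = v) :
    ∃ N : Fin 12 → ℤ, v = ∑ j, N j • Bv j := by
  obtain ⟨a, ha⟩ : ∃ a, (v : GolayPt → ℤ) = fv a := ⟨_, eq_fv h⟩
  obtain ⟨n0, hn0⟩ : ∃ n0 : ℤ, n0 = a 0 := ⟨_, rfl⟩
  set a' : Fin 12 → ℤ := fun i => a i - n0 * bas12 0 i with ha'
  have hgood : LeechBasic.Good (fv a') := by
    have hm := (v - n0 • Bv 0).2
    rw [AddSubgroup.coe_sub, AddSubgroup.coe_zsmul, ha] at hm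
    refine LeechBasic.mem_lattice.1 ?_
    convert hm using 1
    funext p
    simp [ha', fv, Bv]
  obtain ⟨r0, r1, r2, r3, r4, r5, r6, r7, r8, r9, r10, r11⟩ := bas12_rows
  have h0 : a' 0 = 0 := by simp [ha', r0, hn0]
  obtain ⟨m, y, hm, hy, hs, hc⟩ := LeechBasic.exists_halves hgood
  have hy' : ∀ b, a' b = m + 2 * y (rep b) := fun b => by
    have := hy (rep b)
    rwa [fv, blk_rep] at this
  have hm0 : m = 0 := by have := hy' 0; omega
  subst hm0
  have hye : y = fv fun b => a' b / 2 := funext fun p => by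
    have := hy p
    simp only [fv] at this ⊢
    omega
  rw [hye, sum_fv] at hs
  have hb : (fun p => (y p : ZMod 2)) = fun p => ((a' (blk p) / 2 : ℤ) : ZMod 2) := by
    funext p
    rw [hye]
    rfl
  rw [hb] at hc
  obtain ⟨g6, g7, g8, g9, g10, g11⟩ :=
    bword_code (fun b => ((a' b / 2 : ℤ) : ZMod 2)) (by simp [h0]) (mem_code_iff_isCW.1 hc)
  simp only [← Int.cast_add, ZMod.intCast_eq_intCast_iff_dvd_sub] at g6 g7 g8 g9 g10 g11
  obtain ⟨n1, hn1⟩ : ∃ n, n = a' 1 / 2 := ⟨_, rfl⟩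
  obtain ⟨n2, hn2⟩ : ∃ n, n = a' 2 / 2 := ⟨_, rfl⟩
  obtain ⟨n3, hn3⟩ : ∃ n, n = a' 3 / 2 := ⟨_, rfl⟩
  obtain ⟨n4, hn4⟩ : ∃ n, n = a' 4 / 2 := ⟨_, rfl⟩
  obtain ⟨n5, hn5⟩ : ∃ n, n = a' 5 / 2 := ⟨_, rfl⟩
  obtain ⟨n6, hn6⟩ : ∃ n, n = (a' 6 - 2 * n1 - 2 * n2 - 2 * n3 - 2 * n5) / 4 := ⟨_, rfl⟩
  obtain ⟨n7, hn7⟩ : ∃ n, n = (a' 7 - 2 * n1 - 2 * n2 - 2 * n4 - 2 * n5) / 4 := ⟨_, rfl⟩
  obtain ⟨n8, hn8⟩ : ∃ n, n = (a' 8 - 2 * n1 - 2 * n2 - 2 * n3 - 2 * n4) / 4 := ⟨_, rfl⟩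
  obtain ⟨n9, hn9⟩ : ∃ n, n = (a' 9 - 2 * n1 - 2 * n3 - 2 * n4 - 2 * n5) / 4 := ⟨_, rfl⟩
  obtain ⟨n10, hn10⟩ : ∃ n, n = (a' 10 - 2 * n1 - 2 * n2 - 2 * n3 - 2 * n4 - 2 * n5) / 4 := ⟨_, rfl⟩
  obtain ⟨n11, hn11⟩ : ∃ n, n = (a' 11 - 2 * n2 - 2 * n3 - 2 * n4 - 2 * n5 - 4 * n6 - 4 * n7 - 4 * n8 -
      4 * n9 - 4 * n10) / 8 := ⟨_, rfl⟩
  have e1 := hy' 1
  have e2 := hy' 2
  have e3 := hy' 3
  have e4 := hy' 4
  have e5 := hy' 5
  have e6 := hy' 6
  have e7 := hy' 7
  have e8 := hy' 8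
  have e9 := hy' 9
  have e10 := hy' 10
  have e11 := hy' 11
  set N : Fin 12 → ℤ := ![n0, n1, n2, n3, n4, n5, n6, n7, n8, n9, n10, n11] with hN
  refine ⟨N, Subtype.ext (funext fun p => ?_)⟩
  rw [ha]
  simp only [AddSubgroup.val_finsetSum, AddSubgroup.coe_zsmul, Finset.sum_apply, Pi.smul_apply, smul_eq_mul,
    Bv, fv, Fin.sum_univ_succ, Fin.sum_univ_zero]
  have key : ∀ i, a i = n0 * bas12 0 i + n1 * bas12 1 i + n2 * bas12 2 i + n3 * bas12 3 i + n4 * bas12 4 i +
      n5 * bas12 5 i + n6 * bas12 6 i + n7 * bas12 7 i + n8 * bas12 8 i + n9 * bas12 9 i + n10 * bas12 10 i +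
      n11 * bas12 11 i := by
    intro i
    have hai : a i = a' i + n0 * bas12 0 i := by simp [ha']
    rw [r0] at hai
    rw [r0, r1, r2, r3, r4, r5, r6, r7, r8, r9, r10, r11]
    fin_cases i <;> simp at hai ⊢ <;> omega
  have hk := key (blk p)
  simp [hN, add_assoc] at hk ⊢
  exact hk

/-- The basis spans modulo twice the lattice. -/
theorem span (v : leechLattice) (h : sg • v = v) : ∃ n : Fin 12 → ZMod 2, Cong v (kap n) := by
  obtain ⟨N, rfl⟩ := exists_coords v h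
  refine ⟨fun j => (N j : ZMod 2), ∑ j, (N j / 2) • Bv j, ?_⟩
  rw [kap, ← Finset.sum_add_distrib, ← Finset.sum_add_distrib]
  refine Finset.sum_congr rfl fun j _ => ?_
  have hval : (((N j : ZMod 2).val : ℕ) : ℤ) = N j % 2 := by
    rw [ZMod.val_intCast]; norm_num
  rw [← natCast_zsmul, hval, ← add_smul, ← add_smul]
  congr 1
  omega

/-- The representative is additive modulo twice the lattice. -/
theorem kap_add (n n' : Fin 12 → ZMod 2) : Cong (kap n + kap n') (kap (n + n')) := by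
  refine ⟨∑ j, ((n j).val * (n' j).val) • Bv j, ?_⟩
  rw [kap, kap, kap, ← Finset.sum_add_distrib, ← Finset.sum_add_distrib, ← Finset.sum_add_distrib]
  refine Finset.sum_congr rfl fun j _ => ?_
  rw [← add_smul, ← add_smul, ← add_smul]
  congr 1
  exact (by decide : ∀ a b : ZMod 2, a.val + b.val = (a + b).val + (a.val * b.val + a.val * b.val)) _ _

theorem kap_single (j : Fin 12) : kap (Pi.single j 1) = Bv j := by
  rw [kap, Finset.sum_eq_single j (fun x _ hx => by simp [hx]) (by simp)]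
  simp [ZMod.val_one]

/-- The code number of a class. -/
def kn (n : Fin 12 → ZMod 2) : ℕ := ∑ j : Fin 12, (n j).val * 2 ^ (j : ℕ)

/-! ### Nondegeneracy on the classes -/

/-- The inverse of the matrix of inner products modulo two. -/
def invG : List ℕ := [2048, 3072, 1536, 1152, 1088, 1280, 2064, 2056, 2080, 2052, 62, 963]

theorem dot_comb (n : Fin 12 → ZMod 2) (j : Fin 12) :
    dot12 (comb n) (bas12 j) = ∑ i, ((n i).val : ℤ) * dot12 (bas12 i) (bas12 j) := by
  simp only [dot12, comb, mul_add, Finset.sum_mul, Finset.mul_sum, ← Finset.sum_add_distrib]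
  exact Finset.sum_congr rfl fun i _ => by ring

theorem invG_spec : ∀ i k : Fin 12, ∑ j : Fin 12, ((dot12 (bas12 i) (bas12 j) / 8 : ℤ) : ZMod 2) *
    (if (invG.getD j 0).testBit k then 1 else 0) = if i = k then 1 else 0 := by decide +kernel

theorem eight_dvd_bas : ∀ i j : Fin 12, 8 * (dot12 (bas12 i) (bas12 j) / 8) = dot12 (bas12 i) (bas12 j) := by
  decide +kernel

theorem dot_nondeg (n : Fin 12 → ZMod 2) (h : ∀ j, (16 : ℤ) ∣ dotInt (fv (comb n)) (fv (bas12 j))) : n = 0 := by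
  have h2 : ∀ j, ∑ i, n i * ((dot12 (bas12 i) (bas12 j) / 8 : ℤ) : ZMod 2) = 0 := by
    intro j
    have h16 := h j
    rw [dot_fv, dot_comb, ← Finset.sum_congr rfl (fun i _ => show (8 : ℤ) * (((n i).val : ℤ) *
        (dot12 (bas12 i) (bas12 j) / 8)) = _ by rw [mul_left_comm, eight_dvd_bas]), ← Finset.mul_sum,
      show (16 : ℤ) = 8 * 2 from rfl] at h16
    have h' := (ZMod.intCast_zmod_eq_zero_iff_dvd _ 2).2 (Int.dvd_of_mul_dvd_mul_left (by norm_num) h16)
    rw [Int.cast_sum] at h'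
    refine Eq.trans (Finset.sum_congr rfl fun i _ => ?_) h'
    rw [Int.cast_mul, Int.cast_natCast, ZMod.natCast_zmod_val]
  funext k
  calc n k = ∑ i, n i * (if i = k then 1 else 0) := by simp
    _ = ∑ i, n i * ∑ j : Fin 12, ((dot12 (bas12 i) (bas12 j) / 8 : ℤ) : ZMod 2) *
        (if (invG.getD j 0).testBit k then 1 else 0) := by simp only [invG_spec]
    _ = ∑ j : Fin 12, (∑ i, n i * ((dot12 (bas12 i) (bas12 j) / 8 : ℤ) : ZMod 2)) *
        (if (invG.getD j 0).testBit k then 1 else 0) := by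
      simp only [Finset.mul_sum, Finset.sum_mul, mul_assoc]
      exact Finset.sum_comm
    _ = 0 := by simp [h2]

theorem kap_zero {n : Fin 12 → ZMod 2} (h : Cong (kap n) 0) : n = 0 := by
  obtain ⟨x, hx⟩ := h
  refine dot_nondeg n fun j => ?_
  obtain ⟨c, hc⟩ := ThreeTransp.LeechForm.eight_dvd_dot x (Bv j)
  refine ⟨c, ?_⟩
  rw [← coe_kap, hx, zero_add, AddSubgroup.coe_add, dotInt_add_left]
  show dotInt (x : GolayPt → ℤ) (Bv j : GolayPt → ℤ) + dotInt (x : GolayPt → ℤ) (Bv j : GolayPt → ℤ) = _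
  rw [hc]
  ring

theorem kap_inj {n n' : Fin 12 → ZMod 2} (h : Cong (kap n) (kap n')) : n = n' := by
  obtain ⟨y, hy⟩ := kap_add n n'
  obtain ⟨x, hx⟩ := h
  have h1 : n + n' = 0 := kap_zero ⟨kap n' + x - y, by
    rw [hx] at hy
    rw [zero_add, ← sub_eq_iff_eq_add.2 hy]
    abel⟩
  funext i
  have := congrFun h1 i
  rw [Pi.add_apply, Pi.zero_apply] at this
  exact (by decide : ∀ x y : ZMod 2, x + y = 0 → x = y) _ _ this

end CfsgLib.Sporadic.MonsterFusion.FI
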