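import Cfsg.Agent.Lib.Sporadic.MonsterFusion.FIQuad
import Cfsg.Agent.Lib.Classical.OrthPOmega
import Cfsg.Agent.Lib.Classical.LowRank.SixMinus
import Cfsg.Agent.S0280
import Cfsg.Agent.S0283
import Cfsg.Agent.S0303

/-!
The image of the centraliser in the projective orthogonal group, and the kernel.
-/

set_option autoImplicit false
set_option maxRecDepth 20000

namespace CfsgLib.Sporadic.MonsterFusion.FI

open Cfsg CfsgLib.SmallGroups CfsgLib.SmallGroups.Golay CfsgLib.SmallGroups.LeechGroup CfsgLib.Orth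
  CfsgLib.Classical CfsgLib.Sporadic.M24Orbits QuadraticMap

/-! ### The projective group -/

/-- Negation. -/
noncomputable def negO : orthGroup Q6 := negEl Q6

/-- The group of signs. -/
noncomputable def Zs : Subgroup (orthGroup Q6) := Subgroup.zpowers negO

theorem negO_sq : negO * negO = 1 := Subtype.ext (LinearEquiv.ext fun v => neg_neg v)

theorem mem_Zs {x : orthGroup Q6} : x ∈ Zs ↔ x = 1 ∨ x = negO := by
  constructor
  · intro h
    obtain ⟨i, rfl⟩ := Subgroup.mem_zpowers_iff.1 h
    rcases Int.even_or_odd' i with ⟨k, rfl | rfl⟩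
    · left; rw [zpow_mul, zpow_two, negO_sq, one_zpow]
    · right; rw [zpow_add, zpow_mul, zpow_two, negO_sq, one_zpow, one_mul, zpow_one]
  · rintro (rfl | rfl)
    · exact one_mem _
    · exact Subgroup.mem_zpowers _

theorem negO_comm (g : orthGroup Q6) : g * negO = negO * g := negEl_comm g

instance Zs_normal : Zs.Normal := ⟨fun x hx g => by
  rcases mem_Zs.1 hx with rfl | rfl
  · rw [mul_one, mul_inv_cancel]; exact one_mem _
  · rw [negO_comm, mul_inv_cancel_right]; exact Subgroup.mem_zpowers _⟩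

/-- The projective orthogonal group. -/
abbrev PO6 : Type := orthGroup Q6 ⧸ Zs

/-- The quotient map. -/
noncomputable def mkP : orthGroup Q6 →* PO6 := QuotientGroup.mk' Zs

theorem mkP_eq_one {x : orthGroup Q6} : mkP x = 1 ↔ x = 1 ∨ x = negO := by
  rw [mkP, QuotientGroup.mk'_apply, QuotientGroup.eq_one_iff, mem_Zs]

/-- The image of the commutator subgroup. -/
noncomputable def OmP : Subgroup PO6 := (commutator (orthGroup Q6)).map mkP

instance OmP_normal : OmP.Normal :=
  Subgroup.Normal.map inferInstance mkP (QuotientGroup.mk'_surjective Zs)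

/-- Two orthogonal hyperbolic pairs. -/
noncomputable def hyp : HypPairs Q6 where
  e₀ := Pi.single (.inl (.inl 0)) 1
  f₀ := Pi.single (.inl (.inr 0)) 1
  e₁ := Pi.single (.inl (.inl 1)) 1
  f₁ := Pi.single (.inl (.inr 1)) 1
  he₀ := by rw [Q6_apply]; decide +kernel
  hf₀ := by rw [Q6_apply]; decide +kernel
  he₁ := by rw [Q6_apply]; decide +kernel
  hf₁ := by rw [Q6_apply]; decide +kernel
  h00 := by rw [polar_Q6]; decide +kernel
  h11 := by rw [polar_Q6]; decide +kernel
  hee := by rw [polar_Q6]; decide +kernel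
  hef := by rw [polar_Q6]; decide +kernel
  hfe := by rw [polar_Q6]; decide +kernel
  hff := by rw [polar_Q6]; decide +kernel

/-- Commuting up to sign with all of the commutator subgroup forces a sign. -/
theorem sign_of_commute (c : orthGroup Q6)
    (hc : ∀ x ∈ commutator (orthGroup Q6), mkP c * mkP x = mkP x * mkP c) : c = 1 ∨ c = negO := by
  have h2 : (2 : ZMod 3) ≠ 0 := by decide
  have hsq : ∀ h : orthGroup Q6, c * ((h * h) * (h * h)) = (h * h) * (h * h) * c := by
    intro h
    have hx := hc (h * h) (sq_mem_commutator Q6_nondeg (good_of_two_ne h2) h)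
    have h1 : mkP ((c * (h * h)) * ((h * h) * c)⁻¹) = 1 := by
      rw [map_mul, map_inv, map_mul mkP c, map_mul mkP (h * h) c, hx, mul_inv_cancel]
    generalize h * h = A at h1 ⊢
    rcases mkP_eq_one.1 h1 with r | r
    · rw [mul_inv_eq_one] at r
      rw [← mul_assoc, r, mul_assoc, r, ← mul_assoc]
    · rw [mul_inv_eq_iff_eq_mul] at r
      rw [← mul_assoc, r, mul_assoc negO, mul_assoc A, r, ← mul_assoc A negO, negO_comm, mul_assoc negO,
        ← mul_assoc negO negO, negO_sq, one_mul, ← mul_assoc]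
  obtain ⟨t, ht⟩ := scalar_of_commute Q6_nondeg h2 hyp.he₀ hyp.hf₀ hyp.he₁ hyp.hf₁ hyp.h00 hyp.h11 hyp.hee hyp.hef
    hyp.hfe hyp.hff (c.1 : W6 →ₗ[ZMod 3] W6) (fun h v => LinearEquiv.congr_fun (congrArg Subtype.val (hsq h)) v)
  have hne : t ≠ 0 := fun h0 => by
    have := congrFun (c.1.injective ((ht (Pi.single (.inr 0) 1)).trans (by rw [h0, zero_smul, map_zero]))) (.inr 0)
    simp at this
  rcases (show ∀ t : ZMod 3, t ≠ 0 → t = 1 ∨ t = -1 by decide) t hne with rfl | rfl
  · exact Or.inl (Subtype.ext (LinearEquiv.ext fun v => (ht v).trans (one_smul _ v)))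
  · exact Or.inr (Subtype.ext (LinearEquiv.ext fun v => (ht v).trans (neg_one_smul _ v)))

/-- The centraliser of the image of the commutator subgroup is trivial. -/
theorem centralizer_OmP : Subgroup.centralizer (OmP : Set PO6) = ⊥ := by
  rw [Subgroup.eq_bot_iff_forall]
  intro x hx
  obtain ⟨c, rfl⟩ := QuotientGroup.mk'_surjective Zs x
  refine mkP_eq_one.2 (sign_of_commute c fun y hy => ?_)
  exact (Subgroup.mem_centralizer_iff.1 hx (mkP y) ⟨y, hy, rfl⟩).symm

theorem quad_minus (v : W6) : Cfsg.quadFormMinus 2 (ZMod 3) 0 1 v = Q6 v := minusForm_apply 2 0 1 v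

/-- The image of the commutator subgroup is the simple group of minus type. -/
theorem exists_OmP_equiv (K : Type) [Field K] [Fintype K] (hK : Fintype.card K = 9) :
    Nonempty (OmP ≃* Cfsg.PSU 4 K 3) := by
  obtain ⟨e⟩ := Cfsg.Agent.S0303.result (F := ZMod 3) (K := K) (q := 3) (ZMod.card 3) (by rw [hK]; norm_num)
    (0 : ZMod 3) 1 aniso
  let E := omegaEquiv Q6 quad_minus
  let f : Cfsg.Omega (ZMod 3) (Cfsg.quadFormMinus 2 (ZMod 3) 0 1) →* PO6 :=
    mkP.comp ((commutator (orthGroup Q6)).subtype.comp E.toMonoidHom)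
  have hker : f.ker = Subgroup.center _ := by
    ext x
    rw [MonoidHom.mem_ker, Subgroup.mem_center_iff]
    constructor
    · intro hx y
      refine E.injective (Subtype.ext ?_)
      rw [map_mul, map_mul, Subgroup.coe_mul, Subgroup.coe_mul]
      rcases mkP_eq_one.1 hx with r | r
      · rw [show ((E x : commutator (orthGroup Q6)) : orthGroup Q6) = 1 from r, mul_one, one_mul]
      · rw [show ((E x : commutator (orthGroup Q6)) : orthGroup Q6) = negO from r, negO_comm]
    · intro hx
      refine mkP_eq_one.2 (sign_of_commute _ fun y hy => ?_)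
      obtain ⟨y', hy'⟩ := E.surjective ⟨y, hy⟩
      have h1 := congrArg (fun z => mkP ((E z : commutator (orthGroup Q6)) : orthGroup Q6)) (hx y')
      simp only [map_mul, Subgroup.coe_mul, hy'] at h1
      exact h1.symm
  have hr : f.range = OmP := by
    ext x
    constructor
    · rintro ⟨y, rfl⟩
      exact ⟨_, (E y).2, rfl⟩
    · rintro ⟨y, hy, rfl⟩
      obtain ⟨y', hy'⟩ := E.surjective ⟨y, hy⟩
      exact ⟨y', congrArg (fun z : commutator (orthGroup Q6) => mkP (z : orthGroup Q6)) hy'⟩
  exact ⟨(MulEquiv.subgroupCongr hr).symm.trans ((QuotientGroup.quotientKerEquivRange f).symm.trans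
    ((QuotientGroup.quotientMulEquivOfEq hker).trans e))⟩

/-- The field of order nine. -/
abbrev K9 : Type := GaloisField 3 2

noncomputable instance : Fintype K9 := Fintype.ofFinite _

theorem card_K9 : Fintype.card K9 = 9 := by
  rw [← Nat.card_eq_fintype_card, GaloisField.card 3 2 (by norm_num)]
  norm_num

theorem card_OmP : Nat.card OmP = 3265920 := by
  obtain ⟨e⟩ := exists_OmP_equiv K9 card_K9
  rw [Nat.card_congr e.toEquiv]
  have h := Cfsg.Agent.S0280.result (F := K9) (q := 3) (card_K9.trans (by norm_num)) 4 (by norm_num)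
  norm_num [Finset.prod_range_succ, Nat.even_iff] at h
  omega

theorem simple_OmP : IsSimpleGroup OmP := by
  obtain ⟨e⟩ := exists_OmP_equiv K9 card_K9
  have := Cfsg.Agent.S0283.result (F := K9) (q := 3) (card_K9.trans (by norm_num)) 4 (by norm_num) (by norm_num)
  exact e.isSimpleGroup

/-! ### Reflections in the image -/

/-- A reflection, computed. -/
def reflA (v w : W6) : W6 := fun l => w l - (q6 v * pol6 v w) * v l

theorem refl_eq (v w : W6) : (refl Q6 v).1 w = reflA v w := by
  rw [refl_apply, Q6_apply, polar_Q6]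
  funext l
  rw [Pi.sub_apply, Pi.smul_apply, smul_eq_mul, reflA,
    (by decide +kernel : ∀ t : ZMod 3, t⁻¹ = t) (q6 v)]

/-- The base vector. -/
def e0 : W6 := Pi.single (.inr 0) 1

/-- The ternary code of a vector. -/
def code (v : W6) : ℕ := ∑ k, (v k).val * 3 ^ ix k

/-- The word leading to a vector. -/
def tw (v : W6) : List (Fin 9) :=
  (((List.range 6).map fun s => (treeT >>> (24 * code v + 4 * s)) % 16).takeWhile (fun g => g != 0)).map
    fun g => Fin.ofNat 9 (g - 1)

theorem tw_spec : ∀ v : W6, q6 v = 1 → rgW (tw v) e0 = v := by decide +kernel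

theorem rho_three : rho (genC 3) = refl Q6 e0 := by
  refine Subtype.ext (LinearEquiv.ext fun w => ?_)
  rw [rho_gen, refl_eq]
  exact (by decide +kernel : ∀ w, rgA 3 w = reflA e0 w) w

theorem refl_one_mem {v : W6} (h : q6 v = 1) : refl Q6 v ∈ rho.range := by
  rw [← tw_spec v h, ← rho_gWC, ← conj_refl, ← rho_three]
  exact mul_mem (mul_mem ⟨_, rfl⟩ ⟨_, rfl⟩) (inv_mem ⟨_, rfl⟩)

/-- The subgroup generated by the reflections of square class one. -/
noncomputable def K1 : Subgroup (orthGroup Q6) := Subgroup.closure (refl Q6 '' {v | q6 v = 1})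

theorem K1_le : K1 ≤ rho.range := by
  refine (Subgroup.closure_le _).2 ?_
  rintro _ ⟨v, hv, rfl⟩
  exact refl_one_mem hv

instance K1_normal : K1.Normal := by
  refine ⟨fun x hx g => ?_⟩
  induction hx using Subgroup.closure_induction with
  | mem x hx =>
    obtain ⟨v, hv, rfl⟩ := hx
    rw [conj_refl]
    refine Subgroup.subset_closure ⟨_, ?_, rfl⟩
    show q6 (g.1 v) = 1
    rw [← Q6_apply, apply_quad, Q6_apply]
    exact hv
  | one => rw [mul_one, mul_inv_cancel]; exact one_mem _
  | mul x y _ _ hx hy => rw [conj_mul.symm]; exact mul_mem hx hy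
  | inv x _ hx => rw [← conj_inv]; exact inv_mem hx

theorem orth_pair {u u' : W6} (hu : q6 u = 2) (hu' : q6 u' = 2) (h : pol6 u u' = 0) :
    refl Q6 u * refl Q6 u' ∈ K1 := by
  have hu0 : Q6 u = 2 := (Q6_apply u).trans hu
  have hu0' : Q6 u' = 2 := (Q6_apply u').trans hu'
  have h0 : polar Q6 u u' = 0 := (polar_Q6 u u').trans h
  have h0' : polar Q6 u' u = 0 := by rw [polar_comm]; exact h0
  have ha : Q6 (u + u') = 1 := by rw [quad_add', hu0, hu0', h0]; decide
  have hc : Q6 (u - u') = 1 := by
    rw [sub_eq_add_neg, quad_add', QuadraticMap.map_neg, polar_neg_right, hu0, hu0', h0]; decide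
  have he : refl Q6 (u + u') * refl Q6 (u - u') = refl Q6 u * refl Q6 u' := by
    refine Subtype.ext (LinearEquiv.ext fun w => ?_)
    show (refl Q6 (u + u')).1 ((refl Q6 (u - u')).1 w) = (refl Q6 u).1 ((refl Q6 u').1 w)
    simp only [refl_apply, ha, hc, hu0, hu0', polar_add_left, polar_sub_left, polar_sub_right, polar_smul_r',
      polar_add_right, polar_self', h0, h0', show ((2 : ZMod 3)⁻¹) = 2 by decide +kernel, inv_one, one_mul]
    funext l
    simp only [Pi.sub_apply, Pi.smul_apply, Pi.add_apply, smul_eq_mul]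
    generalize polar Q6 u w = x, polar Q6 u' w = y, w l = z, u l = s, u' l = t
    decide +kernel +revert
  rw [← he]
  exact mul_mem (Subgroup.subset_closure ⟨_, (Q6_apply _).symm.trans ha, rfl⟩)
    (Subgroup.subset_closure ⟨_, (Q6_apply _).symm.trans hc, rfl⟩)

/-- A vector of the other square class. -/
def u0 : W6 := Pi.single (.inr 0) 1 + Pi.single (.inr 1) 1

theorem connect : ∀ u : W6, q6 u = 2 → ∃ u' : W6, q6 u' = 2 ∧ pol6 u0 u' = 0 ∧ pol6 u' u = 0 := by
  decide +kernel

theorem commutator_le_range : commutator (orthGroup Q6) ≤ rho.range := by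
  refine le_trans (Subgroup.Normal.commutator_le_of_self_sup_commutative_eq_top
    (N := K1) (H := Subgroup.zpowers (refl Q6 u0)) ?_ inferInstance) K1_le
  rw [eq_top_iff, ← reflGroup_eq_top Q6_nondeg (good_of_two_ne (by decide)), reflGroup, Subgroup.closure_le]
  rintro _ ⟨v, rfl⟩
  rcases (show ∀ t : ZMod 3, t = 0 ∨ t = 1 ∨ t = 2 by decide) (q6 v) with e | e | e
  · rw [show refl Q6 v = 1 from Subtype.ext (LinearEquiv.ext fun w => by
      rw [refl_eq]; funext l; simp [reflA, e])]
    exact one_mem _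
  · exact Subgroup.mem_sup_left (Subgroup.subset_closure ⟨v, e, rfl⟩)
  · obtain ⟨u', hu', h1, h2⟩ := connect v e
    have hm := mul_mem (orth_pair (by decide +kernel) hu' h1) (orth_pair hu' e h2)
    rw [← mul_assoc, mul_assoc (refl Q6 u0), refl_mul_self, mul_one] at hm
    rw [show refl Q6 v = refl Q6 u0 * (refl Q6 u0 * refl Q6 v) by rw [← mul_assoc, refl_mul_self, one_mul]]
    exact mul_mem (Subgroup.mem_sup_right (Subgroup.mem_zpowers _)) (Subgroup.mem_sup_left hm)

end CfsgLib.Sporadic.MonsterFusion.FI
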