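import Cfsg.Agent.Lib.Sporadic.MonsterFusion.THLift
import Cfsg.Agent.Lib.Sporadic.MonsterFusion.FICount

/-!
Lifting the element with six fixed points and its centraliser into the centraliser of the involution.
-/

set_option autoImplicit false
set_option maxRecDepth 20000

namespace CfsgLib.Sporadic.MonsterFusion.FI

open Cfsg CfsgLib.SmallGroups CfsgLib.SmallGroups.LeechGroup CfsgLib.ThreeTransp.Extraspecial
open Held (coprime_fix transport finite_Co1 cong_symm co0_ext)
open TH (up up_inj fact3 not_three_dvd_two_pow sylM syl syl_card sylM_inj)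

/-- The images of the positions under two conjugating elements. -/
def cjT : List (List ℕ) := [
  [3, 23, 4, 13, 6, 5, 21, 9, 19, 17, 16, 1, 11, 14, 12, 15, 22, 18, 20, 8, 10, 2, 7, 0],
  [3, 8, 4, 10, 1, 14, 9, 21, 7, 12, 15, 13, 20, 22, 19, 11, 18, 5, 16, 23, 6, 2, 17, 0]]

/-- Their inverses. -/
def cjI : List (List ℕ) := [
  [23, 11, 21, 0, 2, 5, 4, 22, 19, 7, 20, 12, 14, 3, 13, 15, 10, 9, 17, 8, 18, 6, 16, 1],
  [23, 4, 21, 0, 2, 17, 20, 8, 1, 6, 3, 15, 9, 11, 5, 10, 18, 22, 16, 14, 12, 7, 13, 19]]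

/-- A conjugating element. -/
def cjM (i : Fin 2) : M24 :=
  ⟨⟨M24Orbits.tblFun (cjT.getD i []), M24Orbits.tblFun (cjI.getD i []),
    (by decide +kernel : ∀ (i : Fin 2) p,
      M24Orbits.tblFun (cjI.getD i []) (M24Orbits.tblFun (cjT.getD i []) p) = p) i,
    (by decide +kernel : ∀ (i : Fin 2) p,
      M24Orbits.tblFun (cjT.getD i []) (M24Orbits.tblFun (cjI.getD i []) p) = p) i⟩,
    M24Group.mem_M24_of_basis (f := M24Orbits.tblFun (cjT.getD i [])) (fun _ => rfl) (fun j hj =>
      (by decide +kernel : ∀ i : Fin 2, ∀ j < 12, Golay.isCW (Golay.mask fun p =>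
        Golay.word (Golay.bas j) (M24Orbits.tblFun (cjT.getD i []) p)) = true) i j hj)⟩

theorem central_idx : ∀ i : Fin 27, (∀ j : Fin 27, ∀ p,
      M24Orbits.tblFun (TH.sylT.getD i []) (M24Orbits.tblFun (TH.sylT.getD j []) p) =
        M24Orbits.tblFun (TH.sylT.getD j []) (M24Orbits.tblFun (TH.sylT.getD i []) p)) →
    i = 0 ∨ ∃ k : Fin 2, ∀ p, M24Orbits.tblFun (cjT.getD k []) (M24Orbits.tblFun sigT p) =
        M24Orbits.tblFun (TH.sylT.getD i []) (M24Orbits.tblFun (cjT.getD k []) p) := by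
  decide +kernel

/-- A non-trivial central element of the Sylow subgroup is conjugate to ours. -/
theorem syl_central {π : M24} (hπ : π ∈ syl) (h1 : π ≠ 1) (hc : ∀ y ∈ syl, Commute π y) :
    ∃ h : M24, π = h * sM * h⁻¹ := by
  obtain ⟨i, rfl⟩ := hπ
  rcases central_idx i fun j p => congrArg (fun x : M24 => (x : Equiv.Perm GolayPt) p)
    (hc _ ⟨j, rfl⟩).eq with r | ⟨k, hk⟩
  · exact absurd (r ▸ TH.sylM_zero) h1
  · exact ⟨cjM k, eq_mul_inv_of_mul_eq (Subtype.ext (Equiv.ext fun p => (hk p).symm))⟩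

/-- An element of order three of the cross stabiliser central in a Sylow subgroup is conjugate to ours. -/
theorem m1_central {x : M1} (h3 : orderOf x = 3) {P : Subgroup M1} (hP : Nat.card P = 27) (hx : x ∈ P)
    (hc : ∀ y ∈ P, Commute x y) :
    ∃ m : monoSub, (x : Spor.Co1) = pj (m : Co0) * pj sg * (pj (m : Co0))⁻¹ := by
  classical
  have := finite_Co1
  have : Fact (Nat.Prime 3) := ⟨Nat.prime_three⟩
  have hs : Nat.card (syl.map up) = 3 ^ (Nat.card M1).factorization 3 := by
    rw [Subgroup.card_map_of_injective up_inj, syl_card, fact3]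
    norm_num
  let S := Sylow.ofCard _ hs
  let R := Sylow.ofCard P (show Nat.card P = 3 ^ (Nat.card M1).factorization 3 by rw [hP, fact3]; norm_num)
  obtain ⟨g, hg⟩ := MulAction.exists_smul_eq M1 S R
  have hcoe : (g • S : Sylow 3 M1).toSubgroup = P := congrArg (fun T : Sylow 3 M1 => T.toSubgroup) hg
  rw [Sylow.coe_subgroup_smul] at hcoe
  obtain ⟨_, ⟨π, hπ, rfl⟩, hyx⟩ := hcoe.symm ▸ hx
  replace hyx : g * up π * g⁻¹ = x := hyx
  have h1 : π ≠ 1 := fun h => by
    rw [h, map_one, mul_one, mul_inv_cancel] at hyx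
    rw [← hyx, orderOf_one] at h3
    omega
  obtain ⟨h, rfl⟩ := syl_central hπ h1 fun y hy => by
    have hm : g * up y * g⁻¹ ∈ P := hcoe ▸ ⟨up y, ⟨y, hy, rfl⟩, rfl⟩
    have e := (hc _ hm).eq
    rw [← hyx] at e
    refine up_inj ?_
    rw [map_mul, map_mul]
    rw [conj_mul, conj_mul] at e
    exact mul_left_cancel (mul_right_cancel e)
  obtain ⟨m, hm⟩ := (g * up h).2
  refine ⟨m, ?_⟩
  rw [← hyx, show pj (m : Co0) = ((g * up h : M1) : Spor.Co1) from hm]
  simp only [map_mul, map_inv, Subgroup.coe_mul, Subgroup.coe_inv]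
  rw [show ((up sM : M1) : Spor.Co1) = pj sg from rfl]
  group

variable {G : Type*} [Group G] [Finite G] {z : G} {Q : Subgroup (Subgroup.centralizer ({z} : Set G))}
  [Q.Normal] {e : (Subgroup.centralizer ({z} : Set G)) ⧸ Q ≃* Spor.Co1}
  {ψ : leechLattice → Q ⧸ Subgroup.center Q}

/-- A generator of the subgroup of order three and an identification in which it is the standard
element. -/
theorem setup (F : Frame Q e ψ) {s : G} (hsC : s ∈ Subgroup.centralizer ({z} : Set G))
    (hsQ : (⟨s, hsC⟩ : Subgroup.centralizer ({z} : Set G)) ∈ Q) (hs : IsConj z s) (hs1 : s ≠ z)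
    (Y : Subgroup G) (hY : Y ≤ Subgroup.centralizer ({z, s} : Set G)) (hY3 : Nat.card Y = 3)
    (hc : ∃ P : Sylow 3 ↥(Subgroup.centralizer ({z, s} : Set G)),
      Y.subgroupOf (Subgroup.centralizer ({z, s} : Set G)) ≤
        (Subgroup.center ↥(P : Subgroup ↥(Subgroup.centralizer ({z, s} : Set G)))).map
          (P : Subgroup ↥(Subgroup.centralizer ({z, s} : Set G))).subtype) :
    ∃ (b : Subgroup.centralizer ({z} : Set G))
      (e' : (Subgroup.centralizer ({z} : Set G)) ⧸ Q ≃* Spor.Co1)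
      (ψ' : leechLattice → Q ⧸ Subgroup.center Q),
      Y = Subgroup.zpowers (b : G) ∧ orderOf (b : G) = 3 ∧ Frame Q e' ψ' ∧
        e' (QuotientGroup.mk b) = pj sg := by
  classical
  have : Fact (Nat.Prime 3) := ⟨Nat.prime_three⟩
  have : Fact (Nat.Prime 2) := ⟨Nat.prime_two⟩
  obtain ⟨g, hg⟩ := isConj_iff.1 hs
  have := finite_Co1
  obtain ⟨k, hX, -⟩ := F.exists_cross (u := ⟨_, hsQ⟩) hg (hg ▸ hs1)
  set c := MulAut.conj (pj k) with hcdef
  set K := Subgroup.centralizer ({z, s} : Set G) with hK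
  have hLle : K ≤ Subgroup.centralizer ({z} : Set G) :=
    Subgroup.centralizer_le (Set.singleton_subset_iff.2 (Set.mem_insert _ _))
  have hsmul : ∀ h : K, Subgroup.inclusion hLle h * ⟨s, hsC⟩ = ⟨s, hsC⟩ * Subgroup.inclusion hLle h := fun h =>
    Subtype.ext (Subgroup.mem_centralizer_iff.1 h.2 s (Or.inr rfl)).symm
  have hphi : ∀ h : K, c.symm (e (QuotientGroup.mk (Subgroup.inclusion hLle h))) ∈ M1 := fun h => by
    obtain ⟨x, hx, hxe⟩ := (hX (e (QuotientGroup.mk (Subgroup.inclusion hLle h)))).1 ⟨_, rfl, hsmul h⟩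
    rw [← hxe]
    simpa [hcdef, mul_assoc] using hx
  set f : K →* M1 := MonoidHom.mk' (fun h => ⟨c.symm (e (QuotientGroup.mk (Subgroup.inclusion hLle h))), hphi h⟩)
    (fun a b => Subtype.ext (by simp only [map_mul, QuotientGroup.mk_mul, Subgroup.coe_mul])) with hf
  have hfsurj : Function.Surjective f := by
    intro x
    obtain ⟨h, he, hh⟩ := (hX (c x)).2 ⟨x, x.2, rfl⟩
    have hK' : (h : G) ∈ K := Subgroup.mem_centralizer_iff.2 (by
      rintro _ (rfl | rfl)
      · exact (Subgroup.mem_centralizer_singleton_iff.1 h.2).symm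
      · exact (congrArg Subtype.val hh).symm)
    refine ⟨⟨h, hK'⟩, Subtype.ext ?_⟩
    show c.symm (e (QuotientGroup.mk h)) = x
    rw [he, MulEquiv.symm_apply_apply]
  have hker : IsPGroup 2 f.ker := by
    have hkQ : f.ker.map (Subgroup.inclusion hLle) ≤ Q := by
      rintro _ ⟨h, hh, rfl⟩
      refine (QuotientGroup.eq_one_iff _).1 (e.injective (c.symm.injective ?_))
      rw [map_one, map_one]
      exact congrArg Subtype.val hh
    exact (F.extra.isPGroup.to_le hkQ).of_equiv
      (Subgroup.equivMapOfInjective _ _ (Subgroup.inclusion_injective hLle)).symm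
  have hinj3 : ∀ h ∈ f.ker, orderOf h ∣ 27 → h = 1 := by
    intro h hh hd
    obtain ⟨j, hj⟩ := hker ⟨h, hh⟩
    have hj' : h ^ 2 ^ j = 1 := congrArg Subtype.val hj
    have h1 := Nat.dvd_gcd (orderOf_dvd_of_pow_eq_one hj') hd
    rw [show Nat.gcd (2 ^ j) 27 = 1 from ((by norm_num : Nat.Coprime 2 27).pow_left j), Nat.dvd_one] at h1
    exact orderOf_eq_one_iff.1 h1
  have hcardK : Nat.card K = Nat.card f.ker * Nat.card M1 := by
    rw [mul_comm, Subgroup.card_eq_card_quotient_mul_card_subgroup f.ker,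
      Nat.card_congr (QuotientGroup.quotientKerEquivOfSurjective f hfsurj).toEquiv]
  obtain ⟨n2, hn2⟩ := IsPGroup.iff_card.1 hker
  have hfK : (Nat.card K).factorization 3 = 3 := by
    rw [hcardK, hn2, Nat.factorization_mul (by positivity) Nat.card_pos.ne', Finsupp.add_apply,
      Nat.factorization_eq_zero_of_not_dvd (not_three_dvd_two_pow n2), zero_add, fact3]
  obtain ⟨⟨b0, hb0⟩, hb03⟩ := exists_prime_orderOf_dvd_card' (G := Y) 3 (dvd_of_eq hY3.symm)
  rw [Subgroup.orderOf_mk] at hb03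
  set y : K := ⟨b0, hY hb0⟩ with hy
  have hy3 : orderOf y = 3 := by rw [hy, Subgroup.orderOf_mk, hb03]
  have hgen : Y = Subgroup.zpowers b0 := (Subgroup.eq_of_le_of_card_ge (Subgroup.zpowers_le.2 hb0)
    (by rw [Nat.card_zpowers, hb03, hY3])).symm
  have hfy : orderOf (f y) = 3 := by
    refine orderOf_eq_prime (by rw [← map_pow, ← hy3, pow_orderOf_eq_one, map_one]) fun h1 => ?_
    rw [hinj3 y h1 (by rw [hy3]; norm_num), orderOf_one] at hy3
    omega
  obtain ⟨PK, hPK⟩ := hc
  have hyc : y ∈ Y.subgroupOf K := hb0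
  obtain ⟨⟨w, hwP⟩, hwc, hwy⟩ := hPK hyc
  have hwy' : w = y := hwy
  subst hwy'
  set Pf := (PK : Subgroup K).map f with hPf
  have hinjP : Function.Injective (f.comp (PK : Subgroup K).subtype) := by
    refine (injective_iff_map_eq_one _).2 fun r hr => Subtype.ext (hinj3 r hr ?_)
    rw [Subgroup.orderOf_coe]
    refine (orderOf_dvd_natCard r).trans ?_
    rw [PK.card_eq_multiplicity, hfK]
    norm_num
  have hPcard : Nat.card Pf = 27 := by
    rw [hPf, ← (PK : Subgroup K).range_subtype, MonoidHom.map_range,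
      ← Nat.card_congr (MonoidHom.ofInjective hinjP).toEquiv, PK.card_eq_multiplicity, hfK]
    norm_num
  obtain ⟨m, hm⟩ := m1_central hfy hPcard ⟨_, hwP, rfl⟩ (by
    rintro _ ⟨r, hr, rfl⟩
    exact (show Commute y r from (congrArg Subtype.val (Subgroup.mem_center_iff.1 hwc ⟨r, hr⟩)).symm).map f)
  refine ⟨Subgroup.inclusion hLle y, _, _, hgen, hb03, transport F (k * m), ?_⟩
  show (MulAut.conj (pj (k * (m : Co0)))).symm (e (QuotientGroup.mk (Subgroup.inclusion hLle y))) = _
  have h1 : c.symm (e (QuotientGroup.mk (Subgroup.inclusion hLle y))) =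
      pj (m : Co0) * pj sg * (pj (m : Co0))⁻¹ := hm
  rw [MulEquiv.symm_apply_eq] at h1
  rw [h1, MulAut.conj_symm_apply, map_mul, hcdef, MulAut.conj_apply]
  group

namespace Frame3

variable {b : Subgroup.centralizer ({z} : Set G)}

/-- An element of `Q` over a fixed class commutes with `b`. -/
theorem rep_commute (F : Frame Q e ψ) (hb3 : orderOf (b : G) = 3) (hb : e (QuotientGroup.mk b) = pj sg)
    {v : leechLattice} (hv : Cong (sg • v) v) {q : Q} (hq : Rep ψ v q) :
    Commute b (q : Subgroup.centralizer ({z} : Set G)) := by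
  have h := F.rep_unique hq ((F.psi_eq_iff.2 (cong_symm hv)).trans (F.rep_smul hb.symm hq))
  rcases h with r | r
  · exact mul_inv_eq_iff_eq_mul.1 r
  · simp only at r
    have hbz : b * zC z * b⁻¹ = zC z := by
      refine Subtype.ext ?_
      show (b : G) * z * (b : G)⁻¹ = z
      rw [Subgroup.mem_centralizer_singleton_iff.1 b.2, mul_inv_cancel_right]
    have h2 : (b * b) * (q : Subgroup.centralizer ({z} : Set G)) * (b * b)⁻¹ = q := by
      calc _ = b * (b * q * b⁻¹) * b⁻¹ := by group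
        _ = b * (q * zC z) * b⁻¹ := by rw [r]
        _ = b * q * b⁻¹ * (b * zC z * b⁻¹) := by group
        _ = q := by rw [r, hbz, mul_assoc, F.extra.z_sq, mul_one]
    have h3 : Commute (b * b) (q : Subgroup.centralizer ({z} : Set G)) := mul_inv_eq_iff_eq_mul.1 h2
    have h4 := h3.pow_left 2
    rwa [← sq, ← pow_mul, show 2 * 2 = 3 + 1 from rfl, pow_add, TH.Frame3.b_pow hb3, one_mul, pow_one] at h4

/-- The classes of elements of `Q` commuting with `b`. -/
theorem exists_kap (F : Frame Q e ψ) (hb : e (QuotientGroup.mk b) = pj sg)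
    {q : Q} (hq : Commute b (q : Subgroup.centralizer ({z} : Set G))) :
    ∃ n, Rep ψ (kap n) q := by
  obtain ⟨v, hv⟩ := F.exists_vec q
  have h1 : Cong (sg • v) v := by
    refine F.psi_eq_iff.1 (((F.rep_smul hb.symm hv).trans ?_).trans hv.symm)
    exact congrArg _ (Subtype.ext (show b * q * b⁻¹ = q by rw [hq.eq, mul_inv_cancel_right]))
  have hn : ∀ i : ℕ, ψ (sg ^ i • v) = ψ v := by
    intro i
    induction i with
    | zero => rw [pow_zero, one_smul]
    | succ i ih =>
      rw [pow_succ, mul_smul, ← ih]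
      exact F.psi_eq_iff.2 (cong_smul _ h1)
  let φ : leechLattice →+ leechLattice := AddMonoidHom.mk' (sg : Equiv.Perm leechLattice) sg.2.1
  set v' := ∑ i ∈ Finset.range 3, sg ^ i • v with hv'
  have hfix : sg • v' = v' := by
    have e0 : sg • v' = ∑ i ∈ Finset.range 3, sg ^ (i + 1) • v := by
      show φ v' = _
      rw [hv', map_sum]
      exact Finset.sum_congr rfl fun i _ => by rw [pow_succ', mul_smul]; rfl
    have h8 := Finset.sum_range_succ' (fun i => sg ^ i • v) 3
    rw [Finset.sum_range_succ] at h8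
    simp only [sg_three, pow_zero] at h8
    rw [e0, hv']
    exact (add_right_cancel h8).symm
  have hψ : ψ v' = ψ v := by
    have hsum : ∀ k, ψ (∑ i ∈ Finset.range k, sg ^ i • v) = ψ v ^ k := by
      intro k
      induction k with
      | zero => rw [Finset.sum_range_zero, pow_zero, (F.iso.2.2.1 0).2 ⟨0, by simp⟩]
      | succ k ih => rw [Finset.sum_range_succ, F.iso.1, ih, hn, pow_succ]
    rw [hv', hsum]
    have h2 : ψ v * ψ v = 1 := by rw [← F.iso.1, (F.iso.2.2.1 _).2 ⟨v, rfl⟩]
    rw [show 3 = 2 + 1 from rfl, pow_succ, pow_two, h2, one_mul]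
  obtain ⟨n, hn'⟩ := span v' hfix
  exact ⟨n, ((F.psi_eq_iff.2 hn').symm.trans hψ).trans hv⟩

/-- An element commuting with ours lifts to one commuting with `b`. -/
theorem lift (F : Frame Q e ψ) (hb3 : orderOf (b : G) = 3) (hb : e (QuotientGroup.mk b) = pj sg)
    {g : Co0} (hg : Commute g sg) : ∃ h : Subgroup.centralizer ({z} : Set G),
      Commute b h ∧ e (QuotientGroup.mk h) = pj g := by
  have : Fact (Nat.Prime 3) := ⟨by norm_num⟩
  obtain ⟨h0, hh0⟩ := Frame.exists_lift (e := e) g
  have hmem : h0⁻¹ * b * h0 * b⁻¹ ∈ Q := by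
    rw [← QuotientGroup.eq_one_iff, ← e.map_eq_one_iff]
    simp only [QuotientGroup.mk_mul, QuotientGroup.mk_inv, map_mul, map_inv, ← hh0, hb]
    have := hg.map pj
    rw [mul_assoc (pj g)⁻¹, ← this.eq, inv_mul_cancel_left, mul_inv_cancel]
  obtain ⟨a, ha, hc⟩ := coprime_fix (p := 3) (TH.Frame3.b_pow hb3)
    (fun a ha => (inferInstance : Q.Normal).conj_mem a ha b) hmem
    (by rw [F.core.2.2.2.1]; exact not_three_dvd_two_pow _)
  refine ⟨h0 * a, hc, ?_⟩
  rw [QuotientGroup.mk_mul, (QuotientGroup.eq_one_iff a).2 ha, mul_one, hh0]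

/-- The image of an element commuting with `b` commutes with ours. -/
theorem exists_pre (hb : e (QuotientGroup.mk b) = pj sg) {h : Subgroup.centralizer ({z} : Set G)}
    (hh : Commute b h) : ∃ g : Co0, Commute g sg ∧ pj g = e (QuotientGroup.mk h) := by
  obtain ⟨g, hg⟩ := QuotientGroup.mk_surjective (e (QuotientGroup.mk h))
  refine ⟨g, ?_, hg⟩
  have h1 : Commute (pj sg) (pj g) := by
    rw [show pj g = e (QuotientGroup.mk h) from hg, ← hb]
    exact (hh.map (QuotientGroup.mk' Q)).map e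
  have h2 : (g * sg) * (sg * g)⁻¹ ∈ Subgroup.center Co0 := by
    refine (QuotientGroup.eq_one_iff _).1 ?_
    show pj ((g * sg) * (sg * g)⁻¹) = 1
    rw [map_mul, map_inv, map_mul, map_mul, h1.eq, mul_inv_cancel]
  rcases center_cases' h2 with r | r
  · exact mul_inv_eq_one.1 r
  · exfalso
    have hneg : negG ≠ 1 := fun e0 => by
      have := congrArg (fun x : Co0 => ((x • LeechOrder.base8 : leechLattice) : GolayPt → ℤ) none) e0
      simp only [negG_smul, one_smul, AddSubgroup.coe_neg, Pi.neg_apply, LeechOrder.coe_base8,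
        Pi.single_eq_same] at this
      norm_num at this
    have hgs : g * sg * g⁻¹ = negG * sg := by
      rw [mul_inv_eq_iff_eq_mul] at r ⊢
      rw [r, mul_assoc]
    have h5 := congrArg (· ^ 3) hgs
    simp only [conj_pow, sg_three, mul_one, mul_inv_cancel] at h5
    rw [(Subgroup.mem_center_iff.1 negG_central sg).symm |>
      fun h : negG * sg = sg * negG => (show Commute negG sg from h).mul_pow, sg_three, mul_one] at h5
    have hn2 : negG * negG = 1 := by
      refine co0_ext fun i => ?_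
      rw [mul_smul, negG_smul, negG_smul, neg_neg, one_smul]
    rw [show 3 = 2 + 1 from rfl, pow_succ, pow_two, hn2, one_mul] at h5
    exact hneg h5.symm

end Frame3

end CfsgLib.Sporadic.MonsterFusion.FI
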