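import Cfsg.Agent.Lib.Sporadic.MonsterFusion.HeldElts

/-!
An element inverting ours that is a sign change in another cross.
-/

set_option autoImplicit false
set_option maxRecDepth 20000

namespace CfsgLib.Sporadic.MonsterFusion.Held

open Cfsg CfsgLib.SmallGroups CfsgLib.SmallGroups.Golay CfsgLib.SmallGroups.LeechGroup
  CfsgLib.Sporadic.LeechCrossMax CfsgLib.Sporadic.LeechCrossData CfsgLib.Sporadic.M24Orbits

/-- The word that carries the standard cross to the other one. -/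
def wordK : List Step := [
    ⟨[0, 1, 2, 3, 4, 5, 6, 7, 8, 9, 10, 11, 12, 13, 14, 15, 16, 17, 18, 19, 20, 21, 22, 23], [0, 1, 2, 3, 4, 5, 6, 7, 8, 9, 10, 11, 12, 13, 14, 15, 16, 17, 18, 19, 20, 21, 22, 23], 0, true⟩,
    ⟨[13, 21, 5, 3, 10, 0, 11, 14, 20, 18, 12, 7, 1, 23, 15, 9, 4, 17, 6, 19, 2, 22, 16, 8], [5, 12, 20, 3, 16, 2, 18, 11, 23, 15, 4, 6, 10, 0, 7, 14, 22, 17, 9, 19, 8, 1, 21, 13], 2920, true⟩,
    ⟨[6, 11, 18, 10, 5, 8, 3, 17, 19, 13, 7, 2, 20, 16, 22, 1, 9, 14, 15, 23, 4, 21, 12, 0], [23, 15, 11, 6, 20, 4, 0, 10, 5, 16, 3, 1, 22, 9, 17, 18, 13, 7, 2, 8, 12, 21, 14, 19], 2982, false⟩]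

/-- The word of the inverting element. -/
def wordI : List Step := [
    ⟨[23, 15, 11, 6, 20, 4, 0, 10, 5, 16, 3, 1, 22, 9, 17, 18, 13, 7, 2, 8, 12, 21, 14, 19], [6, 11, 18, 10, 5, 8, 3, 17, 19, 13, 7, 2, 20, 16, 22, 1, 9, 14, 15, 23, 4, 21, 12, 0], 3634, true⟩,
    ⟨[5, 12, 20, 3, 16, 2, 18, 11, 23, 15, 4, 6, 10, 0, 7, 14, 22, 17, 9, 19, 8, 1, 21, 13], [13, 21, 5, 3, 10, 0, 11, 14, 20, 18, 12, 7, 1, 23, 15, 9, 4, 17, 6, 19, 2, 22, 16, 8], 1484, true⟩,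
    ⟨[0, 1, 2, 3, 4, 5, 6, 7, 8, 9, 10, 11, 12, 13, 14, 15, 16, 17, 18, 19, 20, 21, 22, 23], [0, 1, 2, 3, 4, 5, 6, 7, 8, 9, 10, 11, 12, 13, 14, 15, 16, 17, 18, 19, 20, 21, 22, 23], 2631, true⟩,
    ⟨[13, 21, 5, 3, 10, 0, 11, 14, 20, 18, 12, 7, 1, 23, 15, 9, 4, 17, 6, 19, 2, 22, 16, 8], [5, 12, 20, 3, 16, 2, 18, 11, 23, 15, 4, 6, 10, 0, 7, 14, 22, 17, 9, 19, 8, 1, 21, 13], 2920, true⟩,
    ⟨[6, 11, 18, 10, 5, 8, 3, 17, 19, 13, 7, 2, 20, 16, 22, 1, 9, 14, 15, 23, 4, 21, 12, 0], [23, 15, 11, 6, 20, 4, 0, 10, 5, 16, 3, 1, 22, 9, 17, 18, 13, 7, 2, 8, 12, 21, 14, 19], 2982, false⟩]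

theorem exists_invert : ∃ (k : Co0) (w : golayCode),
    (k * (sgn w : Co0) * k⁻¹) * sg⁻¹ = sg * (k * (sgn w : Co0) * k⁻¹) := by
  obtain ⟨k, hk⟩ := acts_run wordK (by decide +kernel)
  obtain ⟨g, hg⟩ := acts_run wordI (by decide +kernel)
  set w : golayCode := ⟨word (enc 2631), word_enc_mem _⟩ with hw
  have h1 : g * k = k * (sgn w : Co0) := by
    refine co0_ext fun i => Subtype.ext (funext fun q => ?_)
    rw [mul_smul, mul_smul, hg, hk, hk]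
    have hs : (((sgn w : Co0) • LeechCenter.unitVec i : leechLattice) : GolayPt → ℤ) = fun p =>
        if word (enc 2631) p ≠ 0 then -(Pi.single i 8 : GolayPt → ℤ) p else (Pi.single i 8 : GolayPt → ℤ) p :=
      funext fun p => sgn_apply w _ p
    rw [hs]
    exact (by decide +kernel : ∀ i q : GolayPt, run wordI (run wordK (Pi.single i 8)) q =
      run wordK (fun p => if word (enc 2631) p ≠ 0 then -(Pi.single i 8 : GolayPt → ℤ) p
        else (Pi.single i 8 : GolayPt → ℤ) p) q) i q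
  refine ⟨k, w, ?_⟩
  rw [← h1, mul_inv_cancel_right]
  refine co0_ext fun i => ?_
  rw [mul_smul, sg_inv_unit, mul_smul]
  refine Subtype.ext (funext fun q => ?_)
  rw [sg_apply, hg, hg]
  exact (by decide +kernel : ∀ i q, run wordI (Pi.single (tblFun sigI i) 8) q =
    run wordI (Pi.single i 8) (tblFun sigI q)) i q

end CfsgLib.Sporadic.MonsterFusion.Held
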