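import Cfsg.Agent.Lib.Sporadic.MonsterFusion.HeldType
import Cfsg.Agent.Lib.Sporadic.MonsterFusion.HeldInvert

/-!
Elements of the centraliser of `z` inducing the automorphisms of the subgroup of order seven.
-/

set_option autoImplicit false

namespace CfsgLib.Sporadic.MonsterFusion.Held

open Cfsg CfsgLib.SmallGroups CfsgLib.SmallGroups.LeechGroup CfsgLib.ThreeTransp.Extraspecial Frame7

/-- Two elements of the same prime order that agree modulo a subgroup of order prime to it are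
conjugate under it. -/
theorem coprime_conj {K : Type*} [Group K] {p : ℕ} [Fact p.Prime] {y c : K} {A : Subgroup K} [Finite A]
    (hy : y ^ p = 1) (hc : c ^ p = 1) (hA : ∀ a ∈ A, c * a * c⁻¹ ∈ A) (hyc : y * c⁻¹ ∈ A)
    (hp : ¬ p ∣ Nat.card A) : ∃ a ∈ A, a⁻¹ * y * a = c := by
  classical
  have := Fintype.ofFinite A
  let f : A → A := fun a => ⟨y * c⁻¹ * (c * (a : K) * c⁻¹), mul_mem hyc (hA a a.2)⟩
  have hf : ∀ a : A, (f a : K) = y * a * c⁻¹ := fun a => by
    show y * c⁻¹ * (c * (a : K) * c⁻¹) = _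
    group
  have hinj : Function.Injective f := fun a d h => by
    have := congrArg Subtype.val h
    simp only [hf, mul_left_inj, mul_right_inj] at this
    exact Subtype.ext this
  let σ : Equiv.Perm A := Equiv.ofBijective f (Finite.injective_iff_bijective.1 hinj)
  have hpow : ∀ (n : ℕ) (a : A), ((σ ^ n) a : K) = y ^ n * a * (c ^ n)⁻¹ := by
    intro n
    induction n with
    | zero => intro a; simp
    | succ n ih =>
      intro a
      rw [pow_succ', Equiv.Perm.mul_apply, show σ ((σ ^ n) a) = f ((σ ^ n) a) from rfl, hf, ih, pow_succ',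
        pow_succ']
      group
  have hσ : σ ^ p ^ 1 = 1 := by
    refine Equiv.ext fun a => Subtype.ext ?_
    rw [pow_one, hpow, hy, hc]
    simp
  obtain ⟨a, ha⟩ := Equiv.Perm.exists_fixed_point_of_prime (by rwa [← Nat.card_eq_fintype_card]) hσ
  refine ⟨a, a.2, ?_⟩
  have h := hf a
  rw [show f a = a from ha] at h
  have h' : (a : K) * c = y * a := (eq_mul_inv_iff_mul_eq.1 h)
  rw [mul_assoc, ← h', inv_mul_cancel_left]

/-- The table of an element squaring ours. -/
def sqT : List ℕ := [0, 5, 2, 3, 22, 17, 6, 4, 19, 18, 15, 8, 20, 9, 14, 21, 12, 1, 13, 11, 16, 10, 7, 23]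

theorem exists_square : ∃ g : Co0, g * sg * g⁻¹ = sg ^ 2 := by
  obtain ⟨π, hπ, hidx⟩ := M24Orbits.exists_elt (t := sqT) (by decide +kernel)
  have hfun : ∀ p, π p = M24Orbits.tblFun sqT p := fun p => by
    rw [← Golay.pt_idx (π p), hidx]
    rfl
  refine ⟨(permM ⟨π, hπ⟩ : monoSub), ?_⟩
  have h : (⟨π, hπ⟩ : M24) * sM = sM ^ 2 * ⟨π, hπ⟩ := Subtype.ext (Equiv.ext fun p => by
    show π (sigma p) = (((sM ^ 2 : M24) : Equiv.Perm GolayPt) * π) p
    rw [Equiv.Perm.mul_apply, SubmonoidClass.coe_pow, Equiv.Perm.coe_pow, hfun, hfun]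
    exact (by decide +kernel : ∀ p, M24Orbits.tblFun sqT (M24Orbits.tblFun sigT p) =
      (M24Orbits.tblFun sigT)^[2] (M24Orbits.tblFun sqT p)) p)
  rw [mul_inv_eq_iff_eq_mul]
  exact congrArg Subtype.val (show permM ⟨π, hπ⟩ * permM sM = permM sM ^ 2 * permM ⟨π, hπ⟩ by
    rw [← map_pow, ← map_mul, ← map_mul, h])

variable {G : Type*} [Group G] [Finite G] {z : G} {Q : Subgroup (Subgroup.centralizer ({z} : Set G))}
  [Q.Normal] {e : (Subgroup.centralizer ({z} : Set G)) ⧸ Q ≃* Spor.Co1}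
  {ψ : leechLattice → Q ⧸ Subgroup.center Q} {b : Subgroup.centralizer ({z} : Set G)}

/-- An element squaring `b`. -/
theorem exists_sq_b (F : Frame Q e ψ) (hb7 : orderOf (b : G) = 7) (hb : e (QuotientGroup.mk b) = pj sg) :
    ∃ h : Subgroup.centralizer ({z} : Set G), h * b * h⁻¹ = b ^ 2 := by
  have : Fact (Nat.Prime 7) := ⟨by norm_num⟩
  obtain ⟨g, hg⟩ := exists_square
  obtain ⟨h0, hh0⟩ := Frame.exists_lift (e := e) g
  obtain ⟨a, -, ha⟩ := coprime_conj (p := 7) (y := h0 * b * h0⁻¹) (c := b ^ 2) (A := Q)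
    (by rw [conj_pow, b_pow hb7, mul_one, mul_inv_cancel])
    (by rw [← pow_mul, mul_comm, pow_mul, b_pow hb7, one_pow])
    (fun a ha => (inferInstance : Q.Normal).conj_mem a ha _)
    (by
      rw [← QuotientGroup.eq_one_iff, ← e.map_eq_one_iff]
      simp only [QuotientGroup.mk_mul, QuotientGroup.mk_inv, QuotientGroup.mk_pow, map_mul, map_inv, map_pow,
        ← hh0, hb]
      rw [← map_inv, ← map_mul, ← map_mul, hg, map_pow, mul_inv_cancel])
    (by rw [F.core.2.2.2.1]; exact not_seven_dvd_two_pow _)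
  refine ⟨a⁻¹ * h0, ?_⟩
  rw [← ha]
  group

/-- Some conjugate of `Q` gives an involution over a sign change of another cross. -/
theorem exists_involution (F : Frame Q e ψ) (k : Co0) (w : golayCode)
    (hne : pj (k * (sgn w : Co0) * k⁻¹) ≠ 1) :
    ∃ d : Subgroup.centralizer ({z} : Set G), d * d = 1 ∧
      e (QuotientGroup.mk d) = pj (k * (sgn w : Co0) * k⁻¹) := by
  have hv : sqNorm ((k • LeechOrder.base8 : leechLattice) : GolayPt → ℤ) = 64 :=
    (k.2.2 _).trans LeechOrder.norm_base8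
  obtain ⟨u, hr⟩ := Frame.exists_rep (ψ := ψ) (k • LeechOrder.base8)
  obtain ⟨hconj, huz⟩ := (F.conj_iff u).2 ⟨_, hv, hr⟩
  obtain ⟨g0, hg0⟩ := isConj_iff.1 hconj
  have hne0 : g0 * z * g0⁻¹ ≠ z := hg0 ▸ huz
  obtain ⟨-, hE⟩ := F.images_of_cross hg0 hne0 hv hr rfl
  obtain ⟨d, hd, hde⟩ := Frame.mem_eIm.1 (show pj (k * (sgn w : Co0) * k⁻¹) ∈ eIm e g0 by
    rw [hE]
    exact ⟨pj (sgn w : Co0), ⟨sgn w, permOf_sgn w, rfl⟩, by simp⟩)
  set Q0 := Q.map (Subgroup.centralizer ({z} : Set G)).subtype with hQ0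
  set Q' := Q0.map (MulAut.conj g0).toMonoidHom with hQ'
  set uG : G := ((u : Subgroup.centralizer ({z} : Set G)) : G) with huG
  have hE' : Extra Q' uG := by
    have := F.setting.ext.map_conj g0
    rwa [hg0] at this
  rcases hE'.sq_cases hd with hdd | hdd
  · exact ⟨d, Subtype.ext hdd, hde⟩
  set I := Q0 ⊓ Q' with hI
  have huI : uG ∈ I := ⟨⟨u, u.2, rfl⟩, hE'.z_mem⟩
  have hI2 : ∀ a ∈ I, a * a = 1 := by
    rintro a ⟨ha, ha'⟩
    rcases F.setting.ext.sq_cases ha with r | r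
    · exact r
    · rcases hE'.sq_cases ha' with r' | r'
      · exact r'
      · exact absurd (r'.symm.trans r) huz
  obtain ⟨q, hqI, hnq⟩ : ∃ q ∈ I, (d : G) * q ≠ q * d := by
    by_contra hall
    push Not at hall
    have hcomm : ∀ a ∈ I, ∀ c ∈ I, a * c = c * a := fun a ha c hc => by
      calc a * c = (a * c)⁻¹ := eq_inv_of_mul_eq_one_left (hI2 _ (mul_mem ha hc))
        _ = c * a := by rw [mul_inv_rev, inv_eq_of_mul_eq_one_left (hI2 a ha), inv_eq_of_mul_eq_one_left (hI2 c hc)]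
    have hcentral : ∀ x y : ↥Q', x⁻¹ * y * x * y⁻¹ ∈ Subgroup.center ↥Q' := fun x y => by
      rw [← hE'.ext.1.2.2, _root_.commutator_def]
      simpa [commutatorElement_def] using
        Subgroup.commutator_mem_commutator (Subgroup.mem_top x⁻¹) (Subgroup.mem_top y)
    set A := I.subgroupOf Q' with hA
    have hcA : Nat.card A = 2 ^ 13 := by
      rw [hA, Nat.card_congr (Subgroup.subgroupOfEquivOfLe (inf_le_right : I ≤ Q')).toEquiv]
      exact F.card_inter hg0 hne0
    have hZA : Subgroup.center ↥Q' ≤ A := fun x hx => by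
      rw [hA, Subgroup.mem_subgroupOf]
      rcases hE'.eq_one_or_z_of_mem_center hx with r | r <;> rw [r]
      exacts [one_mem _, huI]
    have hAC : A ≤ Subgroup.centralizer (A : Set ↥Q') := fun a ha =>
      Subgroup.mem_centralizer_iff.2 fun c hc => Subtype.ext (hcomm c hc a ha)
    have dc := Cfsg.Agent.S2880.double_count A hcentral hE'.ext.2
    rw [inf_eq_right.2 hZA, hE'.ext.2, hcA, Subgroup.card_map_of_injective (MulAut.conj g0).injective,
      F.setting.card] at dc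
    have hle : Nat.card (Subgroup.centralizer (A : Set ↥Q')) ≤ Nat.card A := by rw [hcA]; omega
    have heq := Subgroup.eq_of_le_of_card_ge hAC hle
    have hdA : (⟨(d : G), hd⟩ : ↥Q') ∈ A := by
      rw [heq]
      exact Subgroup.mem_centralizer_iff.2 fun c hc => Subtype.ext (hall c hc).symm
    have hdQ : d ∈ Q := by
      obtain ⟨y, hy, hyd⟩ := hdA.1
      rwa [show d = y from Subtype.ext hyd.symm]
    exact hne (by rw [← hde, (QuotientGroup.eq_one_iff d).2 hdQ, map_one])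
  obtain ⟨⟨q1, hq1, rfl⟩, hq'⟩ := hqI
  refine ⟨d * q1, Subtype.ext ?_, by rw [QuotientGroup.mk_mul, (QuotientGroup.eq_one_iff q1).2 hq1, mul_one, hde]⟩
  have hr' := hE'.conj_eq_of_not_comm hq' hd hnq
  show (d : G) * (q1 : G) * ((d : G) * (q1 : G)) = 1
  calc (d : G) * (q1 : G) * ((d : G) * (q1 : G))
      = ((d : G) * (q1 : G) * (d : G)⁻¹) * ((d : G) * d) * (q1 : G) := by group
    _ = (q1 : G) * (uG * uG) * (q1 : G) := by
      rw [show (d : G) * (q1 : G) * (d : G)⁻¹ = (q1 : G) * uG from hr', hdd]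
      group
    _ = 1 := by
      rw [hE'.z_sq, mul_one]
      exact hI2 _ ⟨⟨q1, hq1, rfl⟩, hq'⟩

/-- An involution inverting `b`. -/
theorem exists_inverter (F : Frame Q e ψ) (hb7 : orderOf (b : G) = 7) (hb : e (QuotientGroup.mk b) = pj sg) :
    ∃ t : Subgroup.centralizer ({z} : Set G), t * t = 1 ∧ t ≠ 1 ∧ t * b * t⁻¹ = b⁻¹ := by
  have : Fact (Nat.Prime 7) := ⟨by norm_num⟩
  have : Fact (Nat.Prime 2) := ⟨Nat.prime_two⟩
  obtain ⟨k, w, hkw⟩ := exists_invert
  obtain ⟨g, hg⟩ : ∃ g : Co0, g = k * (sgn w : Co0) * k⁻¹ := ⟨_, rfl⟩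
  rw [← hg] at hkw
  have hS : pj g * (pj sg)⁻¹ = pj sg * pj g := by rw [← map_inv, ← map_mul, ← map_mul, hkw]
  have hne : pj g ≠ 1 := by
    intro h1
    rw [h1, one_mul, mul_one] at hS
    have h2 : pj sg ^ 2 = 1 := by rw [pow_two]; exact inv_eq_iff_mul_eq_one.1 hS
    have h3 := orderOf_dvd_of_pow_eq_one h2
    rw [pj_sg] at h3
    norm_num at h3
  obtain ⟨d, hdd, hde⟩ := exists_involution F k w (hg ▸ hne)
  rw [← hg] at hde
  set x := d * (b * d * b⁻¹) with hx
  have hdi : d⁻¹ = d := inv_eq_of_mul_eq_one_right hdd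
  have hdx : d * x * d⁻¹ = x⁻¹ := by
    rw [hx, mul_inv_rev, hdi, show (b * d * b⁻¹)⁻¹ = b * d * b⁻¹ by
      rw [mul_inv_rev, mul_inv_rev, inv_inv, hdi, ← mul_assoc], ← mul_assoc d, hdd, one_mul]
  have hgg : pj g * pj g = 1 := by rw [← hde, ← map_mul, ← QuotientGroup.mk_mul, hdd, QuotientGroup.mk_one, map_one]
  have hx5 : e (QuotientGroup.mk x) = pj sg ^ 5 := by
    simp only [hx, QuotientGroup.mk_mul, QuotientGroup.mk_inv, map_mul, map_inv, hde, hb]
    have h7 : pj sg ^ 7 = 1 := by rw [← pj_sg, pow_orderOf_eq_one]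
    have e5 : pj sg ^ 5 = (pj sg)⁻¹ * (pj sg)⁻¹ := by
      rw [← mul_inv_rev, eq_inv_iff_mul_eq_one, ← pow_two, ← pow_add]
      exact h7
    have hS' : pj g * pj sg = (pj sg)⁻¹ * pj g := by
      rw [eq_inv_mul_iff_mul_eq, ← mul_assoc, ← hS, mul_assoc, inv_mul_cancel, mul_one]
    rw [e5, ← mul_assoc, ← mul_assoc, hS', mul_assoc (pj sg)⁻¹, hgg, mul_one]
  obtain ⟨j, hj⟩ := F.extra.isPGroup ⟨x ^ 7, by
    rw [← QuotientGroup.eq_one_iff, ← e.map_eq_one_iff, QuotientGroup.mk_pow, map_pow, hx5, ← pow_mul, mul_comm,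
      pow_mul, ← pj_sg, pow_orderOf_eq_one, one_pow]⟩
  have hj' : (x ^ 7) ^ 2 ^ j = 1 := congrArg Subtype.val hj
  set y := x ^ 2 ^ j with hy
  set i := 5 * 2 ^ j with hi
  have hy7 : y ^ 7 = 1 := by rw [hy, ← pow_mul, mul_comm, pow_mul, hj']
  have hyi : e (QuotientGroup.mk y) = pj sg ^ i := by
    rw [hy, QuotientGroup.mk_pow, map_pow, hx5, ← pow_mul]
  obtain ⟨a, -, ha⟩ := coprime_conj (p := 7) (y := y) (c := b ^ i) (A := Q) hy7
    (by rw [← pow_mul, mul_comm, pow_mul, b_pow hb7, one_pow])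
    (fun a ha => (inferInstance : Q.Normal).conj_mem a ha _)
    (by
      rw [← QuotientGroup.eq_one_iff, ← e.map_eq_one_iff]
      simp only [QuotientGroup.mk_mul, QuotientGroup.mk_inv, QuotientGroup.mk_pow, map_mul, map_inv, map_pow,
        hyi, hb, mul_inv_cancel])
    (by rw [F.core.2.2.2.1]; exact not_seven_dvd_two_pow _)
  set t := a⁻¹ * d * a with ht
  have hdy : d * y * d⁻¹ = y⁻¹ := by rw [hy, ← conj_pow, hdx, inv_pow]
  have htc : t * b ^ i * t⁻¹ = (b ^ i)⁻¹ := by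
    rw [ht, ← ha]
    calc a⁻¹ * d * a * (a⁻¹ * y * a) * (a⁻¹ * d * a)⁻¹ = a⁻¹ * (d * y * d⁻¹) * a := by group
      _ = (a⁻¹ * y * a)⁻¹ := by rw [hdy]; group
  refine ⟨t, ?_, fun h1 => ?_, ?_⟩
  · rw [ht]
    calc a⁻¹ * d * a * (a⁻¹ * d * a) = a⁻¹ * (d * d) * a := by group
      _ = 1 := by rw [hdd]; group
  · have : d = 1 := by
      have h2 : a⁻¹ * d * a = 1 := h1
      calc d = a * (a⁻¹ * d * a) * a⁻¹ := by group
        _ = 1 := by rw [h2]; group
    rw [this, QuotientGroup.mk_one, map_one] at hde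
    exact hne hde.symm
  · have hco : Nat.Coprime i 7 :=
      Nat.Coprime.mul_left (by norm_num) ((by norm_num : Nat.Coprime 2 7).pow_left j)
    obtain ⟨l, hl⟩ : ∃ l, (b ^ i) ^ l = b := by
      have h7 : orderOf b = 7 := by rw [← Subgroup.orderOf_coe, hb7]
      exact exists_pow_eq_self_of_coprime (by rwa [h7])
    rw [← hl, ← conj_pow, htc, inv_pow]

/-- No element inverting `b` centralises `C_Q(b)`. -/
theorem no_inverter (F : Frame Q e ψ) (hb7 : orderOf (b : G) = 7) (hb : e (QuotientGroup.mk b) = pj sg)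
    {c : Subgroup.centralizer ({z} : Set G)} (hc : c * b * c⁻¹ = b⁻¹)
    (hfix : ∀ q : Q, Commute b (q : Subgroup.centralizer ({z} : Set G)) →
      c * (q : Subgroup.centralizer ({z} : Set G)) * c⁻¹ = q) : False := by
  obtain ⟨g, hg⟩ := QuotientGroup.mk_surjective (e (QuotientGroup.mk c))
  have hg' : pj g = e (QuotientGroup.mk c) := hg
  have h1 : pj (g * sg * g⁻¹) = pj sg⁻¹ := by
    rw [map_mul, map_mul, map_inv, map_inv, hg', ← hb, ← map_inv, ← map_inv, ← map_mul, ← map_mul,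
      ← QuotientGroup.mk_inv, ← QuotientGroup.mk_mul, ← QuotientGroup.mk_mul, hc, QuotientGroup.mk_inv]
  have h2 : g * sg * g⁻¹ * sg ∈ Subgroup.center Co0 := by
    refine (QuotientGroup.eq_one_iff _).1 ?_
    show pj (g * sg * g⁻¹ * sg) = 1
    rw [map_mul, h1, map_inv, inv_mul_cancel]
  have hgs : g * sg * g⁻¹ = sg⁻¹ := by
    rcases center_cases' h2 with r | r
    · exact eq_inv_of_mul_eq_one_left r
    · exfalso
      have hgs : g * sg * g⁻¹ = negG * sg⁻¹ := eq_mul_inv_of_mul_eq r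
      have h7 := congrArg (· ^ 7) hgs
      have hcn : Commute negG sg⁻¹ := (Subgroup.mem_center_iff.1 negG_central sg⁻¹).symm
      have hn2 : negG * negG = 1 := by
        refine co0_ext fun i => ?_
        rw [mul_smul, negG_smul, negG_smul, neg_neg, one_smul]
      simp only [conj_pow, sg_pow, mul_one, mul_inv_cancel, hcn.mul_pow, inv_pow, inv_one] at h7
      rw [show 7 = 2 * 3 + 1 from rfl, pow_succ, pow_mul, pow_two, hn2, one_pow, one_mul] at h7
      have := congrArg (fun x : Co0 => ((x • LeechOrder.base8 : leechLattice) : GolayPt → ℤ) none) h7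
      simp only [negG_smul, one_smul, AddSubgroup.coe_neg, Pi.neg_apply, LeechOrder.coe_base8,
        Pi.single_eq_same] at this
      norm_num at this
  have hkap : ∀ a, Cong (g • kap (iota a)) (kap (iota a)) := fun a => by
    obtain ⟨r, hr⟩ := Frame.exists_rep (ψ := ψ) (kap (iota a))
    have hrb := rep_commute F hb7 hb (by rw [sg_kap]; exact cong_refl _) hr
    refine F.psi_eq_iff.1 (((F.rep_smul hg' hr).trans ?_).trans hr.symm)
    exact congrArg _ (Subtype.ext (hfix r hrb))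
  have hm : g ∈ monoSub := (cong_base g).1
    (cong_trans (cong_trans (cong_smul g base_iota) (hkap _)) (cong_symm base_iota))
  have hc' : (⟨g, hm⟩ : monoSub) * permM sM = (permM sM)⁻¹ * ⟨g, hm⟩ :=
    Subtype.ext (mul_inv_eq_iff_eq_mul.1 hgs)
  have hπ : permOf ⟨g, hm⟩ * sM = sM⁻¹ * permOf ⟨g, hm⟩ := by
    rw [← permOf_sg, ← map_inv, ← map_mul, ← map_mul, hc']
  exact Bool.noConfusion (classify (π := permOf ⟨g, hm⟩) (d := true) fun p =>
    congrArg (fun x : M24 => (x : Equiv.Perm GolayPt) p) hπ).1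

end CfsgLib.Sporadic.MonsterFusion.Held
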