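import Cfsg.Agent.Lib.Sporadic.MonsterFusion.FIType
import Cfsg.Agent.Lib.Sporadic.MonsterFusion.HeldNormalizer

/-!
An element of the centraliser of the involution inverting the element with six fixed points, no such element
centralises the fixed part of the extraspecial group, and our element is a commutator in its centraliser.
-/

set_option autoImplicit false
set_option maxRecDepth 20000

namespace CfsgLib.Sporadic.MonsterFusion.FI

open Cfsg CfsgLib.SmallGroups CfsgLib.SmallGroups.Golay CfsgLib.SmallGroups.M24Group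
  CfsgLib.Sporadic.M24Orbits CfsgLib.SmallGroups.LeechGroup CfsgLib.ThreeTransp.Extraspecial Frame3
open Held (coprime_conj cong_symm cong_trans co0_ext)

/-- A permutation inverting ours and exchanging the first two fixed positions. -/
def flipT : List ℕ := [0, 19, 2, 4, 3, 15, 7, 6, 9, 8, 13, 11, 17, 10, 14, 5, 18, 12, 16, 1, 20, 21, 22, 23]

theorem exists_flip : ∃ π : M24, π * sM = sM⁻¹ * π ∧
    ∀ i, (π : Equiv.Perm GolayPt) (fpt i) = fpt (swp true i) := by
  obtain ⟨π, hπ, hidx⟩ := exists_elt (t := flipT) (by decide +kernel)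
  have hfun : ∀ p, π p = tblFun flipT p := fun p => by
    rw [← pt_idx (π p), hidx]
    rfl
  refine ⟨⟨π, hπ⟩, Subtype.ext (Equiv.ext fun p => ?_), fun i => ?_⟩
  · show π (sigma p) = sigma.symm (π p)
    rw [hfun, hfun]
    exact (by decide +kernel : ∀ p, tblFun flipT (tblFun sigT p) = tblFun sigI (tblFun flipT p)) p
  · show π (fpt i) = _
    rw [hfun]
    exact (by decide +kernel : ∀ i, tblFun flipT (fpt i) = fpt (swp true i)) i

/-- A word in the two permutations applied to a point. -/
def appW (l : List ℕ) (p : GolayPt) : GolayPt :=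
  l.foldr (fun i q => tblFun (permT.getD ((Fin.ofNat 2 i : Fin 2) : ℕ) []) q) p

theorem gMW_apply : ∀ (l : List ℕ) (p : GolayPt), ((gMW l : M24) : Equiv.Perm GolayPt) p = appW l p
  | [], p => rfl
  | i :: l, p => by
    rw [gMW, List.map_cons, List.prod_cons, ← gMW, Subgroup.coe_mul, Subgroup.coe_mul, Equiv.Perm.mul_apply,
      gMW_apply l p]
    rfl

theorem sigma_tbl (q : GolayPt) : sigma q = tblFun sigT q := rfl

theorem comm_of_points (A B : CM) (h : ∀ p, sigma (((B : M24) : Equiv.Perm GolayPt)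
    (((A : M24) : Equiv.Perm GolayPt) p)) = ((A : M24) : Equiv.Perm GolayPt) (((B : M24) : Equiv.Perm GolayPt) p)) :
    ((A * B * A⁻¹ * B⁻¹ : CM) : M24) = sM := by
  have e : sM * ((B : M24) * (A : M24)) = (A : M24) * (B : M24) := Subtype.ext (Equiv.ext fun p => h p)
  simp only [Subgroup.coe_mul, Subgroup.coe_inv]
  rw [← e]
  group

theorem comm_points : ∀ p, tblFun sigT (appW [1, 0, 1, 1, 1, 1, 0, 1] (appW [0] p)) =
    appW [0] (appW [1, 0, 1, 1, 1, 1, 0, 1] p) := by decide +kernel

/-- Our element is a commutator in its centraliser in `M24`. -/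
theorem sM_commutator : ∃ a c : CM, ((a * c * a⁻¹ * c⁻¹ : CM) : M24) = sM :=
  ⟨gMW [0], gMW [1, 0, 1, 1, 1, 1, 0, 1], comm_of_points _ _ fun p => by
    rw [gMW_apply, gMW_apply, gMW_apply, gMW_apply, sigma_tbl]
    exact comm_points p⟩

/-- A vector with two entries four at fixed positions. -/
def pairV (p q : GolayPt) (hpq : p ≠ q) : leechLattice :=
  ⟨Pi.single p 4 + Pi.single q 4, LeechBasic.mem_lattice.2 ⟨0, fun i => by
      by_cases h1 : i = p <;> by_cases h2 : i = q <;> simp_all [Int.modEq_iff_dvd, Pi.single_apply],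
    by simp [Finset.sum_add_distrib, Int.modEq_iff_dvd],
    by
      have e : LeechBasic.wd (Pi.single p 4 + Pi.single q 4) 0 = 0 := funext fun i => by
        by_cases h1 : i = p <;> by_cases h2 : i = q <;>
          simp_all [LeechBasic.wd, Pi.single_apply] <;> decide
      rw [e]; exact zero_mem _⟩⟩

theorem pairV_apply (p q : GolayPt) (hpq : p ≠ q) (i : GolayPt) :
    (pairV p q hpq : GolayPt → ℤ) i = if i = p ∨ i = q then 4 else 0 := by
  show Pi.single (M := fun _ => ℤ) p 4 i + Pi.single (M := fun _ => ℤ) q 4 i = _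
  by_cases h1 : i = p <;> by_cases h2 : i = q <;> simp_all [Pi.single_apply]

theorem sqNorm_pairV (p q : GolayPt) (hpq : p ≠ q) : sqNorm (pairV p q hpq : GolayPt → ℤ) = 32 := by
  rw [sqNorm, ← Finset.sum_subset (Finset.subset_univ {p, q}) fun i _ hi => by
    rw [Finset.mem_insert, Finset.mem_singleton] at hi
    simp [pairV_apply, hi], Finset.sum_pair hpq]
  simp [pairV_apply]

variable {G : Type*} [Group G] [Finite G] {z : G} {Q : Subgroup (Subgroup.centralizer ({z} : Set G))}
  [Q.Normal] {e : (Subgroup.centralizer ({z} : Set G)) ⧸ Q ≃* Spor.Co1}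
  {ψ : leechLattice → Q ⧸ Subgroup.center Q} {b : Subgroup.centralizer ({z} : Set G)}

/-- An element inverting `b`. -/
theorem exists_inverter (F : Frame Q e ψ) (hb3 : orderOf (b : G) = 3) (hb : e (QuotientGroup.mk b) = pj sg) :
    ∃ h : Subgroup.centralizer ({z} : Set G), h * b * h⁻¹ = b⁻¹ := by
  have : Fact (Nat.Prime 3) := ⟨by norm_num⟩
  obtain ⟨π, hπ, -⟩ := exists_flip
  obtain ⟨h0, hh0⟩ := Frame.exists_lift (e := e) ((permM π : monoSub) : Co0)
  have hg : ((permM π : monoSub) : Co0) * sg * ((permM π : monoSub) : Co0)⁻¹ = sg⁻¹ :=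
    congrArg Subtype.val (show permM π * permM sM * (permM π)⁻¹ = (permM sM)⁻¹ by
      rw [← map_mul, hπ, map_mul, map_inv, mul_inv_cancel_right])
  obtain ⟨a, -, ha⟩ := coprime_conj (p := 3) (y := h0 * b * h0⁻¹) (c := b⁻¹) (A := Q)
    (by rw [conj_pow, TH.Frame3.b_pow hb3, mul_one, mul_inv_cancel])
    (by rw [inv_pow, TH.Frame3.b_pow hb3, inv_one])
    (fun a ha => (inferInstance : Q.Normal).conj_mem a ha _)
    (by
      rw [← QuotientGroup.eq_one_iff, ← e.map_eq_one_iff]
      simp only [QuotientGroup.mk_mul, QuotientGroup.mk_inv, map_mul, map_inv, ← hh0, hb, inv_inv]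
      rw [← map_inv pj, ← map_mul, ← map_mul, hg, map_inv, inv_mul_cancel])
    (by rw [F.core.2.2.2.1]; exact TH.not_three_dvd_two_pow _)
  exact ⟨a⁻¹ * h0, by rw [← ha]; group⟩

/-- No element inverting `b` centralises `C_Q(b)`. -/
theorem no_inverter (F : Frame Q e ψ) (hb3 : orderOf (b : G) = 3) (hb : e (QuotientGroup.mk b) = pj sg)
    {c : Subgroup.centralizer ({z} : Set G)} (hc : c * b * c⁻¹ = b⁻¹)
    (hfix : ∀ q : Q, Commute b (q : Subgroup.centralizer ({z} : Set G)) →
      c * (q : Subgroup.centralizer ({z} : Set G)) * c⁻¹ = q) : False := by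
  obtain ⟨g, hg⟩ := QuotientGroup.mk_surjective (e (QuotientGroup.mk c))
  have hg' : pj g = e (QuotientGroup.mk c) := hg
  have h1 : pj (g * sg * g⁻¹) = pj sg⁻¹ := by
    rw [map_mul, map_mul, map_inv, map_inv, hg', ← hb, ← map_inv, ← map_inv, ← map_mul, ← map_mul,
      ← QuotientGroup.mk_inv, ← QuotientGroup.mk_mul, ← QuotientGroup.mk_mul, hc, QuotientGroup.mk_inv]
  have h2 : g * sg * g⁻¹ * sg ∈ Subgroup.center Co0 := by
    refine (QuotientGroup.eq_one_iff _).1 ?_
    show pj (g * sg * g⁻¹ * sg) = 1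
    rw [map_mul, h1, map_inv, inv_mul_cancel]
  have hgs : g * sg * g⁻¹ = sg⁻¹ := by
    rcases center_cases' h2 with r | r
    · exact eq_inv_of_mul_eq_one_left r
    · exfalso
      have hgs : g * sg * g⁻¹ = negG * sg⁻¹ := eq_mul_inv_of_mul_eq r
      have h7 := congrArg (· ^ 3) hgs
      have hcn : Commute negG sg⁻¹ := (Subgroup.mem_center_iff.1 negG_central sg⁻¹).symm
      have hn2 : negG * negG = 1 := by
        refine co0_ext fun i => ?_
        rw [mul_smul, negG_smul, negG_smul, neg_neg, one_smul]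
      simp only [conj_pow, sg_three, mul_one, mul_inv_cancel, hcn.mul_pow, inv_pow, inv_one] at h7
      rw [show 3 = 2 + 1 from rfl, pow_succ, pow_two, hn2, one_mul] at h7
      have := congrArg (fun x : Co0 => ((x • LeechOrder.base8 : leechLattice) : GolayPt → ℤ) none) h7
      simp only [negG_smul, one_smul, AddSubgroup.coe_neg, Pi.neg_apply, LeechOrder.coe_base8,
        Pi.single_eq_same] at this
      norm_num at this
  have hcong : ∀ v, sg • v = v → Cong (g • v) v := fun v hv => by
    obtain ⟨r, hr⟩ := Frame.exists_rep (ψ := ψ) v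
    have hrb := rep_commute F hb3 hb (by rw [hv]; exact Held.cong_refl _) hr
    refine F.psi_eq_iff.1 (((F.rep_smul hg' hr).trans ?_).trans hr.symm)
    exact congrArg _ (Subtype.ext (hfix r hrb))
  have hm : g ∈ monoSub := (cong_base g).1 (hcong _ (Subtype.ext (funext fun p => by
    rw [sg_apply, LeechOrder.coe_base8]
    exact (by decide +kernel : ∀ p, (Pi.single none 8 : GolayPt → ℤ) (tblFun sigI p) = (Pi.single none 8 : GolayPt → ℤ) p) p)))
  set ρ := permOf ⟨g, hm⟩ with hρ
  have hρs : ρ * sM = sM⁻¹ * ρ := by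
    rw [hρ, ← permOf_permM sM, ← map_inv, ← map_mul, ← map_mul]
    exact congrArg _ (Subtype.ext (mul_inv_eq_iff_eq_mul.1 hgs))
  obtain ⟨w, hw⟩ := exists_sgn (g := (⟨g, hm⟩ : monoSub) * (permM ρ)⁻¹) (by
    rw [map_mul, map_inv, permOf_permM, mul_inv_cancel])
  have happ : ∀ (v : leechLattice) i, ((g • v : leechLattice) : GolayPt → ℤ) i = 0 →
      (v : GolayPt → ℤ) ((ρ : Equiv.Perm GolayPt).symm i) = 0 := fun v i h0 => by
    have eg : g = ((sgn w : monoSub) : Co0) * ((permM ρ : monoSub) : Co0) :=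
      congrArg Subtype.val (eq_mul_inv_iff_mul_eq.1 hw.symm).symm
    rw [eg, mul_smul, sgn_apply, permM_apply] at h0
    split at h0 <;> simpa using h0
  have hpair : ∀ i j : Fin 6, i ≠ j → (ρ : Equiv.Perm GolayPt) (fpt i) = fpt i ∨
      (ρ : Equiv.Perm GolayPt) (fpt i) = fpt j := by
    intro i j hij
    have hpq : fpt i ≠ fpt j := fun e => hij (by simpa [fidx_fpt] using congrArg fidx e)
    set v := pairV (fpt i) (fpt j) hpq with hv
    have hsv : sg • v = v := Subtype.ext (funext fun q => by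
      rw [sg_apply, pairV_apply, pairV_apply]
      simp only [sigma.symm_apply_eq, show sigma (fpt i) = fpt i from fpt_fix i,
        show sigma (fpt j) = fpt j from fpt_fix j])
    have hn : sqNorm ((g • v : leechLattice) : GolayPt → ℤ) = 32 := (g.2.2 v).trans (sqNorm_pairV _ _ _)
    by_contra hne
    push Not at hne
    have h0 : ((g • v : leechLattice) : GolayPt → ℤ) ((ρ : Equiv.Perm GolayPt) (fpt i)) = 0 := by
      rcases cong_short (hcong v hsv) (hn.trans_le (by norm_num)) ((sqNorm_pairV _ _ hpq).trans_le (by norm_num))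
        with r | r | ⟨r, -⟩
      · rw [r, pairV_apply, if_neg (by simpa [not_or] using hne)]
      · rw [r, AddSubgroup.coe_neg, Pi.neg_apply, pairV_apply, if_neg (by simpa [not_or] using hne), neg_zero]
      · omega
    have := happ v _ h0
    rw [Equiv.symm_apply_apply, pairV_apply, if_pos (Or.inl rfl)] at this
    norm_num at this
  have hfixed : ∀ i, (ρ : Equiv.Perm GolayPt) (fpt i) = fpt i := fun i => by
    obtain ⟨j, k, hj, hk, hjk⟩ := (by decide : ∀ i : Fin 6, ∃ j k : Fin 6, i ≠ j ∧ i ≠ k ∧ j ≠ k) i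
    rcases hpair i j hj with r | r
    · exact r
    · exact (hpair i k hk).resolve_right fun r' =>
        hjk (by simpa [fidx_fpt] using congrArg fidx (r.symm.trans r'))
  obtain ⟨π, hπ, hπf⟩ := exists_flip
  have hc' : π * ρ ∈ CM := mem_CM.2 (by
    have hπ' : π * sM⁻¹ = sM * π := by
      rw [eq_comm, eq_mul_inv_iff_mul_eq, mul_assoc, hπ, mul_inv_cancel_left]
    rw [mul_assoc, hρs, ← mul_assoc, hπ', mul_assoc])
  refine Bool.noConfusion (six_small (π := ⟨π * ρ, hc'⟩) (s := true) fun i => ?_).1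
  show fidx (((π * ρ : M24) : Equiv.Perm GolayPt) (fpt i)) = _
  rw [Subgroup.coe_mul, Equiv.Perm.mul_apply, hfixed, hπf, fidx_fpt]

/-- `b` is a commutator in its centraliser up to an element of `Q`. -/
theorem exists_commutator (F : Frame Q e ψ) (hb3 : orderOf (b : G) = 3) (hb : e (QuotientGroup.mk b) = pj sg) :
    ∃ a c : Subgroup.centralizer ({z} : Set G), Commute b a ∧ Commute b c ∧ (a * c * a⁻¹ * c⁻¹)⁻¹ * b ∈ Q := by
  obtain ⟨a, c, hac⟩ := sM_commutator
  obtain ⟨ha, hha, ea⟩ := Frame3.lift F hb3 hb (commute_permM (mem_CM.1 a.2))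
  obtain ⟨hc, hhc, ec⟩ := Frame3.lift F hb3 hb (commute_permM (mem_CM.1 c.2))
  refine ⟨ha, hc, hha, hhc, ?_⟩
  rw [← QuotientGroup.eq_one_iff, ← e.map_eq_one_iff]
  simp only [QuotientGroup.mk_mul, QuotientGroup.mk_inv, map_mul, map_inv, hb, ea, ec]
  rw [show sg = ((permM sM : monoSub) : Co0) from rfl, ← hac]
  simp only [Subgroup.coe_mul, Subgroup.coe_inv, map_mul, map_inv]
  group

end CfsgLib.Sporadic.MonsterFusion.FI
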