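import Cfsg.Agent.Lib.Sporadic.MonsterFusion.FINormal
import Cfsg.Agent.Lib.Sporadic.LargeFischer.Setup
import Cfsg.Prelude.Def_CaseTheorems

/-!
The normaliser of the subgroup of order three modulo it: the centraliser has index two and its involution
centraliser carries the extraspecial group, and the centraliser is quasisimple once the quotient is simple.
-/

set_option autoImplicit false
set_option linter.unusedSectionVars false
set_option maxRecDepth 20000

namespace CfsgLib.Sporadic.MonsterFusion.FI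

open Cfsg CfsgLib.SmallGroups CfsgLib.SmallGroups.LeechGroup CfsgLib.ThreeTransp.Extraspecial
open CfsgLib.Sporadic.LargeFischer (qImg mem_qImg)
open scoped commutatorElement

variable {G : Type*} [Group G] [Finite G] {z : G} {Q : Subgroup (Subgroup.centralizer ({z} : Set G))}
  [Q.Normal] {e : (Subgroup.centralizer ({z} : Set G)) ⧸ Q ≃* Spor.Co1}
  {ψ : leechLattice → Q ⧸ Subgroup.center Q} {b : Subgroup.centralizer ({z} : Set G)}

theorem eq_one_of_mem_Q (F : Frame Q e ψ) {x : Subgroup.centralizer ({z} : Set G)} (hx : x ∈ Q)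
    (h3 : x ^ 3 = 1) : x = 1 := by
  obtain ⟨j, hj⟩ := F.extra.isPGroup ⟨x, hx⟩
  have := pow_gcd_eq_one.2 ⟨(congrArg Subtype.val hj : x ^ 2 ^ j = 1), h3⟩
  rwa [show Nat.gcd (2 ^ j) 3 = 1 from ((by norm_num : Nat.Coprime 2 3).pow_left j), pow_one] at this

theorem pow_three_of_mem (hb3 : orderOf (b : G) = 3) {y : G} (hy : y ∈ Subgroup.zpowers (b : G)) : y ^ 3 = 1 := by
  obtain ⟨i, rfl⟩ := Subgroup.mem_zpowers_iff.1 hy
  rw [← zpow_natCast, ← zpow_mul, mul_comm, zpow_mul, zpow_natCast, ← hb3, pow_orderOf_eq_one, one_zpow]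

theorem mem_centralizer_zpowers {x : G} :
    x ∈ Subgroup.centralizer (Subgroup.zpowers (b : G) : Set G) ↔ (b : G) * x = x * b := by
  rw [Subgroup.zpowers_eq_closure, Subgroup.centralizer_closure, Subgroup.mem_centralizer_singleton_iff]
  exact eq_comm

theorem normalizer_cases (hb3 : orderOf (b : G) = 3) {n : G}
    (hn : n ∈ Subgroup.normalizer (Subgroup.zpowers (b : G) : Set G)) :
    n * b * n⁻¹ = b ∨ n * b * n⁻¹ = (b : G)⁻¹ := by
  obtain ⟨i, hi⟩ := mem_powers_iff_mem_zpowers.2 ((Subgroup.mem_normalizer_iff.1 hn b).1 (Subgroup.mem_zpowers _))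
  have hi' : (b : G) ^ (i % 3) = n * b * n⁻¹ := by rw [← hb3, pow_mod_orderOf]; exact hi
  have : i % 3 < 3 := Nat.mod_lt _ (by norm_num)
  interval_cases h : i % 3
  · rw [pow_zero, eq_comm, conj_eq_one_iff] at hi'
    rw [hi', orderOf_one] at hb3
    omega
  · rw [pow_one] at hi'; exact Or.inl hi'.symm
  · right
    rw [← hi', eq_inv_iff_mul_eq_one, ← pow_succ]
    show (b : G) ^ 3 = 1
    rw [← hb3, pow_orderOf_eq_one]

variable (F : Frame Q e ψ) (hb3 : orderOf (b : G) = 3) (hb : e (QuotientGroup.mk b) = pj sg)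
include F hb3 hb

theorem z_mem_centralizer : z ∈ Subgroup.centralizer (Subgroup.zpowers (b : G) : Set G) :=
  mem_centralizer_zpowers.2 (Subgroup.mem_centralizer_singleton_iff.1 b.2)

theorem centralizer_index :
    ((Subgroup.centralizer (Subgroup.zpowers (b : G) : Set G)).subgroupOf
      (Subgroup.normalizer (Subgroup.zpowers (b : G) : Set G))).index = 2 := by
  obtain ⟨h, hh⟩ := exists_inverter F hb3 hb
  have hh' : (h : G) * b * (h : G)⁻¹ = (b : G)⁻¹ := congrArg Subtype.val hh
  have hbb : (b : G)⁻¹ ≠ b := fun e0 => by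
    have h2 : orderOf (b : G) ∣ 2 := orderOf_dvd_of_pow_eq_one (by rw [pow_two]; exact inv_eq_iff_mul_eq_one.1 e0)
    rw [hb3] at h2; omega
  have hN : (h : G) ∈ Subgroup.normalizer (Subgroup.zpowers (b : G) : Set G) := by
    refine Subgroup.mem_normalizer_fintype fun x hx => ?_
    obtain ⟨i, rfl⟩ := Subgroup.mem_zpowers_iff.1 hx
    rw [← conj_zpow, hh']
    exact Subgroup.zpow_mem _ (inv_mem (Subgroup.mem_zpowers _)) i
  refine Subgroup.index_eq_two_iff.2 ⟨⟨h, hN⟩, fun n => ?_⟩
  have key : ∀ m : G, m ∈ Subgroup.centralizer (Subgroup.zpowers (b : G) : Set G) ↔ m * b * m⁻¹ = b := fun m => by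
    rw [mem_centralizer_zpowers, mul_inv_eq_iff_eq_mul]; exact eq_comm
  simp only [Subgroup.mem_subgroupOf, Subgroup.coe_mul, key]
  have e1 : (n : G) * h * b * ((n : G) * h)⁻¹ = ((n : G) * b * (n : G)⁻¹)⁻¹ := by
    calc (n : G) * h * b * ((n : G) * h)⁻¹ = (n : G) * ((h : G) * b * (h : G)⁻¹) * (n : G)⁻¹ := by group
      _ = _ := by rw [hh']; group
  rw [e1]
  rcases normalizer_cases hb3 n.2 with r | r <;> rw [r]
  · exact Or.inr ⟨rfl, hbb⟩
  · exact Or.inl ⟨inv_inv _, hbb⟩

/-- An element outside the centraliser does not centralise the fixed part of `Q` modulo `b`. -/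
theorem outer_moves {n : G} (hn : n ∈ Subgroup.normalizer (Subgroup.zpowers (b : G) : Set G))
    (hnC : n ∉ Subgroup.centralizer (Subgroup.zpowers (b : G) : Set G))
    (hnz : n * z * n⁻¹ * z⁻¹ ∈ Subgroup.zpowers (b : G))
    (hq : ∀ q : Q, Commute b (q : Subgroup.centralizer ({z} : Set G)) →
      ((((q : Subgroup.centralizer ({z} : Set G)) : G) * n))⁻¹ * (n * ((q : Subgroup.centralizer ({z} : Set G)) : G)) ∈
        Subgroup.zpowers (b : G)) : False := by
  have hzC := z_mem_centralizer F hb3 hb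
  have hn1 : n * z * n⁻¹ * z⁻¹ = 1 := by
    set y := n * z * n⁻¹ * z⁻¹ with hy
    have hzy : z * y = y * z := (Subgroup.mem_centralizer_iff.1 hzC y hnz).symm
    have h2 : y ^ 2 = 1 := by
      have e2 : n * z * n⁻¹ = y * z := by rw [hy]; group
      calc y ^ 2 = (y * z) * (y * z) * ((z * z))⁻¹ := by
            rw [pow_two, mul_assoc y z (y * z), ← mul_assoc z y z, hzy]; group
        _ = 1 := by
            rw [← e2, F.setting.ext.z_sq, inv_one, mul_one]
            calc n * z * n⁻¹ * (n * z * n⁻¹) = n * (z * z) * n⁻¹ := by group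
              _ = 1 := by rw [F.setting.ext.z_sq]; group
    have := pow_gcd_eq_one.2 ⟨h2, pow_three_of_mem hb3 hnz⟩
    simpa using this
  have hnc : n ∈ Subgroup.centralizer ({z} : Set G) :=
    Subgroup.mem_centralizer_singleton_iff.2 (mul_inv_eq_iff_eq_mul.1 (mul_inv_eq_one.1 hn1))
  have hinv : n * b * n⁻¹ = (b : G)⁻¹ := (normalizer_cases hb3 hn).resolve_left fun r =>
    hnC (mem_centralizer_zpowers.2 (mul_inv_eq_iff_eq_mul.1 r).symm)
  refine no_inverter F hb3 hb (c := ⟨n, hnc⟩) (Subtype.ext hinv) fun q hbq => ?_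
  set c : Subgroup.centralizer ({z} : Set G) := ⟨n, hnc⟩
  set x := ((q : Subgroup.centralizer ({z} : Set G)))⁻¹ * (c * q * c⁻¹) with hx
  have hxQ : x ∈ Q := mul_mem (inv_mem q.2) ((inferInstance : Q.Normal).conj_mem _ q.2 c)
  have hxY : (x : G) ∈ Subgroup.zpowers (b : G) := by
    have := (Subgroup.mem_normalizer_iff.1 hn _).1 (hq q hbq)
    convert this using 1
    simp only [hx, c, Subgroup.coe_mul, Subgroup.coe_inv]
    group
  exact (inv_mul_eq_one.1 (eq_one_of_mem_Q F hxQ (Subtype.ext (pow_three_of_mem hb3 hxY)))).symm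

/-- The centraliser of `b` is quasisimple when its quotient by `b` is simple and not abelian. -/
theorem centralizer_quasisimple [((Subgroup.zpowers (b : G)).subgroupOf
      (Subgroup.centralizer (Subgroup.zpowers (b : G) : Set G))).Normal]
    (hs : IsSimpleGroup (↥(Subgroup.centralizer (Subgroup.zpowers (b : G) : Set G)) ⧸
      (Subgroup.zpowers (b : G)).subgroupOf (Subgroup.centralizer (Subgroup.zpowers (b : G) : Set G))))
    (hna : ¬ ∀ x y : ↥(Subgroup.centralizer (Subgroup.zpowers (b : G) : Set G)) ⧸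
      (Subgroup.zpowers (b : G)).subgroupOf (Subgroup.centralizer (Subgroup.zpowers (b : G) : Set G)),
        x * y = y * x) :
    IsQuasisimple ↥(Subgroup.centralizer (Subgroup.zpowers (b : G) : Set G)) := by
  set C := Subgroup.centralizer (Subgroup.zpowers (b : G) : Set G) with hC
  set N := (Subgroup.zpowers (b : G)).subgroupOf C with hN
  have hbC : (b : G) ∈ C := mem_centralizer_zpowers.2 rfl
  set bC : C := ⟨b, hbC⟩ with hbCdef
  -- `b` is a product of commutators
  obtain ⟨a, c, hac, hcc, hq⟩ := exists_commutator F hb3 hb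
  set q := (a * c * a⁻¹ * c⁻¹)⁻¹ * b with hqdef
  have haC : (a : G) ∈ C := mem_centralizer_zpowers.2 (congrArg Subtype.val hac.eq)
  have hcC : (c : G) ∈ C := mem_centralizer_zpowers.2 (congrArg Subtype.val hcc.eq)
  obtain ⟨j, hj⟩ := F.extra.isPGroup ⟨q, hq⟩
  have hj' : (q : G) ^ 2 ^ j = 1 := congrArg Subtype.val (congrArg Subtype.val hj)
  have hbD : bC ∈ commutator C := by
    set k : C := ⁅(⟨a, haC⟩ : C), ⟨c, hcC⟩⁆ with hk
    have hkD : k ∈ commutator C := Subgroup.commutator_mem_commutator (Subgroup.mem_top _) (Subgroup.mem_top _)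
    have hqe : ((k⁻¹ * bC : C) : G) = q := by
      simp only [hqdef, hk, hbCdef, commutatorElement_def, Subgroup.coe_mul, Subgroup.coe_inv]
    rw [← QuotientGroup.eq_one_iff]
    set β : C ⧸ commutator C := QuotientGroup.mk bC with hβ
    have h3 : β ^ 3 = 1 := by
      rw [hβ, ← QuotientGroup.mk_pow]
      exact congrArg _ (Subtype.ext (by rw [SubmonoidClass.coe_pow, ← hb3]; exact pow_orderOf_eq_one _))
    have h2 : β ^ 2 ^ j = 1 := by
      have e1 : β = QuotientGroup.mk (k⁻¹ * bC) := by
        rw [QuotientGroup.mk_mul, QuotientGroup.mk_inv, (QuotientGroup.eq_one_iff k).2 hkD, inv_one, one_mul]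
      rw [e1, ← QuotientGroup.mk_pow]
      exact congrArg _ (Subtype.ext (by rw [SubmonoidClass.coe_pow, hqe]; exact hj'))
    have := pow_gcd_eq_one.2 ⟨h2, h3⟩
    rwa [show Nat.gcd (2 ^ j) 3 = 1 from ((by norm_num : Nat.Coprime 2 3).pow_left j), pow_one] at this
  have hND : N ≤ commutator C := fun x hx => by
    obtain ⟨i, hi⟩ := Subgroup.mem_zpowers_iff.1 (Subgroup.mem_subgroupOf.1 hx)
    rw [show x = bC ^ i from Subtype.ext (by rw [Subgroup.coe_zpow]; exact hi.symm)]
    exact Subgroup.zpow_mem _ hbD i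
  have hperf : Group.IsPerfect C := by
    rw [Group.isPerfect_def]
    have := hs
    have hn : ((commutator C).map (QuotientGroup.mk' N)).Normal :=
      Subgroup.Normal.map inferInstance _ (QuotientGroup.mk'_surjective N)
    rcases hn.eq_bot_or_eq_top with e0 | e0
    · exfalso
      refine hna fun x y => ?_
      obtain ⟨x, rfl⟩ := QuotientGroup.mk'_surjective N x
      obtain ⟨y, rfl⟩ := QuotientGroup.mk'_surjective N y
      have h1 : (QuotientGroup.mk' N) ⁅x, y⁆ = 1 := by
        have : (QuotientGroup.mk' N) ⁅x, y⁆ ∈ (commutator C).map (QuotientGroup.mk' N) :=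
          ⟨_, Subgroup.commutator_mem_commutator (Subgroup.mem_top _) (Subgroup.mem_top _), rfl⟩
        rwa [e0, Subgroup.mem_bot] at this
      rwa [map_commutatorElement, commutatorElement_eq_one_iff_mul_comm] at h1
    · rw [eq_top_iff]
      intro x _
      obtain ⟨y, hy, e1⟩ : (QuotientGroup.mk' N) x ∈ (commutator C).map (QuotientGroup.mk' N) := e0 ▸ Subgroup.mem_top _
      have := mul_mem hy (hND (QuotientGroup.eq.1 e1))
      rwa [mul_inv_cancel_left] at this
  refine ⟨hperf, ?_⟩
  have hle : N ≤ Subgroup.center C := fun x hx => Subgroup.mem_center_iff.2 fun y => Subtype.ext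
    (Subgroup.mem_centralizer_iff.1 y.2 x (Subgroup.mem_subgroupOf.1 hx)).symm
  have hcen : Subgroup.center C = N := by
    refine le_antisymm ?_ hle
    have := hs
    have hn : ((Subgroup.center C).map (QuotientGroup.mk' N)).Normal :=
      Subgroup.Normal.map inferInstance _ (QuotientGroup.mk'_surjective N)
    rcases hn.eq_bot_or_eq_top with e0 | e0
    · rwa [Subgroup.map_eq_bot_iff, QuotientGroup.ker_mk'] at e0
    · exfalso
      refine hna fun x y => ?_
      obtain ⟨w, hw, rfl⟩ : x ∈ (Subgroup.center C).map (QuotientGroup.mk' N) := e0 ▸ Subgroup.mem_top _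
      obtain ⟨y, rfl⟩ := QuotientGroup.mk'_surjective N y
      rw [← map_mul, ← map_mul, Subgroup.mem_center_iff.1 hw y]
  have := hs
  exact (QuotientGroup.quotientMulEquivOfEq hcen).isSimpleGroup

end CfsgLib.Sporadic.MonsterFusion.FI
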