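import Cfsg.Agent.Lib.Sporadic.MonsterFusion.FIElts
import Cfsg.Agent.Lib.ThreeTransp.LeechThirteen
import Cfsg.Agent.Lib.Orth.Standard

/-!
The centraliser of the element acting on a six-dimensional quadratic space over the field with three
elements.
-/

set_option autoImplicit false
set_option maxRecDepth 20000

namespace CfsgLib.Sporadic.MonsterFusion.FI

open Cfsg CfsgLib.SmallGroups CfsgLib.SmallGroups.Golay CfsgLib.SmallGroups.LeechGroup CfsgLib.Orth
  CfsgLib.Sporadic.M24Orbits QuadraticMap

/-- The index set of the space. -/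
abbrev I6 : Type := (Fin 2 ⊕ Fin 2) ⊕ Fin 2

/-- The space. -/
abbrev W6 : Type := I6 → ZMod 3

/-- The quadratic form of minus type. -/
noncomputable def Q6 : QuadraticForm (ZMod 3) W6 := minusForm (ZMod 3) 2 0 1

/-- The form in coordinates. -/
def q6 (v : W6) : ZMod 3 :=
  v (.inl (.inl 0)) * v (.inl (.inr 0)) + v (.inl (.inl 1)) * v (.inl (.inr 1)) + v (.inr 0) * v (.inr 0) +
    v (.inr 1) * v (.inr 1)

/-- The polar form in coordinates. -/
def pol6 (u v : W6) : ZMod 3 :=
  u (.inl (.inl 0)) * v (.inl (.inr 0)) + u (.inl (.inr 0)) * v (.inl (.inl 0)) +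
    (u (.inl (.inl 1)) * v (.inl (.inr 1)) + u (.inl (.inr 1)) * v (.inl (.inl 1))) +
    (2 * (u (.inr 0) * v (.inr 0)) + 2 * (u (.inr 1) * v (.inr 1)))

theorem Q6_apply (v : W6) : Q6 v = q6 v := by
  rw [Q6, ← minusForm_apply]
  simp [quadFormMinus, q6, Fin.sum_univ_two, pow_two]
  ring

theorem polar_Q6 (u v : W6) : polar Q6 u v = pol6 u v := by
  rw [Q6, minusForm_polar]
  simp [pol6, Fin.sum_univ_two]
  ring

theorem aniso : ∀ z₁ z₂ : ZMod 3, z₁ ^ 2 + 0 * z₁ * z₂ + 1 * z₂ ^ 2 = 0 → z₁ = 0 ∧ z₂ = 0 := by decide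

theorem Q6_nondeg : (QuadraticMap.polarBilin Q6).Nondegenerate := minusForm_nondeg 2 0 1 aniso

/-- The number of an index. -/
def ix : I6 → ℕ
  | .inl (.inl i) => i
  | .inl (.inr i) => 2 + i
  | .inr i => 4 + i

/-- The index dual to a given one. -/
def dual : I6 → I6
  | .inl (.inl i) => .inl (.inr i)
  | .inl (.inr i) => .inl (.inl i)
  | .inr i => .inr i

/-- The weight of an index. -/
def wgt : I6 → ZMod 3
  | .inl _ => 1
  | .inr _ => 2

/-- The inner product modulo three. -/
noncomputable def B3 (v w : leechLattice) : ZMod 3 :=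
  ((dotInt (v : GolayPt → ℤ) (w : GolayPt → ℤ) / 8 : ℤ) : ZMod 3)

theorem dot_comm' (x y : GolayPt → ℤ) : dotInt x y = dotInt y x :=
  Finset.sum_congr rfl fun i _ => mul_comm _ _

theorem B3_comm (v w : leechLattice) : B3 v w = B3 w v := by rw [B3, B3, dot_comm']

theorem B3_add (u v w : leechLattice) : B3 (u + v) w = B3 u w + B3 v w := by
  rw [B3, B3, B3, AddSubgroup.coe_add, dotInt_add_left,
    Int.add_ediv_of_dvd_left (ThreeTransp.LeechForm.eight_dvd_dot u w), Int.cast_add]

theorem B3_smul (g : Co0) (v w : leechLattice) : B3 (g • v) (g • w) = B3 v w := by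
  rw [B3, B3, ThreeTransp.LeechThirteen.dot_smul]

/-- The inner product with a fixed second vector. -/
noncomputable def B3L (w : leechLattice) : leechLattice →+ ZMod 3 :=
  AddMonoidHom.mk' (fun v => B3 v w) fun u v => B3_add u v w

/-- The coordinates of a lift of a basis vector in the basis of the fixed lattice. -/
def liftC (k : I6) (j : Fin 12) : ℕ := (liftT.getD (ix k) []).getD j 0

/-- The lift of a basis vector. -/
noncomputable def lv (k : I6) : leechLattice := ∑ j, liftC k j • Bv j

/-- Its coordinates. -/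
def lc (k : I6) (i : Fin 12) : ℤ := ∑ j, (liftC k j : ℤ) * bas12 j i

theorem coe_lv (k : I6) : (lv k : GolayPt → ℤ) = fv (lc k) := by
  funext p
  simp [lv, lc, fv, Bv, Finset.sum_apply]

/-- The projection to the space. -/
noncomputable def projW : leechLattice →+ W6 :=
  AddMonoidHom.mk' (fun v k => wgt k * B3 v (lv (dual k))) fun u v => funext fun k => by
    rw [B3_add, mul_add]; rfl

theorem projW_apply (v : leechLattice) (k : I6) : projW v k = wgt k * B3 v (lv (dual k)) := rfl

/-- The projection computed from coordinates. -/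
def projC (a : Fin 12 → ℤ) (k : I6) : ZMod 3 := wgt k * ((dot12 a (lc (dual k)) / 8 : ℤ) : ZMod 3)

theorem projW_fv {v : leechLattice} {a : Fin 12 → ℤ} (h : (v : GolayPt → ℤ) = fv a) : projW v = projC a :=
  funext fun k => by rw [projW_apply, B3, h, coe_lv, dot_fv]; rfl

theorem projW_lv (k : I6) : projW (lv k) = Pi.single k 1 := by
  rw [projW_fv (coe_lv k)]
  exact (by decide +kernel : ∀ k, projC (lc k) = Pi.single k 1) k

theorem B3_basis : ∀ i j : Fin 12,
    ((dot12 (bas12 i) (bas12 j) / 8 : ℤ) : ZMod 3) = pol6 (projC (bas12 i)) (projC (bas12 j)) := by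
  decide +kernel

/-- Inner products of fixed vectors are those of the projections. -/
theorem B3_eq {v w : leechLattice} (hv : sg • v = v) (hw : sg • w = w) :
    B3 v w = polar Q6 (projW v) (projW w) := by
  have hb : ∀ i j, B3 (Bv i) (Bv j) = QuadraticMap.polarBilin Q6 (projW (Bv i)) (projW (Bv j)) := fun i j => by
    rw [QuadraticMap.polarBilin_apply_apply, polar_Q6, projW_fv (v := Bv i) (a := bas12 i) rfl,
      projW_fv (v := Bv j) (a := bas12 j) rfl, ← B3_basis, B3, ← dot_fv]
    rfl
  have hlin : ∀ (N : Fin 12 → ℤ) (u : leechLattice), B3 (∑ i, N i • Bv i) u = ∑ i, N i • B3 (Bv i) u := by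
    intro N u
    have h := map_sum (B3L u) (fun i => N i • Bv i) Finset.univ
    simp only [B3L, AddMonoidHom.mk'_apply] at h
    rw [h]
    refine Finset.sum_congr rfl fun i _ => ?_
    have h2 := map_zsmul (B3L u) (N i) (Bv i)
    simp only [B3L, AddMonoidHom.mk'_apply] at h2
    exact h2
  obtain ⟨N, rfl⟩ := exists_coords v hv
  obtain ⟨M, rfl⟩ := exists_coords w hw
  rw [← QuadraticMap.polarBilin_apply_apply, map_sum projW, map_sum projW, map_sum (QuadraticMap.polarBilin Q6),
    LinearMap.sum_apply, hlin]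
  refine Finset.sum_congr rfl fun i _ => ?_
  rw [map_zsmul projW, map_zsmul (QuadraticMap.polarBilin Q6), LinearMap.smul_apply]
  refine congrArg (fun x : ZMod 3 => N i • x) ?_
  rw [B3_comm, hlin, map_sum]
  refine Finset.sum_congr rfl fun j _ => ?_
  rw [map_zsmul projW, map_zsmul, B3_comm, hb]

theorem sg_lv (k : I6) : sg • lv k = lv k := sg_fv (coe_lv k)

theorem smul_fixed {g : Co0} (hg : g ∈ CC) {v : leechLattice} (hv : sg • v = v) : sg • (g • v) = g • v := by
  rw [smul_smul, ← (mem_CC.1 hg).eq, mul_smul, hv]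

/-- The linear map induced by an element. -/
noncomputable def Lm (g : Co0) : W6 →ₗ[ZMod 3] W6 := ∑ k, (LinearMap.proj k).smulRight (projW (g • lv k))

theorem Lm_apply (g : Co0) (w : W6) : Lm g w = ∑ k, w k • projW (g • lv k) := by
  simp [Lm, LinearMap.sum_apply]

/-- A fixed vector over a given point of the space. -/
noncomputable def liftW (w : W6) : leechLattice := ∑ k, (w k).val • lv k

theorem sg_liftW (w : W6) : sg • liftW w = liftW w := by
  show ThreeTransp.LeechThirteen.actHom sg (liftW w) = _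
  rw [liftW, map_sum]
  refine Finset.sum_congr rfl fun k _ => ?_
  rw [map_nsmul, ThreeTransp.LeechThirteen.actHom_apply, sg_lv]

theorem projW_liftW (w : W6) : projW (liftW w) = w := by
  funext i
  rw [liftW, map_sum, Finset.sum_apply]
  simp [projW_lv, Pi.single_apply, ZMod.natCast_zmod_val]

theorem projW_smul {g : Co0} (hg : g ∈ CC) {v : leechLattice} (hv : sg • v = v) :
    projW (g • v) = Lm g (projW v) := by
  set d := v - liftW (projW v) with hd
  have hd0 : projW d = 0 := by rw [hd, map_sub, projW_liftW, sub_self]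
  have hsd : sg • d = d := by
    show ThreeTransp.LeechThirteen.actHom sg d = _
    rw [hd, map_sub, ThreeTransp.LeechThirteen.actHom_apply, ThreeTransp.LeechThirteen.actHom_apply, hv, sg_liftW]
  have hgd : projW (g • d) = 0 := by
    funext k
    have h0 : B3 d (g⁻¹ • lv (dual k)) = 0 := by
      rw [B3_eq hsd (smul_fixed (inv_mem hg) (sg_lv _)), hd0, polar_zero_left]
    rw [← B3_smul g, smul_inv_smul] at h0
    rw [projW_apply, h0, mul_zero]
    rfl
  have e : v = d + liftW (projW v) := by rw [hd, sub_add_cancel]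
  conv_lhs => rw [e, ← ThreeTransp.LeechThirteen.actHom_apply, map_add, map_add,
    ThreeTransp.LeechThirteen.actHom_apply, hgd, zero_add]
  rw [liftW, map_sum, map_sum, Lm_apply]
  refine Finset.sum_congr rfl fun k _ => ?_
  rw [map_nsmul, map_nsmul, ThreeTransp.LeechThirteen.actHom_apply, ← Nat.cast_smul_eq_nsmul (ZMod 3),
    ZMod.natCast_zmod_val]

theorem Lm_mul {g h : Co0} (hg : g ∈ CC) (hh : h ∈ CC) (w : W6) : Lm (g * h) w = Lm g (Lm h w) := by
  conv_lhs => rw [← projW_liftW w, ← projW_smul (mul_mem hg hh) (sg_liftW w), mul_smul,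
    projW_smul hg (smul_fixed hh (sg_liftW w)), projW_smul hh (sg_liftW w), projW_liftW]

theorem Lm_one (w : W6) : Lm 1 w = w := by
  conv_lhs => rw [← projW_liftW w, ← projW_smul (one_mem CC) (sg_liftW w), one_smul, projW_liftW]

theorem Q6_projW {v : leechLattice} (hv : sg • v = v) : Q6 (projW v) = 2 * B3 v v := by
  rw [B3_eq hv hv, polar_self', ← mul_assoc]
  rw [show (2 : ZMod 3) * 2 = 1 by decide, one_mul]

theorem Lm_quad {g : Co0} (hg : g ∈ CC) (w : W6) : Q6 (Lm g w) = Q6 w := by
  conv_lhs => rw [← projW_liftW w, ← projW_smul hg (sg_liftW w), Q6_projW (smul_fixed hg (sg_liftW w)), B3_smul,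
    ← Q6_projW (sg_liftW w), projW_liftW]

/-- The isometry induced by an element of the centraliser. -/
noncomputable def rhoFun (g : CC) : orthGroup Q6 :=
  ⟨LinearEquiv.ofLinearMap (Lm (g : Co0)) (Lm ((g : Co0)⁻¹))
      (LinearMap.ext fun w => by
        rw [LinearMap.comp_apply, ← Lm_mul g.2 (inv_mem g.2), mul_inv_cancel, Lm_one, LinearMap.id_apply])
      (LinearMap.ext fun w => by
        rw [LinearMap.comp_apply, ← Lm_mul (inv_mem g.2) g.2, inv_mul_cancel, Lm_one, LinearMap.id_apply]),
      fun w => Lm_quad g.2 w⟩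

theorem rhoFun_apply (g : CC) (w : W6) : (rhoFun g).1 w = Lm (g : Co0) w := rfl

theorem rhoFun_mul (g h : CC) : rhoFun (g * h) = rhoFun g * rhoFun h := by
  refine Subtype.ext (LinearEquiv.ext fun w => ?_)
  rw [Subgroup.coe_mul, LinearEquiv.mul_apply, rhoFun_apply, rhoFun_apply, rhoFun_apply, Subgroup.coe_mul,
    Lm_mul g.2 h.2]

/-- The representation of the centraliser. -/
noncomputable def rho : CC →* orthGroup Q6 := MonoidHom.mk' rhoFun rhoFun_mul

theorem rho_apply (g : CC) (w : W6) : (rho g).1 w = Lm (g : Co0) w := rhoFun_apply g w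

/-! ### The generators -/

/-- The coordinates of the images of the basis vectors. -/
def imgV (i : Fin 9) (j : Fin 12) : Fin 12 → ℤ := fun b =>
  if (i : ℕ) < 2 then bas12 j (blk (tblFun (permI.getD i []) (rep b)))
  else if (i : ℕ) < 8 then
    if (signT.getD ((i : ℕ) - 2) 0).testBit b then -bas12 j b else bas12 j b
  else (imgT.getD j []).getD b 0

theorem gen_Bv (i : Fin 9) (j : Fin 12) :
    ((gen i • Bv j : leechLattice) : GolayPt → ℤ) = fv (imgV i j) := by
  by_cases h : (i : ℕ) < 2
  · funext q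
    rw [show gen i = ((permM (gM ⟨i, h⟩) : monoSub) : Co0) by rw [gen, dif_pos h], permM_apply]
    simp only [fv, imgV, if_pos h, Bv]
    refine congrArg (bas12 j) ?_
    exact (by decide +kernel : ∀ (i : Fin 2) q, blk (tblFun (permI.getD i []) q) =
      blk (tblFun (permI.getD i []) (rep (blk q)))) ⟨i, h⟩ q
  · by_cases h' : (i : ℕ) < 8
    · funext q
      rw [show gen i = ((sgnG ⟨(i : ℕ) - 2, by omega⟩ : monoSub) : Co0) by rw [gen, dif_neg h, dif_pos h'],
        sgnG, sgn_apply]
      simp only [fv, imgV, if_neg h, if_pos h', wM, Bv]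
      split_ifs <;> simp_all
    · rw [show gen i = gG by rw [gen, dif_neg h, dif_neg h']]
      rw [show imgV i j = fun (b : Fin 12) => (imgT.getD j []).getD b 0 by
        funext b; simp only [imgV, if_neg h, if_neg h']]
      exact exists_gen.choose_spec.2 j

/-- The image of a basis vector of the space under a generator, from the table. -/
def rgV (i : Fin 9) (k : I6) : W6 := fun l => (((rgT.getD i []).getD (ix k) []).getD (ix l) 0 : ℕ)

theorem rgV_spec : ∀ (i : Fin 9) (k : I6),
    projC (fun b => ∑ j, (liftC k j : ℤ) * imgV i j b) = rgV i k := by decide +kernel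

theorem gen_lv (i : Fin 9) (k : I6) : projW (gen i • lv k) = rgV i k := by
  rw [projW_fv (a := fun b => ∑ j, (liftC k j : ℤ) * imgV i j b) ?_, rgV_spec]
  rw [← ThreeTransp.LeechThirteen.actHom_apply, lv, map_sum]
  funext p
  simp only [map_nsmul, ThreeTransp.LeechThirteen.actHom_apply, AddSubgroup.val_finsetSum, Finset.sum_apply,
    AddSubgroup.coe_nsmul, Pi.smul_apply, gen_Bv, fv, nsmul_eq_mul]
  rfl

/-- The same linear map, computed. -/
def rgA (i : Fin 9) (w : W6) : W6 := fun l => ∑ k, w k * rgV i k l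

/-- A generator in the centraliser. -/
noncomputable def genC (i : Fin 9) : CC := ⟨gen i, mem_CC.2 (gen_commute i)⟩

theorem rho_gen (i : Fin 9) (w : W6) : (rho (genC i)).1 w = rgA i w := by
  rw [rho_apply, Lm_apply]
  funext l
  simp [genC, gen_lv, rgA, Finset.sum_apply]

/-- The product of a word in the generators. -/
noncomputable def gWC (l : List (Fin 9)) : CC := (l.map genC).prod

/-- Its action on the space, computed. -/
def rgW (l : List (Fin 9)) (w : W6) : W6 := l.foldr rgA w

theorem rho_gWC : ∀ (l : List (Fin 9)) (w : W6), (rho (gWC l)).1 w = rgW l w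
  | [], w => by rw [gWC, List.map_nil, List.prod_nil, map_one]; rfl
  | i :: l, w => by
    rw [gWC, List.map_cons, List.prod_cons, map_mul]
    show (rho (genC i)).1 ((rho (gWC l)).1 w) = _
    rw [rho_gWC l w, rho_gen]
    rfl

end CfsgLib.Sporadic.MonsterFusion.FI
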