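import Cfsg.Agent.Lib.Sporadic.MonsterFusion.HeldLift
import Cfsg.Agent.Lib.Sporadic.ExtraspecialCrit
import Cfsg.Agent.Lib.Classical.SLBasic

/-!
The centraliser of a Sylow 7-subgroup of the joint centraliser, modulo that subgroup, is of Held type.
-/

set_option autoImplicit false

namespace CfsgLib.Sporadic.MonsterFusion.Held

open Cfsg CfsgLib.SmallGroups CfsgLib.ThreeTransp.Extraspecial Frame7
open scoped commutatorElement

/-- The special linear group of degree 3 over the field with two elements is simple. -/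
theorem simple_SL : IsSimpleGroup (Matrix.SpecialLinearGroup (Fin 3) (ZMod 2)) := by
  have h := CfsgLib.Classical.psl_fin_isSimpleGroup (F := ZMod 2) (k := 3) (by norm_num) (by norm_num)
  have hc : Subgroup.center (Matrix.SpecialLinearGroup (Fin 3) (ZMod 2)) = ⊥ := by
    rw [Subgroup.eq_bot_iff_forall]
    intro A hA
    obtain ⟨r, hr, hA'⟩ := Matrix.SpecialLinearGroup.mem_center_iff.1 hA
    obtain rfl : r = 1 := (by decide : ∀ r : ZMod 2, r ^ 3 = 1 → r = 1) r (by simpa using hr)
    exact Subtype.ext (hA'.symm.trans (map_one _))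
  exact ((QuotientGroup.quotientMulEquivOfEq hc).trans QuotientGroup.quotientBot).symm.isSimpleGroup

/-- A normal nilpotent subgroup of that group is trivial. -/
theorem nilpotent_normal_SL (N : Subgroup (Matrix.SpecialLinearGroup (Fin 3) (ZMod 2))) [N.Normal]
    [Group.IsNilpotent N] : N = ⊥ := by
  have := simple_SL
  refine (Subgroup.Normal.eq_bot_or_eq_top inferInstance).resolve_right fun h => ?_
  subst h
  have : Group.IsNilpotent (Matrix.SpecialLinearGroup (Fin 3) (ZMod 2)) :=
    Group.nilpotent_of_mulEquiv Subgroup.topEquiv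
  have hcomm := IsSimpleGroup.comm_iff_isSolvable.2
    (inferInstance : Group.IsSolvable (Matrix.SpecialLinearGroup (Fin 3) (ZMod 2)))
  have := hcomm ⟨!![1, 1, 0; 0, 1, 0; 0, 0, 1], by decide +kernel⟩
    ⟨!![1, 0, 0; 1, 1, 0; 0, 0, 1], by decide +kernel⟩
  have h2 := congrArg (fun A : Matrix.SpecialLinearGroup (Fin 3) (ZMod 2) => A.1 0 0) this
  revert h2
  decide +kernel

theorem kap_single (j : Fin 6) : kap (Pi.single j 1) = Bv j := by
  rw [kap, Finset.sum_eq_single j (fun x _ hx => by simp [hx]) (by simp)]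
  simp [ZMod.val_one]

theorem cong_pj {g g' : Co0} (h : pj g = pj g') (v : leechLattice) : Cong (g • v) (g' • v) := by
  have h2 : g'⁻¹ * g ∈ Subgroup.center Co0 := by
    refine (QuotientGroup.eq_one_iff _).1 ?_
    show pj (g'⁻¹ * g) = 1
    rw [map_mul, map_inv, h, inv_mul_cancel]
  rcases center_cases' h2 with r | r
  · rw [inv_mul_eq_one.1 r]
    exact cong_refl _
  · rw [inv_mul_eq_iff_eq_mul.1 r, mul_smul, negG_smul, smul_neg_vec]
    exact ⟨-(g' • v), by abel⟩

theorem eq_of_add_zero : ∀ x y : ZMod 2, x + y = 0 → x = y := by decide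

theorem single_ne : (Pi.single 0 1 : Fin 3 → ZMod 2) ≠ 0 := by decide

theorem kn_zero : ¬ (kn (0 : Fin 6 → ZMod 2) ∈ uCls ∨ kn (0 : Fin 6 → ZMod 2) ∈ vCls) := by decide +kernel

theorem det_fixed {M : Matrix (Fin 3) (Fin 3) (ZMod 2)} (h : M.det = 1)
    (hc : ∀ i, M i 0 = (Pi.single 0 1 : Fin 3 → ZMod 2) i) : M 1 1 * M 2 2 + M 2 1 * M 1 2 = 1 := by
  rw [Matrix.det_fin_three, hc 0, hc 1, hc 2] at h
  simp only [Pi.single_eq_same, Pi.single_eq_of_ne (show (1 : Fin 3) ≠ 0 by decide),
    Pi.single_eq_of_ne (show (2 : Fin 3) ≠ 0 by decide)] at h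
  generalize M 1 1 = a, M 2 2 = c, M 2 1 = d, M 1 2 = f, M 0 1 = g, M 0 2 = k at h ⊢
  revert a c d f g k
  decide

variable {G : Type*} [Group G] [Finite G] {z : G} {Q : Subgroup (Subgroup.centralizer ({z} : Set G))}
  [Q.Normal] {e : (Subgroup.centralizer ({z} : Set G)) ⧸ Q ≃* Spor.Co1}
  {ψ : leechLattice → Q ⧸ Subgroup.center Q}

theorem cong_iota {a a' : Fin 3 → ZMod 2} (h : Cong (kap (iota a)) (kap (iota a'))) : a = a' := by
  have h1 : Cong (kap (iota a + iota a')) 0 := by
    refine cong_trans (cong_symm (kap_add _ _)) ?_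
    obtain ⟨x, hx⟩ := h
    exact ⟨kap (iota a') + x, by rw [hx]; abel⟩
  have h2 := kap_zero h1
  rw [← iota_add] at h2
  funext i
  have := congrFun (iota_inj _ h2) i
  rw [Pi.add_apply, Pi.zero_apply] at this
  exact eq_of_add_zero _ _ this

/-- The action of a commuting element on the three-dimensional space. -/
noncomputable def act3 (g : {g : Co0 // Commute g sg}) (a : Fin 3 → ZMod 2) : Fin 3 → ZMod 2 :=
  (U_invariant g.2 a).choose

theorem act3_spec (g : {g : Co0 // Commute g sg}) (a : Fin 3 → ZMod 2) :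
    Cong ((g : Co0) • kap (iota a)) (kap (iota (act3 g a))) :=
  (U_invariant g.2 a).choose_spec

theorem act3_eq {g : {g : Co0 // Commute g sg}} {a a' : Fin 3 → ZMod 2}
    (h : Cong ((g : Co0) • kap (iota a)) (kap (iota a'))) : act3 g a = a' :=
  cong_iota (cong_trans (cong_symm (act3_spec g a)) h)

theorem act3_add (g : {g : Co0 // Commute g sg}) (a b : Fin 3 → ZMod 2) :
    act3 g (a + b) = act3 g a + act3 g b := by
  refine act3_eq ?_
  rw [iota_add, iota_add]
  refine cong_trans (cong_smul _ (cong_symm (kap_add _ _))) (cong_trans ?_ (kap_add _ _))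
  rw [ThreeTransp.LeechForm.smul_add']
  obtain ⟨x, hx⟩ := act3_spec g a
  obtain ⟨y, hy⟩ := act3_spec g b
  exact ⟨x + y, by rw [hx, hy]; abel⟩

/-- The same as a matrix. -/
noncomputable def mat3 (g : {g : Co0 // Commute g sg}) : Matrix (Fin 3) (Fin 3) (ZMod 2) :=
  LinearMap.toMatrix' ((AddMonoidHom.mk' (act3 g) (act3_add g)).toZModLinearMap 2)

theorem mat3_mulVec (g : {g : Co0 // Commute g sg}) (a : Fin 3 → ZMod 2) :
    (mat3 g).mulVec a = act3 g a := by
  rw [mat3, LinearMap.toMatrix'_mulVec]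
  rfl

theorem mat_ext {A B : Matrix (Fin 3) (Fin 3) (ZMod 2)} (h : ∀ a, A.mulVec a = B.mulVec a) : A = B :=
  Matrix.ext_iff_mulVec.2 h

theorem mat3_comp {g h k : {g : Co0 // Commute g sg}} (e' : pj (g : Co0) * pj (h : Co0) = pj (k : Co0)) :
    mat3 g * mat3 h = mat3 k := by
  refine mat_ext fun a => ?_
  rw [← Matrix.mulVec_mulVec, mat3_mulVec, mat3_mulVec, mat3_mulVec]
  refine (act3_eq ?_).symm
  refine cong_trans (cong_pj (g' := (g : Co0) * (h : Co0)) (by rw [map_mul, e']) _) ?_
  rw [mul_smul]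
  exact cong_trans (cong_smul _ (act3_spec h a)) (act3_spec g _)

theorem mat3_one {g : {g : Co0 // Commute g sg}} (e' : pj (g : Co0) = 1) : mat3 g = 1 := by
  refine mat_ext fun a => ?_
  rw [mat3_mulVec, Matrix.one_mulVec]
  exact act3_eq (cong_trans (cong_pj (g' := 1) (by rw [e', map_one]) _) (by rw [one_smul]; exact cong_refl _))

theorem mat3_det (g : {g : Co0 // Commute g sg}) : (mat3 g).det = 1 := by
  have h := mat3_comp (g := g) (h := ⟨(g : Co0)⁻¹, g.2.inv_left⟩) (k := ⟨1, Commute.one_left _⟩)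
    (by rw [map_inv, mul_inv_cancel, map_one])
  rw [mat3_one (g := ⟨1, Commute.one_left _⟩) (map_one _)] at h
  have h2 := congrArg Matrix.det h
  rw [Matrix.det_mul, Matrix.det_one] at h2
  exact (by decide : ∀ x y : ZMod 2, x * y = 1 → x = 1) _ _ h2

/-- The vectors of squared length 64 among the fixed classes. -/
theorem cl_kap (F : Frame Q e ψ) {n : Fin 6 → ZMod 2} {q : Q} (hq : Rep ψ (kap n) q) :
    Cl ψ 64 q ↔ kn n ∈ uCls ∨ kn n ∈ vCls := by
  obtain ⟨hc, hg, -, hiff⟩ := short_spec n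
  constructor
  · rintro ⟨v, hv, hr⟩
    exact cl64 hv (F.psi_eq_iff.1 (hr.trans hq.symm))
  · intro h
    let w : leechLattice := ⟨fv (short n), LeechBasic.mem_lattice.2 (LeechReach.good_of_ok hg)⟩
    exact ⟨w, hiff.2 h, (F.psi_eq_iff.2 (cong_symm ((cong_iff (coe_kap n) (w := w) rfl).2 hc))).trans hq⟩

theorem card_cls : (Finset.univ.filter fun n : Fin 6 → ZMod 2 => kn n ∈ uCls ∨ kn n ∈ vCls).card = 14 := by
  decide +kernel

set_option maxHeartbeats 2000000 in
theorem main_held (F : Frame Q e ψ) (b : Subgroup.centralizer ({z} : Set G))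
    (hb7 : orderOf (b : G) = 7) (hb : e (QuotientGroup.mk b) = pj sg)
    [hn : ((Subgroup.zpowers (b : G)).subgroupOf
      (Subgroup.centralizer (Subgroup.zpowers (b : G) : Set G))).Normal] :
    IsOfHeldType (↥(Subgroup.centralizer (Subgroup.zpowers (b : G) : Set G)) ⧸
      (Subgroup.zpowers (b : G)).subgroupOf (Subgroup.centralizer (Subgroup.zpowers (b : G) : Set G))) := by
  classical
  have : Fact (Nat.Prime 2) := ⟨Nat.prime_two⟩
  have : Fact (Nat.Prime 7) := ⟨by norm_num⟩
  have hb7' : b ^ 7 = 1 := b_pow hb7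
  -- the ambient centraliser and the quotient map
  set GB := Subgroup.centralizer (Subgroup.zpowers (b : G) : Set G) with hGB
  have hmemGB : ∀ g : G, g ∈ GB ↔ Commute (b : G) g := fun g => by
    rw [hGB, Subgroup.zpowers_eq_closure, Subgroup.centralizer_closure,
      Subgroup.mem_centralizer_singleton_iff]
    exact ⟨Eq.symm, fun h => h.eq.symm⟩
  set N0 := (Subgroup.zpowers (b : G)).subgroupOf GB with hN0
  set π := QuotientGroup.mk' N0 with hπ
  have hker : ∀ x : GB, π x = 1 ↔ (x : G) ∈ Subgroup.zpowers (b : G) := fun x => by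
    rw [hπ, QuotientGroup.mk'_apply, QuotientGroup.eq_one_iff, hN0, Subgroup.mem_subgroupOf]
  have hπeq : ∀ x y : GB, π x = π y ↔ ∃ i : ℕ, (y : G) = (x : G) * (b : G) ^ i := fun x y => by
    rw [← inv_mul_eq_one, ← map_inv, ← map_mul, hker, ← mem_powers_iff_mem_zpowers, Submonoid.mem_powers_iff]
    simp only [Subgroup.coe_mul, Subgroup.coe_inv, eq_inv_mul_iff_mul_eq]
    exact exists_congr fun i => eq_comm
  have hbz : (b : G) * z = z * b := Subgroup.mem_centralizer_singleton_iff.1 b.2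
  have hzGB : z ∈ GB := (hmemGB z).2 hbz
  set zb := π ⟨z, hzGB⟩ with hzb
  -- an involution times a power of `b`
  have hinv : ∀ (u : G) (i : ℕ), Commute (b : G) u → u * u = 1 → (u * (b : G) ^ i) * (u * (b : G) ^ i) = 1 →
      (b : G) ^ i = 1 := by
    intro u i hu hu2 h
    rw [mul_assoc, ← mul_assoc ((b : G) ^ i), (hu.pow_left i).eq, mul_assoc u, ← mul_assoc, hu2, one_mul,
      ← pow_add] at h
    have h1 := orderOf_dvd_of_pow_eq_one h
    rw [hb7] at h1
    refine orderOf_dvd_iff_pow_eq_one.1 ?_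
    rw [hb7]
    omega
  -- the centraliser of `z` and `b`
  set D0 := Subgroup.centralizer ({b} : Set (Subgroup.centralizer ({z} : Set G))) with hD0
  have hmemD0 : ∀ h, h ∈ D0 ↔ Commute b h := fun h => by
    rw [hD0, Subgroup.mem_centralizer_singleton_iff]
    exact ⟨Eq.symm, fun h => h.eq.symm⟩
  set D := Subgroup.centralizer ({zb} : Set (GB ⧸ N0)) with hD
  have hDGB : ∀ h : D0, ((h : Subgroup.centralizer ({z} : Set G)) : G) ∈ GB := fun h =>
    (hmemGB _).2 (congrArg Subtype.val ((hmemD0 _).1 h.2).eq)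
  set ι : D0 →* D := MonoidHom.mk' (fun h => ⟨π ⟨((h : Subgroup.centralizer ({z} : Set G)) : G), hDGB h⟩,
      Subgroup.mem_centralizer_singleton_iff.2 (by
        rw [hzb, ← map_mul, ← map_mul]
        exact congrArg π (Subtype.ext
          (Subgroup.mem_centralizer_singleton_iff.1 (h : Subgroup.centralizer ({z} : Set G)).2)))⟩)
    fun a c => Subtype.ext (by simp only [Subgroup.coe_mul, ← map_mul]; rfl) with hι
  have hιker : ∀ h : D0, ι h = 1 ↔ ∃ i : ℕ, (h : Subgroup.centralizer ({z} : Set G)) = b ^ i := fun h => by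
    rw [Subtype.ext_iff, hι, MonoidHom.mk'_apply, Subgroup.coe_one, ← map_one π, eq_comm, hπeq]
    refine exists_congr fun i => ?_
    rw [Subtype.ext_iff, Subgroup.coe_one, one_mul, Subgroup.coe_pow]
  have hιsurj : Function.Surjective ι := by
    rintro ⟨x, hx⟩
    obtain ⟨a, rfl⟩ := QuotientGroup.mk'_surjective N0 x
    have hx' := Subgroup.mem_centralizer_singleton_iff.1 hx
    rw [hzb, ← map_mul, ← map_mul, hπeq] at hx'
    obtain ⟨i, hi⟩ := hx'
    simp only [Subgroup.coe_mul] at hi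
    have hab : Commute (b : G) (a : G) := (hmemGB _).1 a.2
    have hi' : (a : G)⁻¹ * z * a = z * (b : G) ^ i := by
      rw [mul_assoc, hi, mul_assoc (a : G) z, inv_mul_cancel_left]
    have h1 : (b : G) ^ i = 1 := by
      refine hinv z i hbz F.setting.ext.z_sq ?_
      rw [← hi']
      calc (a : G)⁻¹ * z * a * ((a : G)⁻¹ * z * a) = (a : G)⁻¹ * (z * z) * a := by group
        _ = 1 := by rw [F.setting.ext.z_sq]; group
    rw [h1, mul_one] at hi
    exact ⟨⟨⟨a, Subgroup.mem_centralizer_singleton_iff.2 hi.symm⟩, (hmemD0 _).2 (Subtype.ext hab.eq)⟩,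
      Subtype.ext rfl⟩
  -- the representation
  choose pre hpreC hpre using fun h : D0 => exists_pre hb ((hmemD0 _).1 h.2)
  set ρ : D0 →* Matrix.SpecialLinearGroup (Fin 3) (ZMod 2) :=
    MonoidHom.mk' (fun h => ⟨mat3 ⟨pre h, hpreC h⟩, mat3_det _⟩) fun a c => Subtype.ext (by
      refine (mat3_comp ?_).symm
      rw [hpre, hpre, hpre, Subgroup.coe_mul, QuotientGroup.mk_mul, map_mul]) with hρ
  have hρval : ∀ h, (ρ h : Matrix (Fin 3) (Fin 3) (ZMod 2)) = mat3 ⟨pre h, hpreC h⟩ := fun _ => rfl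
  have hρg : ∀ (h : D0) (g : {g : Co0 // Commute g sg}),
      pj (g : Co0) = e (QuotientGroup.mk (h : Subgroup.centralizer ({z} : Set G))) →
      (ρ h : Matrix (Fin 3) (Fin 3) (ZMod 2)) = mat3 g := by
    intro h g hg
    rw [hρval]
    have := mat3_comp (g := g) (h := ⟨1, Commute.one_left _⟩) (k := ⟨pre h, hpreC h⟩)
      (by rw [map_one, mul_one, hg, hpre])
    rwa [mat3_one (g := ⟨1, Commute.one_left _⟩) (map_one _), mul_one, eq_comm] at this
  have hliftD : ∀ g : {g : Co0 // Commute g sg}, ∃ h : D0, (ρ h : Matrix (Fin 3) (Fin 3) (ZMod 2)) = mat3 g := by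
    intro g
    obtain ⟨h, hh, he⟩ := Frame7.lift F hb7 hb g.2
    exact ⟨⟨h, (hmemD0 h).2 hh⟩, hρg _ _ he.symm⟩
  have hρsurj : Function.Surjective ρ := by
    intro M
    have hM0 : (M : Matrix (Fin 3) (Fin 3) (ZMod 2)).mulVec (Pi.single 0 1) ≠ 0 := fun h0 => by
      have h1 := congrArg ((M⁻¹ : Matrix.SpecialLinearGroup (Fin 3) (ZMod 2)) :
        Matrix (Fin 3) (Fin 3) (ZMod 2)).mulVec h0
      rw [Matrix.mulVec_mulVec, Matrix.mulVec_zero, ← Matrix.SpecialLinearGroup.coe_mul, inv_mul_cancel,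
        Matrix.SpecialLinearGroup.coe_one, Matrix.one_mulVec] at h1
      exact single_ne h1
    obtain ⟨g, hg, hgb⟩ := exists_U _ hM0
    obtain ⟨h1, hh1⟩ := hliftD ⟨g, hg⟩
    have hfix : ((ρ h1)⁻¹ * M : Matrix.SpecialLinearGroup (Fin 3) (ZMod 2)).1.mulVec (Pi.single 0 1) =
        Pi.single 0 1 := by
      have h2 : (ρ h1 : Matrix (Fin 3) (Fin 3) (ZMod 2)).mulVec (Pi.single 0 1) =
          (M : Matrix (Fin 3) (Fin 3) (ZMod 2)).mulVec (Pi.single 0 1) := by
        rw [hh1, mat3_mulVec]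
        exact act3_eq (cong_trans (cong_symm (cong_smul g base_iota)) hgb)
      rw [Matrix.SpecialLinearGroup.coe_mul, ← Matrix.mulVec_mulVec, ← h2, Matrix.mulVec_mulVec,
        ← Matrix.SpecialLinearGroup.coe_mul, inv_mul_cancel, Matrix.SpecialLinearGroup.coe_one,
        Matrix.one_mulVec]
    set M' := (ρ h1)⁻¹ * M with hM'
    set p : Fin 3 → ZMod 2 := (M' : Matrix (Fin 3) (Fin 3) (ZMod 2)).mulVec (Pi.single 1 1) with hp
    set q : Fin 3 → ZMod 2 := (M' : Matrix (Fin 3) (Fin 3) (ZMod 2)).mulVec (Pi.single 2 1) with hq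
    have hdet : p 1 * q 2 + p 2 * q 1 = 1 := by
      have c0 := fun i => congrFun hfix i
      simp only [Matrix.mulVec_single, MulOpposite.op_one, one_smul, Matrix.col_apply] at c0
      simp only [hp, hq, Matrix.mulVec_single, MulOpposite.op_one, one_smul, Matrix.col_apply]
      exact det_fixed M'.2 c0
    obtain ⟨t, e', k0, k1, k2⟩ := stab_U p q hdet
    obtain ⟨h2, hh2⟩ := hliftD ⟨elt t e', elt_commute t e'⟩
    have hM2 : ρ h2 = M' := by
      refine Subtype.ext ?_
      rw [hh2]
      have hcol : ∀ j, (mat3 ⟨elt t e', elt_commute t e'⟩).mulVec (Pi.single j 1) =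
          (M' : Matrix (Fin 3) (Fin 3) (ZMod 2)).mulVec (Pi.single j 1) := by
        intro j
        rw [mat3_mulVec]
        refine act3_eq ((cong_iff (elt_fv t e' (coe_kap _)) (coe_kap _)).2 ?_)
        fin_cases j
        · simp only [Fin.zero_eta]; rw [hfix]; exact k0
        · exact k1
        · exact k2
      refine Matrix.ext fun i j => ?_
      have := congrFun (hcol j) i
      simpa [Matrix.mulVec_single] using this
    exact ⟨h1 * h2, by rw [map_mul, hM2, hM', mul_inv_cancel_left]⟩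
  have hρker : ∀ h : D0, ρ h = 1 ↔ ∃ i : ℕ, e (QuotientGroup.mk (h : Subgroup.centralizer ({z} : Set G))) = pj sg ^ i := by
    intro h
    constructor
    · intro hh
      obtain ⟨i, hi⟩ := kernel_U (hpreC h) fun a => by
        have h1 := congrArg (fun A : Matrix.SpecialLinearGroup (Fin 3) (ZMod 2) => A.1.mulVec a) hh
        simp only [hρval, mat3_mulVec, Matrix.SpecialLinearGroup.coe_one, Matrix.one_mulVec] at h1
        have := act3_spec ⟨pre h, hpreC h⟩ a
        rwa [h1] at this
      exact ⟨i, by rw [← hpre, hi]⟩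
    · rintro ⟨i, hi⟩
      refine Subtype.ext ?_
      rw [hρg h ⟨sg ^ i, (Commute.refl sg).pow_left i⟩ (by rw [hi, map_pow]), Matrix.SpecialLinearGroup.coe_one]
      refine mat_ext fun a => ?_
      rw [mat3_mulVec, Matrix.one_mulVec]
      exact act3_eq (by rw [show ((⟨sg ^ i, (Commute.refl sg).pow_left i⟩ : {g : Co0 // Commute g sg}) : Co0) = sg ^ i from rfl, pow_smul_fixed (sg_kap _)]; exact cong_refl _)
  have hρι : ι.ker ≤ ρ.ker := fun h hh => by
    obtain ⟨i, hi⟩ := (hιker h).1 hh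
    exact (hρker h).2 ⟨i, by rw [hi, QuotientGroup.mk_pow, map_pow, hb]⟩
  set ρ' : D →* Matrix.SpecialLinearGroup (Fin 3) (ZMod 2) := ι.liftOfSurjective hιsurj ⟨ρ, hρι⟩ with hρ'
  have hρ'ι : ∀ h, ρ' (ι h) = ρ h := fun h =>
    MonoidHom.liftOfRightInverse_comp_apply ι _ _ ⟨ρ, hρι⟩ h
  have hρ'surj : Function.Surjective ρ' := fun y => by
    obtain ⟨h, rfl⟩ := hρsurj y
    exact ⟨ι h, hρ'ι h⟩
  set R := ρ'.ker with hR
  -- the kernel
  set QB := Q.subgroupOf D0 with hQB
  have hmemR : ∀ h : D0, ι h ∈ R ↔ ∃ (q : D0), q ∈ QB ∧ ι q = ι h := by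
    intro h
    rw [hR, MonoidHom.mem_ker, hρ'ι, hρker]
    constructor
    · rintro ⟨i, hi⟩
      have hbi : (b ^ i)⁻¹ ∈ D0 := (hmemD0 _).2 ((Commute.refl b).pow_right i).inv_right
      refine ⟨h * ⟨_, hbi⟩, ?_, ?_⟩
      · show (h : Subgroup.centralizer ({z} : Set G)) * (b ^ i)⁻¹ ∈ Q
        rw [← QuotientGroup.eq_one_iff, ← e.map_eq_one_iff, QuotientGroup.mk_mul, map_mul, hi,
          QuotientGroup.mk_inv, map_inv, QuotientGroup.mk_pow, map_pow, hb, mul_inv_cancel]
      · rw [map_mul, mul_eq_left, hιker]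
        refine ⟨i * 6, ?_⟩
        show (b ^ i)⁻¹ = b ^ (i * 6)
        rw [inv_eq_iff_mul_eq_one, ← pow_add, show i + i * 6 = 7 * i by ring, pow_mul, hb7', one_pow]
    · rintro ⟨q, hq, hqe⟩
      obtain ⟨i, hi⟩ := (hιker (q⁻¹ * h)).1 (by rw [map_mul, map_inv, hqe, inv_mul_cancel])
      refine ⟨i, ?_⟩
      have hi' : (h : Subgroup.centralizer ({z} : Set G)) = (q : Subgroup.centralizer ({z} : Set G)) * b ^ i := by
        rw [← hi, Subgroup.coe_mul, Subgroup.coe_inv, mul_inv_cancel_left]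
      have hq' : (q : Subgroup.centralizer ({z} : Set G)) ∈ Q := hq
      rw [hi', QuotientGroup.mk_mul, (QuotientGroup.eq_one_iff _).2 hq', one_mul, QuotientGroup.mk_pow,
        map_pow, hb]
  set χ : QB →* R := (ι.comp QB.subtype).codRestrict R (fun q => (hmemR q).2 ⟨q, q.2, rfl⟩) with hχ
  have hQb : ∀ (q : Subgroup.centralizer ({z} : Set G)) (i : ℕ), q ∈ Q → q = b ^ i → q = 1 := by
    intro q i hq hqi
    obtain ⟨j, hj⟩ := F.extra.isPGroup ⟨q, hq⟩
    have hj' : q ^ 2 ^ j = 1 := congrArg Subtype.val hj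
    have h7 : q ^ 7 = 1 := by rw [hqi, ← pow_mul, mul_comm, pow_mul, hb7', one_pow]
    have hg : Nat.gcd (2 ^ j) 7 = 1 :=
      ((by norm_num : Nat.Coprime 2 7).pow_left j)
    have := pow_gcd_eq_one.2 ⟨hj', h7⟩
    rwa [hg, pow_one] at this
  have hχinj : Function.Injective χ := by
    rw [injective_iff_map_eq_one]
    intro q hq
    obtain ⟨i, hi⟩ := (hιker (q : D0)).1 (congrArg Subtype.val hq)
    exact Subtype.ext (Subtype.ext (hQb _ i q.2 hi))
  have hχsurj : Function.Surjective χ := by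
    rintro ⟨x, hx⟩
    obtain ⟨h, rfl⟩ := hιsurj x
    obtain ⟨q, hq, hqe⟩ := (hmemR h).1 hx
    exact ⟨⟨q, hq⟩, Subtype.ext hqe⟩
  set χe : QB ≃* R := MulEquiv.ofBijective χ ⟨hχinj, hχsurj⟩ with hχe
  -- classes
  set Qb : QB → Q := fun q => ⟨((q : D0) : Subgroup.centralizer ({z} : Set G)), q.2⟩ with hQbdef
  have hQcomm : ∀ q : QB, Commute b (Qb q : Subgroup.centralizer ({z} : Set G)) := fun q =>
    (hmemD0 _).1 (q : D0).2
  choose ν hν using fun q : QB => exists_kap F hb (hQcomm q)
  have hνu : ∀ (q : QB) n, Rep ψ (kap n) (Qb q) → ν q = n := by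
    intro q n hq
    have h1 : Cong (kap (ν q + n)) 0 := by
      refine cong_trans (cong_symm (kap_add _ _)) ?_
      obtain ⟨x, hx⟩ := F.psi_eq_iff.1 ((hν q).trans hq.symm)
      exact ⟨kap n + x, by rw [hx]; abel⟩
    funext i
    have := congrFun (kap_zero h1) i
    rw [Pi.add_apply, Pi.zero_apply] at this
    exact eq_of_add_zero _ _ this
  have hrep : ∀ n, ∃ q : QB, Rep ψ (kap n) (Qb q) := by
    intro n
    obtain ⟨q, hq⟩ := Frame.exists_rep (ψ := ψ) (kap n)
    exact ⟨⟨⟨q, (hmemD0 _).2 (rep_commute F hb7 hb (by rw [sg_kap]; exact cong_refl _) hq)⟩, q.2⟩, hq⟩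
  choose lq hlq using hrep
  have hzD : zC z ∈ D0 := (hmemD0 _).2 (Subtype.ext hbz)
  set zB : QB := ⟨⟨zC z, hzD⟩, F.extra.z_mem⟩ with hzB
  have hQB_cases : ∀ q : QB, q = lq (ν q) ∨ q = lq (ν q) * zB := by
    intro q
    rcases F.rep_unique (hlq (ν q)) (hν q) with r | r
    · exact Or.inl (Subtype.ext (Subtype.ext r))
    · exact Or.inr (Subtype.ext (Subtype.ext r))
  have hzB1 : zB ≠ 1 := fun h => F.setting.ext.z_ne (congrArg
    (fun q : QB => (((q : D0) : Subgroup.centralizer ({z} : Set G)) : G)) h)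
  have hνz : ∀ n, ν (lq n) = n ∧ ν (lq n * zB) = n := by
    intro n
    refine ⟨hνu _ _ (hlq n), hνu _ _ ?_⟩
    show ψ (kap n) = QuotientGroup.mk (Qb (lq n) * ⟨zC z, F.extra.z_mem⟩)
    rw [QuotientGroup.mk_mul, (QuotientGroup.eq_one_iff _).2 ((F.center_iff (c := ⟨zC z, F.extra.z_mem⟩)).2 (Or.inr rfl)), mul_one]
    exact hlq n
  have hcard : Nat.card QB = 2 ^ (2 * 3 + 1) := by
    have hbij : Function.Bijective fun x : (Fin 6 → ZMod 2) × Bool => if x.2 then lq x.1 * zB else lq x.1 := by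
      constructor
      · rintro ⟨n, i⟩ ⟨n', i'⟩ h
        have hn : n = n' := by
          have := congrArg ν h
          cases i <;> cases i' <;> simpa [hνz] using this
        subst hn
        cases i <;> cases i' <;> first | rfl | exact absurd (by simpa using h) hzB1
      · intro q
        rcases hQB_cases q with r | r
        · exact ⟨(ν q, false), by simp [← r]⟩
        · exact ⟨(ν q, true), by simp [← r]⟩
    rw [← Nat.card_eq_of_bijective _ hbij]
    simp
  have hzc : zB ∈ Subgroup.center QB :=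
    Subgroup.mem_center_iff.2 fun q => Subtype.ext (Subtype.ext (F.extra.z_comm q.2).symm)
  have hcen : ∀ a ∈ Subgroup.center QB, a = 1 ∨ a = zB := by
    intro a ha
    have h0 : ν a = 0 := by
      refine dot_nondeg _ fun j => ?_
      have hcm : (Qb a : Subgroup.centralizer ({z} : Set G)) * Qb (lq (Pi.single j 1)) =
          Qb (lq (Pi.single j 1)) * Qb a :=
        (congrArg (fun q : QB => ((q : D0) : Subgroup.centralizer ({z} : Set G)))
          (Subgroup.mem_center_iff.1 ha (lq (Pi.single j 1)))).symm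
      have := (F.comm_iff (hν a) (hlq _)).1 hcm
      rwa [coe_kap, kap_single] at this
    have h1 : Rep ψ (kap (0 : Fin 6 → ZMod 2)) (Qb a) := h0 ▸ hν a
    have h2 : Qb a ∈ Subgroup.center Q := by
      refine (QuotientGroup.eq_one_iff _).1 (h1.symm.trans ((F.iso.2.2.1 _).2 ⟨0, ?_⟩))
      simp [kap]
    rcases F.center_iff.1 h2 with r | r
    · exact Or.inl (Subtype.ext (Subtype.ext r))
    · exact Or.inr (Subtype.ext (Subtype.ext r))
  have hQBp : IsPGroup 2 QB := IsPGroup.of_card hcard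
  have hQBext : IsExtraspecial 2 QB := by
    refine ExtraspecialCrit.isExtraspecial hQBp zB hzB1 hzc (fun x y => ?_) (fun x => ?_) hcen ?_
    · rcases F.extra.conj_cases (Qb y).2 (Qb x).2 with r | r
      · left
        refine Subtype.ext (Subtype.ext ?_)
        show ⁅(Qb x : Subgroup.centralizer ({z} : Set G)), (Qb y : Subgroup.centralizer ({z} : Set G))⁆ = 1
        rw [commutatorElement_def, r, mul_inv_cancel]
      · right
        refine Subtype.ext (Subtype.ext ?_)
        show ⁅(Qb x : Subgroup.centralizer ({z} : Set G)), (Qb y : Subgroup.centralizer ({z} : Set G))⁆ = zC z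
        rw [commutatorElement_def, r, ← F.extra.z_comm (Qb y).2, mul_inv_cancel_right]
    · rcases F.extra.sq_cases (Qb x).2 with r | r
      · exact Or.inl (Subtype.ext (Subtype.ext r))
      · exact Or.inr (Subtype.ext (Subtype.ext r))
    · by_contra hall
      push Not at hall
      have hle : Nat.card QB ≤ 2 := by
        calc Nat.card QB ≤ Nat.card ({1, zB} : Set QB) := by
              refine Nat.card_le_card_of_injective
                (fun q => ⟨q, hcen q (Subgroup.mem_center_iff.2 fun y => hall y q)⟩) fun x y h => congrArg Subtype.val h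
          _ ≤ 2 := by rw [Nat.card_coe_set_eq, Set.ncard_pair hzB1.symm]
      rw [hcard] at hle
      norm_num at hle
  have hRext : IsExtraspecial 2 R := ThreeTransp.Simplicity.isExtraspecial_of_equiv χe hQBext
  have hRcard : Nat.card R = 2 ^ (2 * 3 + 1) := by rw [← Nat.card_congr χe.toEquiv, hcard]
  have hRp : IsPGroup 2 R := IsPGroup.of_card hRcard
  -- the generalised Fitting subgroup
  have hcentle : Subgroup.centralizer (R : Set D) ≤ R := by
    intro x hx
    obtain ⟨h, rfl⟩ := hιsurj x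
    rw [hR, MonoidHom.mem_ker, hρ'ι]
    refine Subtype.ext ?_
    rw [hρval, Matrix.SpecialLinearGroup.coe_one]
    refine mat_ext fun a => ?_
    rw [mat3_mulVec, Matrix.one_mulVec]
    refine act3_eq (F.psi_eq_iff.1 ((F.rep_smul (hpre h) (hlq (iota a))).trans ?_))
    rw [hlq (iota a)]
    refine congrArg _ (Subtype.ext ?_)
    have hc := Subgroup.mem_centralizer_iff.1 hx (ι (lq (iota a) : D0)) (χ (lq (iota a))).2
    rw [← map_mul, ← map_mul, ← inv_mul_eq_one, ← map_inv, ← map_mul, hιker] at hc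
    obtain ⟨i, hi⟩ := hc
    show (h : Subgroup.centralizer ({z} : Set G)) * Qb (lq (iota a)) * (h : Subgroup.centralizer ({z} : Set G))⁻¹ = Qb (lq (iota a))
    set q := (Qb (lq (iota a)) : Subgroup.centralizer ({z} : Set G)) with hq
    have hi' : ((q * (h : Subgroup.centralizer ({z} : Set G))))⁻¹ * ((h : Subgroup.centralizer ({z} : Set G)) * q) = b ^ i := hi
    have h1 : b ^ i = 1 := by
      refine hQb _ i ?_ rfl
      rw [← hi', mul_inv_rev]
      have := mul_mem ((inferInstance : Q.Normal).conj_mem' _ (inv_mem (Qb (lq (iota a))).2)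
        (h : Subgroup.centralizer ({z} : Set G))) (Qb (lq (iota a))).2
      simpa [mul_assoc] using this
    rw [h1, inv_mul_eq_one] at hi'
    rw [← hi', mul_inv_cancel_right]
  have hFit : generalizedFittingSubgroup D = R := by
    refine le_antisymm (Components.generalizedFitting_le_of_centralizer_le R ?_ hcentle) ?_
    · have : ((fittingSubgroup D).map ρ').Normal :=
        Subgroup.Normal.map (f := ρ') (H := fittingSubgroup D) inferInstance hρ'surj
      have : Group.IsNilpotent ↥((fittingSubgroup D).map ρ') :=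
        Group.nilpotent_of_surjective _ (MonoidHom.subgroupMap_surjective ρ' _)
      exact (Subgroup.map_eq_bot_iff _).1 (nilpotent_normal_SL _)
    · have : Group.IsNilpotent R := hRp.isNilpotent
      exact (Solvable.Cores.le_fittingSubgroup inferInstance).trans
        Components.fittingSubgroup_le_generalizedFittingSubgroup
  -- the conjugates of `z`
  have hconjQ : ∀ q : QB, IsConj zb (ι (q : D0) : GB ⧸ N0) ↔ q = zB ∨ kn (ν q) ∈ uCls ∨ kn (ν q) ∈ vCls := by
    intro q
    constructor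
    · intro hc
      obtain ⟨c, hc⟩ := isConj_iff.1 hc
      obtain ⟨a, rfl⟩ := QuotientGroup.mk'_surjective N0 c
      rw [hzb, ← map_inv, ← map_mul, ← map_mul] at hc
      obtain ⟨i, hi⟩ := (hπeq _ _).1 hc.symm
      simp only [Subgroup.coe_mul, Subgroup.coe_inv] at hi
      set qG : G := (((q : D0) : Subgroup.centralizer ({z} : Set G)) : G) with hqG
      have hab : Commute (b : G) (a : G) := (hmemGB _).1 a.2
      have hqq : qG * qG = 1 := by
        have h2 : ∀ x : G, x * x = 1 → ∀ k, Commute x ((b : G) ^ k) → (x * (b : G) ^ k) ^ 2 = (b : G) ^ (2 * k) := by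
          intro x hx k hk
          rw [hk.mul_pow, pow_two x, hx, one_mul, ← pow_mul, mul_comm]
        rcases F.extra.sq_cases (Qb q).2 with r | r
        · exact congrArg Subtype.val r
        · exfalso
          have hqb : Commute qG (b : G) := (congrArg Subtype.val (hQcomm q).eq : (b : G) * qG = qG * b).symm
          have e1 : ((a : G) * z * (a : G)⁻¹) ^ 2 = 1 := by
            rw [conj_pow, pow_two, F.setting.ext.z_sq, mul_one, mul_inv_cancel]
          rw [hi, (hqb.pow_right i).mul_pow, pow_two qG, show qG * qG = z from congrArg Subtype.val r,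
            ← pow_mul] at e1
          have e2 : zC z = b ^ (i * 2 * 6) := by
            refine Subtype.ext ?_
            show z = (b : G) ^ (i * 2 * 6)
            refine (eq_inv_of_mul_eq_one_left e1).trans ?_
            rw [inv_eq_iff_mul_eq_one, ← pow_add,
              show i * 2 + i * 2 * 6 = 7 * (i * 2) by ring, pow_mul, ← hb7, pow_orderOf_eq_one, one_pow]
          exact F.setting.ext.z_ne (congrArg Subtype.val (hQb _ _ F.extra.z_mem e2))
      have h1 : (b : G) ^ i = 1 := by
        refine hinv qG i (congrArg Subtype.val (hQcomm q).eq) hqq ?_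
        rw [← hi]
        calc (a : G) * z * (a : G)⁻¹ * ((a : G) * z * (a : G)⁻¹) = (a : G) * (z * z) * (a : G)⁻¹ := by group
          _ = 1 := by rw [F.setting.ext.z_sq]; group
      rw [h1, mul_one] at hi
      by_cases hne : qG = z
      · exact Or.inl (Subtype.ext (Subtype.ext (Subtype.ext hne)))
      · exact Or.inr ((cl_kap F (hν q)).1 ((F.conj_iff (Qb q)).1 ⟨isConj_iff.2 ⟨a, hi⟩, hne⟩))
    · rintro (rfl | h)
      · exact IsConj.refl zb
      · obtain ⟨g, hgb, hg⟩ := conj_in F hb7 (hQcomm q) ((cl_kap F (hν q)).2 h)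
        refine isConj_iff.2 ⟨π ⟨g, (hmemGB g).2 hgb⟩, ?_⟩
        rw [hzb, ← map_inv, ← map_mul, ← map_mul]
        exact congrArg π (Subtype.ext hg)
  have hcount : Set.ncard {x : D | x ∈ R ∧ IsConj zb (x : GB ⧸ N0)} = 29 := by
    set T : Finset (Fin 6 → ZMod 2) := Finset.univ.filter fun n => kn n ∈ uCls ∨ kn n ∈ vCls with hT
    have hT14 : T.card = 14 := card_cls
    have hmemT : ∀ n, n ∈ T ↔ kn n ∈ uCls ∨ kn n ∈ vCls := fun n => by simp [hT]
    have hzT : zB ∉ T.image lq ∪ T.image fun n => lq n * zB := by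
      intro h
      have : ν zB = 0 := hνu _ _ (by
        show ψ (kap 0) = QuotientGroup.mk (⟨zC z, F.extra.z_mem⟩ : Q)
        rw [(QuotientGroup.eq_one_iff _).2 (F.center_iff.2 (Or.inr rfl)), (F.iso.2.2.1 _).2 ⟨0, by simp [kap]⟩])
      simp only [Finset.mem_union, Finset.mem_image] at h
      have h0 : (0 : Fin 6 → ZMod 2) ∈ T := by
        rcases h with ⟨n, hn, e'⟩ | ⟨n, hn, e'⟩ <;> rw [← e'] at this <;>
          simp only [hνz] at this <;> exact this ▸ hn
      exact kn_zero ((hmemT 0).1 h0)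
    set S : Finset QB := insert zB (T.image lq ∪ T.image fun n => lq n * zB) with hS
    have hScard : S.card = 29 := by
      rw [hS, Finset.card_insert_of_notMem hzT, Finset.card_union_of_disjoint, Finset.card_image_of_injective,
        Finset.card_image_of_injective, hT14]
      · intro n n' h
        have := congrArg ν h
        simpa [hνz] using this
      · intro n n' h
        have := congrArg ν h
        simpa [hνz] using this
      · rw [Finset.disjoint_left]
        intro q h1 h2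
        obtain ⟨n, -, rfl⟩ := Finset.mem_image.1 h1
        obtain ⟨n', -, e'⟩ := Finset.mem_image.1 h2
        have hnn := congrArg ν e'
        simp only [hνz] at hnn
        subst hnn
        exact hzB1 (mul_eq_left.1 e')
    have hmemS : ∀ q, q ∈ S ↔ q = zB ∨ kn (ν q) ∈ uCls ∨ kn (ν q) ∈ vCls := by
      intro q
      rw [hS, Finset.mem_insert]
      refine or_congr_right ?_
      rw [← hmemT, Finset.mem_union, Finset.mem_image, Finset.mem_image]
      constructor
      · rintro (⟨n, hn, rfl⟩ | ⟨n, hn, rfl⟩) <;> simpa [hνz] using hn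
      · intro h
        rcases hQB_cases q with r | r
        · exact Or.inl ⟨_, h, r.symm⟩
        · exact Or.inr ⟨_, h, r.symm⟩
    have he : {x : D | x ∈ R ∧ IsConj zb (x : GB ⧸ N0)} = (fun q : QB => ι (q : D0)) '' (S : Set QB) := by
      ext x
      constructor
      · rintro ⟨hx, hc⟩
        obtain ⟨q, hq⟩ := hχsurj ⟨x, hx⟩
        have hq' : ι (q : D0) = x := congrArg Subtype.val hq
        exact ⟨q, (hmemS q).2 ((hconjQ q).1 (hq'.symm ▸ hc)), hq'⟩
      · rintro ⟨q, hq, rfl⟩
        exact ⟨(χ q).2, (hconjQ q).2 ((hmemS q).1 hq)⟩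
    rw [he, Set.ncard_image_of_injective (f := fun q : QB => ι (q : D0)) _ (fun q q' h => hχinj (Subtype.ext h)), Set.ncard_coe_finset, hScard]
  -- non-weak closure
  have hz2 : orderOf zb = 2 := by
    refine orderOf_eq_prime ?_ fun h => ?_
    · rw [hzb, pow_two, ← map_mul, hker]
      show z * z ∈ _
      rw [F.setting.ext.z_sq]
      exact one_mem _
    · rw [hzb, hker, ← mem_powers_iff_mem_zpowers] at h
      obtain ⟨i, hi⟩ := h
      exact F.setting.ext.z_ne (congrArg Subtype.val (hQb (zC z) i F.extra.z_mem (Subtype.ext hi.symm)))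
  refine ⟨zb, R, inferInstance, ⟨hz2, hFit, hRext, hRcard, ?_⟩,
    ⟨QuotientGroup.quotientKerEquivOfSurjective ρ' hρ'surj⟩, hcount⟩
  have h32 : kn (kof 32) ∈ uCls := by decide +kernel
  obtain ⟨g, hgb, hg⟩ := conj_in F hb7 (hQcomm (lq (kof 32))) ((cl_kap F (hlq _)).2 (Or.inl h32))
  refine ⟨π ⟨g, (hmemGB g).2 hgb⟩, ?_, ?_⟩
  · have he : π ⟨g, (hmemGB g).2 hgb⟩ * zb * (π ⟨g, (hmemGB g).2 hgb⟩)⁻¹ = (ι (lq (kof 32) : D0) : GB ⧸ N0) := by
      rw [hzb, ← map_inv, ← map_mul, ← map_mul]
      exact congrArg π (Subtype.ext hg)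
    refine ⟨he ▸ SetLike.coe_mem _, ?_⟩
    rw [show (⟨_, _⟩ : D) = ι (lq (kof 32) : D0) from Subtype.ext he]
    exact (χ _).2
  · intro hcon
    rw [hzb, ← map_inv, ← map_mul, ← map_mul] at hcon
    have hne := ((F.conj_iff _).2 ((cl_kap F (hlq (kof 32))).2 (Or.inl h32))).2
    obtain ⟨i, hi⟩ := (hπeq _ _).1 hcon.symm
    simp only [Subgroup.coe_mul, Subgroup.coe_inv, hg] at hi
    have h1 : (b : G) ^ i = 1 := by
      refine hinv z i hbz F.setting.ext.z_sq ?_
      rw [← hi, ← hg]
      calc g * z * g⁻¹ * (g * z * g⁻¹) = g * (z * z) * g⁻¹ := by group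
        _ = 1 := by rw [F.setting.ext.z_sq]; group
    rw [h1, mul_one] at hi
    exact hne hi

end CfsgLib.Sporadic.MonsterFusion.Held
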