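import Cfsg.Agent.Lib.Sporadic.MonsterFusion.THLift
import Cfsg.Agent.Lib.Sporadic.MonsterFusion.HeldType

/-!
The centraliser of a non-central subgroup of order three of the joint centraliser, modulo that subgroup,
is of Thompson type.
-/

set_option autoImplicit false

namespace CfsgLib.Sporadic.MonsterFusion.TH

open Cfsg CfsgLib.SmallGroups CfsgLib.ThreeTransp.Extraspecial Frame3
open Held (cong_symm cong_trans eq_of_add_zero)
open scoped commutatorElement

theorem simple_nine : IsSimpleGroup (alternatingGroup (Fin 9)) :=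
  alternatingGroup.isSimpleGroup (by simp)

/-- A normal nilpotent subgroup of the alternating group is trivial. -/
theorem nilpotent_normal_nine (N : Subgroup (alternatingGroup (Fin 9))) [N.Normal] [Group.IsNilpotent N] :
    N = ⊥ := by
  have := simple_nine
  refine (Subgroup.Normal.eq_bot_or_eq_top inferInstance).resolve_right fun h => ?_
  subst h
  have : Group.IsNilpotent (alternatingGroup (Fin 9)) := Group.nilpotent_of_mulEquiv Subgroup.topEquiv
  have hcomm := IsSimpleGroup.comm_iff_isSolvable.2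
    (inferInstance : Group.IsSolvable (alternatingGroup (Fin 9)))
  have h2 := congrArg (fun x : alternatingGroup (Fin 9) => (x : Equiv.Perm (Fin 9)) 0)
    (hcomm ⟨Equiv.swap 0 1 * Equiv.swap 0 2, Equiv.Perm.mem_alternatingGroup.2 (by decide +kernel)⟩
      ⟨Equiv.swap 0 3 * Equiv.swap 0 4, Equiv.Perm.mem_alternatingGroup.2 (by decide +kernel)⟩)
  revert h2
  decide +kernel

variable {G : Type*} [Group G] [Finite G] {z : G} {Q : Subgroup (Subgroup.centralizer ({z} : Set G))}
  [Q.Normal] {e : (Subgroup.centralizer ({z} : Set G)) ⧸ Q ≃* Spor.Co1}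
  {ψ : leechLattice → Q ⧸ Subgroup.center Q}

/-- The vectors of squared length 64 among the fixed classes. -/
theorem cl_kap (F : Frame Q e ψ) {n : Fin 8 → ZMod 2} {q : Q} (hq : Rep ψ (kap n) q) :
    Cl ψ 64 q ↔ maskT.testBit (kn n) = true := by
  constructor
  · rintro ⟨v, hv, hr⟩
    exact cl64 hv (F.psi_eq_iff.1 (hr.trans hq.symm))
  · intro h
    exact ⟨gW (wk (kn n)) • LeechOrder.base8, norm_gW_base _, (F.psi_eq_iff.2 (gW_base h)).trans hq⟩

set_option maxHeartbeats 2000000 in
theorem main_th (F : Frame Q e ψ) (b : Subgroup.centralizer ({z} : Set G))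
    (hb3 : orderOf (b : G) = 3) (hb : e (QuotientGroup.mk b) = pj sg)
    [hn : ((Subgroup.zpowers (b : G)).subgroupOf
      (Subgroup.centralizer (Subgroup.zpowers (b : G) : Set G))).Normal] :
    IsOfThompsonType (↥(Subgroup.centralizer (Subgroup.zpowers (b : G) : Set G)) ⧸
      (Subgroup.zpowers (b : G)).subgroupOf (Subgroup.centralizer (Subgroup.zpowers (b : G) : Set G))) := by
  classical
  have : Fact (Nat.Prime 2) := ⟨Nat.prime_two⟩
  have : Fact (Nat.Prime 3) := ⟨by norm_num⟩
  have hb3' : b ^ 3 = 1 := b_pow hb3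
  -- the ambient centraliser and the quotient map
  set GB := Subgroup.centralizer (Subgroup.zpowers (b : G) : Set G) with hGB
  have hmemGB : ∀ g : G, g ∈ GB ↔ Commute (b : G) g := fun g => by
    rw [hGB, Subgroup.zpowers_eq_closure, Subgroup.centralizer_closure,
      Subgroup.mem_centralizer_singleton_iff]
    exact ⟨Eq.symm, fun h => h.eq.symm⟩
  set N0 := (Subgroup.zpowers (b : G)).subgroupOf GB with hN0
  set π := QuotientGroup.mk' N0 with hπ
  have hker : ∀ x : GB, π x = 1 ↔ (x : G) ∈ Subgroup.zpowers (b : G) := fun x => by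
    rw [hπ, QuotientGroup.mk'_apply, QuotientGroup.eq_one_iff, hN0, Subgroup.mem_subgroupOf]
  have hπeq : ∀ x y : GB, π x = π y ↔ ∃ i : ℕ, (y : G) = (x : G) * (b : G) ^ i := fun x y => by
    rw [← inv_mul_eq_one, ← map_inv, ← map_mul, hker, ← mem_powers_iff_mem_zpowers, Submonoid.mem_powers_iff]
    simp only [Subgroup.coe_mul, Subgroup.coe_inv, eq_inv_mul_iff_mul_eq]
    exact exists_congr fun i => eq_comm
  have hbz : (b : G) * z = z * b := Subgroup.mem_centralizer_singleton_iff.1 b.2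
  have hzGB : z ∈ GB := (hmemGB z).2 hbz
  set zb := π ⟨z, hzGB⟩ with hzb
  -- an involution times a power of `b`
  have hinv : ∀ (u : G) (i : ℕ), Commute (b : G) u → u * u = 1 → (u * (b : G) ^ i) * (u * (b : G) ^ i) = 1 →
      (b : G) ^ i = 1 := by
    intro u i hu hu2 h
    rw [mul_assoc, ← mul_assoc ((b : G) ^ i), (hu.pow_left i).eq, mul_assoc u, ← mul_assoc, hu2, one_mul,
      ← pow_add] at h
    have h1 := orderOf_dvd_of_pow_eq_one h
    rw [hb3] at h1
    refine orderOf_dvd_iff_pow_eq_one.1 ?_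
    rw [hb3]
    omega
  -- the centraliser of `z` and `b`
  set D0 := Subgroup.centralizer ({b} : Set (Subgroup.centralizer ({z} : Set G))) with hD0
  have hmemD0 : ∀ h, h ∈ D0 ↔ Commute b h := fun h => by
    rw [hD0, Subgroup.mem_centralizer_singleton_iff]
    exact ⟨Eq.symm, fun h => h.eq.symm⟩
  set D := Subgroup.centralizer ({zb} : Set (GB ⧸ N0)) with hD
  have hDGB : ∀ h : D0, ((h : Subgroup.centralizer ({z} : Set G)) : G) ∈ GB := fun h =>
    (hmemGB _).2 (congrArg Subtype.val ((hmemD0 _).1 h.2).eq)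
  set ι : D0 →* D := MonoidHom.mk' (fun h => ⟨π ⟨((h : Subgroup.centralizer ({z} : Set G)) : G), hDGB h⟩,
      Subgroup.mem_centralizer_singleton_iff.2 (by
        rw [hzb, ← map_mul, ← map_mul]
        exact congrArg π (Subtype.ext
          (Subgroup.mem_centralizer_singleton_iff.1 (h : Subgroup.centralizer ({z} : Set G)).2)))⟩)
    fun a c => Subtype.ext (by simp only [Subgroup.coe_mul, ← map_mul]; rfl) with hι
  have hιker : ∀ h : D0, ι h = 1 ↔ ∃ i : ℕ, (h : Subgroup.centralizer ({z} : Set G)) = b ^ i := fun h => by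
    rw [Subtype.ext_iff, hι, MonoidHom.mk'_apply, Subgroup.coe_one, ← map_one π, eq_comm, hπeq]
    refine exists_congr fun i => ?_
    rw [Subtype.ext_iff, Subgroup.coe_one, one_mul, Subgroup.coe_pow]
  have hιsurj : Function.Surjective ι := by
    rintro ⟨x, hx⟩
    obtain ⟨a, rfl⟩ := QuotientGroup.mk'_surjective N0 x
    have hx' := Subgroup.mem_centralizer_singleton_iff.1 hx
    rw [hzb, ← map_mul, ← map_mul, hπeq] at hx'
    obtain ⟨i, hi⟩ := hx'
    simp only [Subgroup.coe_mul] at hi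
    have hab : Commute (b : G) (a : G) := (hmemGB _).1 a.2
    have hi' : (a : G)⁻¹ * z * a = z * (b : G) ^ i := by
      rw [mul_assoc, hi, mul_assoc (a : G) z, inv_mul_cancel_left]
    have h1 : (b : G) ^ i = 1 := by
      refine hinv z i hbz F.setting.ext.z_sq ?_
      rw [← hi']
      calc (a : G)⁻¹ * z * a * ((a : G)⁻¹ * z * a) = (a : G)⁻¹ * (z * z) * a := by group
        _ = 1 := by rw [F.setting.ext.z_sq]; group
    rw [h1, mul_one] at hi
    exact ⟨⟨⟨a, Subgroup.mem_centralizer_singleton_iff.2 hi.symm⟩, (hmemD0 _).2 (Subtype.ext hab.eq)⟩,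
      Subtype.ext rfl⟩
  -- the representation
  choose pre hpreC hpre using fun h : D0 => exists_pre hb ((hmemD0 _).1 h.2)
  choose pm hpmW hpm using fun h : D0 => exists_moves (hpreC h)
  have hpmg : ∀ (h : D0) (g : Co0) (p : Equiv.Perm (Fin 9)),
      pj g = e (QuotientGroup.mk (h : Subgroup.centralizer ({z} : Set G))) → Moves g p → pm h = p :=
    fun h g p hg hp => moves_unique (hpm h) (moves_pj hp (by rw [hg, hpre]))
  set ρ : D0 →* alternatingGroup (Fin 9) :=
    MonoidHom.mk' (fun h => ⟨pm h, hpmW h⟩) fun a c => Subtype.ext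
      (hpmg (a * c) (pre a * pre c) _ (by
        rw [map_mul, hpre, hpre, Subgroup.coe_mul, QuotientGroup.mk_mul, map_mul])
        (moves_mul (hpm a) (hpm c))) with hρ
  have hρsurj : Function.Surjective ρ := by
    rintro ⟨p, hp⟩
    obtain ⟨g, hg, hgp⟩ := moves_surj hp
    obtain ⟨h, hh, he⟩ := Frame3.lift F hb3 hb hg
    exact ⟨⟨h, (hmemD0 h).2 hh⟩, Subtype.ext (hpmg ⟨h, (hmemD0 h).2 hh⟩ g p he.symm hgp)⟩
  have hρker : ∀ h : D0, ρ h = 1 ↔ ∃ i : ℕ, e (QuotientGroup.mk (h : Subgroup.centralizer ({z} : Set G))) = pj sg ^ i := by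
    intro h
    constructor
    · intro hh
      have h1 : pm h = 1 := congrArg Subtype.val hh
      obtain ⟨i, hi⟩ := kernel (hpreC h) (h1 ▸ hpm h)
      exact ⟨i, by rw [← hpre, hi]⟩
    · rintro ⟨i, hi⟩
      exact Subtype.ext (hpmg h (sg ^ i) 1 (by rw [hi, map_pow]) (moves_sg i))
  have hρι : ι.ker ≤ ρ.ker := fun h hh => by
    obtain ⟨i, hi⟩ := (hιker h).1 hh
    exact (hρker h).2 ⟨i, by rw [hi, QuotientGroup.mk_pow, map_pow, hb]⟩
  set ρ' : D →* alternatingGroup (Fin 9) := ι.liftOfSurjective hιsurj ⟨ρ, hρι⟩ with hρ'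
  have hρ'ι : ∀ h, ρ' (ι h) = ρ h := fun h =>
    MonoidHom.liftOfRightInverse_comp_apply ι _ _ ⟨ρ, hρι⟩ h
  have hρ'surj : Function.Surjective ρ' := fun y => by
    obtain ⟨h, rfl⟩ := hρsurj y
    exact ⟨ι h, hρ'ι h⟩
  set R := ρ'.ker with hR
  -- the kernel
  set QB := Q.subgroupOf D0 with hQB
  have hmemR : ∀ h : D0, ι h ∈ R ↔ ∃ (q : D0), q ∈ QB ∧ ι q = ι h := by
    intro h
    rw [hR, MonoidHom.mem_ker, hρ'ι, hρker]
    constructor
    · rintro ⟨i, hi⟩
      have hbi : (b ^ i)⁻¹ ∈ D0 := (hmemD0 _).2 ((Commute.refl b).pow_right i).inv_right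
      refine ⟨h * ⟨_, hbi⟩, ?_, ?_⟩
      · show (h : Subgroup.centralizer ({z} : Set G)) * (b ^ i)⁻¹ ∈ Q
        rw [← QuotientGroup.eq_one_iff, ← e.map_eq_one_iff, QuotientGroup.mk_mul, map_mul, hi,
          QuotientGroup.mk_inv, map_inv, QuotientGroup.mk_pow, map_pow, hb, mul_inv_cancel]
      · rw [map_mul, mul_eq_left, hιker]
        refine ⟨i * 2, ?_⟩
        show (b ^ i)⁻¹ = b ^ (i * 2)
        rw [inv_eq_iff_mul_eq_one, ← pow_add, show i + i * 2 = 3 * i by ring, pow_mul, hb3', one_pow]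
    · rintro ⟨q, hq, hqe⟩
      obtain ⟨i, hi⟩ := (hιker (q⁻¹ * h)).1 (by rw [map_mul, map_inv, hqe, inv_mul_cancel])
      refine ⟨i, ?_⟩
      have hi' : (h : Subgroup.centralizer ({z} : Set G)) = (q : Subgroup.centralizer ({z} : Set G)) * b ^ i := by
        rw [← hi, Subgroup.coe_mul, Subgroup.coe_inv, mul_inv_cancel_left]
      have hq' : (q : Subgroup.centralizer ({z} : Set G)) ∈ Q := hq
      rw [hi', QuotientGroup.mk_mul, (QuotientGroup.eq_one_iff _).2 hq', one_mul, QuotientGroup.mk_pow,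
        map_pow, hb]
  set χ : QB →* R := (ι.comp QB.subtype).codRestrict R (fun q => (hmemR q).2 ⟨q, q.2, rfl⟩) with hχ
  have hQb : ∀ (q : Subgroup.centralizer ({z} : Set G)) (i : ℕ), q ∈ Q → q = b ^ i → q = 1 := by
    intro q i hq hqi
    obtain ⟨j, hj⟩ := F.extra.isPGroup ⟨q, hq⟩
    have hj' : q ^ 2 ^ j = 1 := congrArg Subtype.val hj
    have h3 : q ^ 3 = 1 := by rw [hqi, ← pow_mul, mul_comm, pow_mul, hb3', one_pow]
    have hg : Nat.gcd (2 ^ j) 3 = 1 :=
      ((by norm_num : Nat.Coprime 2 3).pow_left j)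
    have := pow_gcd_eq_one.2 ⟨hj', h3⟩
    rwa [hg, pow_one] at this
  have hχinj : Function.Injective χ := by
    rw [injective_iff_map_eq_one]
    intro q hq
    obtain ⟨i, hi⟩ := (hιker (q : D0)).1 (congrArg Subtype.val hq)
    exact Subtype.ext (Subtype.ext (hQb _ i q.2 hi))
  have hχsurj : Function.Surjective χ := by
    rintro ⟨x, hx⟩
    obtain ⟨h, rfl⟩ := hιsurj x
    obtain ⟨q, hq, hqe⟩ := (hmemR h).1 hx
    exact ⟨⟨q, hq⟩, Subtype.ext hqe⟩
  set χe : QB ≃* R := MulEquiv.ofBijective χ ⟨hχinj, hχsurj⟩ with hχe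
  -- classes
  set Qb : QB → Q := fun q => ⟨((q : D0) : Subgroup.centralizer ({z} : Set G)), q.2⟩ with hQbdef
  have hQcomm : ∀ q : QB, Commute b (Qb q : Subgroup.centralizer ({z} : Set G)) := fun q =>
    (hmemD0 _).1 (q : D0).2
  choose ν hν using fun q : QB => exists_kap F hb (hQcomm q)
  have hνu : ∀ (q : QB) n, Rep ψ (kap n) (Qb q) → ν q = n := by
    intro q n hq
    have h1 : Cong (kap (ν q + n)) 0 := by
      refine cong_trans (cong_symm (kap_add _ _)) ?_
      obtain ⟨x, hx⟩ := F.psi_eq_iff.1 ((hν q).trans hq.symm)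
      exact ⟨kap n + x, by rw [hx]; abel⟩
    funext i
    have := congrFun (kap_zero h1) i
    rw [Pi.add_apply, Pi.zero_apply] at this
    exact eq_of_add_zero _ _ this
  have hrep : ∀ n, ∃ q : QB, Rep ψ (kap n) (Qb q) := by
    intro n
    obtain ⟨q, hq⟩ := Frame.exists_rep (ψ := ψ) (kap n)
    exact ⟨⟨⟨q, (hmemD0 _).2 (rep_commute F hb3 hb (by rw [sg_kap]; exact cong_refl _) hq)⟩, q.2⟩, hq⟩
  choose lq hlq using hrep
  have hzD : zC z ∈ D0 := (hmemD0 _).2 (Subtype.ext hbz)
  set zB : QB := ⟨⟨zC z, hzD⟩, F.extra.z_mem⟩ with hzB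
  have hQB_cases : ∀ q : QB, q = lq (ν q) ∨ q = lq (ν q) * zB := by
    intro q
    rcases F.rep_unique (hlq (ν q)) (hν q) with r | r
    · exact Or.inl (Subtype.ext (Subtype.ext r))
    · exact Or.inr (Subtype.ext (Subtype.ext r))
  have hzB1 : zB ≠ 1 := fun h => F.setting.ext.z_ne (congrArg
    (fun q : QB => (((q : D0) : Subgroup.centralizer ({z} : Set G)) : G)) h)
  have hνz : ∀ n, ν (lq n) = n ∧ ν (lq n * zB) = n := by
    intro n
    refine ⟨hνu _ _ (hlq n), hνu _ _ ?_⟩
    show ψ (kap n) = QuotientGroup.mk (Qb (lq n) * ⟨zC z, F.extra.z_mem⟩)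
    rw [QuotientGroup.mk_mul, (QuotientGroup.eq_one_iff _).2 ((F.center_iff (c := ⟨zC z, F.extra.z_mem⟩)).2 (Or.inr rfl)), mul_one]
    exact hlq n
  have hcard : Nat.card QB = 2 ^ (2 * 4 + 1) := by
    have hbij : Function.Bijective fun x : (Fin 8 → ZMod 2) × Bool => if x.2 then lq x.1 * zB else lq x.1 := by
      constructor
      · rintro ⟨n, i⟩ ⟨n', i'⟩ h
        have hn : n = n' := by
          have := congrArg ν h
          cases i <;> cases i' <;> simpa [hνz] using this
        subst hn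
        cases i <;> cases i' <;> first | rfl | exact absurd (by simpa using h) hzB1
      · intro q
        rcases hQB_cases q with r | r
        · exact ⟨(ν q, false), by simp [← r]⟩
        · exact ⟨(ν q, true), by simp [← r]⟩
    rw [← Nat.card_eq_of_bijective _ hbij]
    simp
  have hzc : zB ∈ Subgroup.center QB :=
    Subgroup.mem_center_iff.2 fun q => Subtype.ext (Subtype.ext (F.extra.z_comm q.2).symm)
  have hcen : ∀ a ∈ Subgroup.center QB, a = 1 ∨ a = zB := by
    intro a ha
    have h0 : ν a = 0 := by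
      refine dot_nondeg _ fun j => ?_
      have hcm : (Qb a : Subgroup.centralizer ({z} : Set G)) * Qb (lq (Pi.single j 1)) =
          Qb (lq (Pi.single j 1)) * Qb a :=
        (congrArg (fun q : QB => ((q : D0) : Subgroup.centralizer ({z} : Set G)))
          (Subgroup.mem_center_iff.1 ha (lq (Pi.single j 1)))).symm
      have := (F.comm_iff (hν a) (hlq _)).1 hcm
      rwa [coe_kap, kap_single] at this
    have h1 : Rep ψ (kap (0 : Fin 8 → ZMod 2)) (Qb a) := h0 ▸ hν a
    have h2 : Qb a ∈ Subgroup.center Q := by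
      refine (QuotientGroup.eq_one_iff _).1 (h1.symm.trans ((F.iso.2.2.1 _).2 ⟨0, ?_⟩))
      simp [kap]
    rcases F.center_iff.1 h2 with r | r
    · exact Or.inl (Subtype.ext (Subtype.ext r))
    · exact Or.inr (Subtype.ext (Subtype.ext r))
  have hQBp : IsPGroup 2 QB := IsPGroup.of_card hcard
  have hQBext : IsExtraspecial 2 QB := by
    refine ExtraspecialCrit.isExtraspecial hQBp zB hzB1 hzc (fun x y => ?_) (fun x => ?_) hcen ?_
    · rcases F.extra.conj_cases (Qb y).2 (Qb x).2 with r | r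
      · left
        refine Subtype.ext (Subtype.ext ?_)
        show ⁅(Qb x : Subgroup.centralizer ({z} : Set G)), (Qb y : Subgroup.centralizer ({z} : Set G))⁆ = 1
        rw [commutatorElement_def, r, mul_inv_cancel]
      · right
        refine Subtype.ext (Subtype.ext ?_)
        show ⁅(Qb x : Subgroup.centralizer ({z} : Set G)), (Qb y : Subgroup.centralizer ({z} : Set G))⁆ = zC z
        rw [commutatorElement_def, r, ← F.extra.z_comm (Qb y).2, mul_inv_cancel_right]
    · rcases F.extra.sq_cases (Qb x).2 with r | r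
      · exact Or.inl (Subtype.ext (Subtype.ext r))
      · exact Or.inr (Subtype.ext (Subtype.ext r))
    · by_contra hall
      push Not at hall
      have hle : Nat.card QB ≤ 2 := by
        calc Nat.card QB ≤ Nat.card ({1, zB} : Set QB) := by
              refine Nat.card_le_card_of_injective
                (fun q => ⟨q, hcen q (Subgroup.mem_center_iff.2 fun y => hall y q)⟩) fun x y h => congrArg Subtype.val h
          _ ≤ 2 := by rw [Nat.card_coe_set_eq, Set.ncard_pair hzB1.symm]
      rw [hcard] at hle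
      norm_num at hle
  have hRext : IsExtraspecial 2 R := ThreeTransp.Simplicity.isExtraspecial_of_equiv χe hQBext
  have hRcard : Nat.card R = 2 ^ (2 * 4 + 1) := by rw [← Nat.card_congr χe.toEquiv, hcard]
  have hRp : IsPGroup 2 R := IsPGroup.of_card hRcard
  -- the generalised Fitting subgroup
  have hcentle : Subgroup.centralizer (R : Set D) ≤ R := by
    intro x hx
    obtain ⟨h, rfl⟩ := hιsurj x
    rw [hR, MonoidHom.mem_ker, hρ'ι]
    refine Subtype.ext (hpmg h (pre h) 1 (hpre h) fun x0 n hn => ⟨n, hn, ?_⟩)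
    refine F.psi_eq_iff.1 ((F.rep_smul (hpre h) (hlq n)).trans ?_)
    rw [hlq n]
    refine congrArg _ (Subtype.ext ?_)
    have hc := Subgroup.mem_centralizer_iff.1 hx (ι (lq n : D0)) (χ (lq n)).2
    rw [← map_mul, ← map_mul, ← inv_mul_eq_one, ← map_inv, ← map_mul, hιker] at hc
    obtain ⟨i, hi⟩ := hc
    show (h : Subgroup.centralizer ({z} : Set G)) * Qb (lq n) * (h : Subgroup.centralizer ({z} : Set G))⁻¹ = Qb (lq n)
    set q := (Qb (lq n) : Subgroup.centralizer ({z} : Set G)) with hq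
    have hi' : ((q * (h : Subgroup.centralizer ({z} : Set G))))⁻¹ * ((h : Subgroup.centralizer ({z} : Set G)) * q) = b ^ i := hi
    have h1 : b ^ i = 1 := by
      refine hQb _ i ?_ rfl
      rw [← hi', mul_inv_rev]
      have := mul_mem ((inferInstance : Q.Normal).conj_mem' _ (inv_mem (Qb (lq n)).2)
        (h : Subgroup.centralizer ({z} : Set G))) (Qb (lq n)).2
      simpa [mul_assoc] using this
    rw [h1, inv_mul_eq_one] at hi'
    rw [← hi', mul_inv_cancel_right]
  have hFit : generalizedFittingSubgroup D = R := by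
    refine le_antisymm (Components.generalizedFitting_le_of_centralizer_le R ?_ hcentle) ?_
    · have : ((fittingSubgroup D).map ρ').Normal :=
        Subgroup.Normal.map (f := ρ') (H := fittingSubgroup D) inferInstance hρ'surj
      have : Group.IsNilpotent ↥((fittingSubgroup D).map ρ') :=
        Group.nilpotent_of_surjective _ (MonoidHom.subgroupMap_surjective ρ' _)
      exact (Subgroup.map_eq_bot_iff _).1 (nilpotent_normal_nine _)
    · have : Group.IsNilpotent R := hRp.isNilpotent
      exact (Solvable.Cores.le_fittingSubgroup inferInstance).trans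
        Components.fittingSubgroup_le_generalizedFittingSubgroup
  -- non-weak closure
  have hz2 : orderOf zb = 2 := by
    refine orderOf_eq_prime ?_ fun h => ?_
    · rw [hzb, pow_two, ← map_mul, hker]
      show z * z ∈ _
      rw [F.setting.ext.z_sq]
      exact one_mem _
    · rw [hzb, hker, ← mem_powers_iff_mem_zpowers] at h
      obtain ⟨i, hi⟩ := h
      exact F.setting.ext.z_ne (congrArg Subtype.val (hQb (zC z) i F.extra.z_mem (Subtype.ext hi.symm)))
  refine ⟨zb, R, inferInstance, ⟨hz2, hFit, hRext, hRcard, ?_⟩,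
    ⟨QuotientGroup.quotientKerEquivOfSurjective ρ' hρ'surj⟩⟩
  have h128 : maskT.testBit (kn (kof 128)) = true := by decide +kernel
  obtain ⟨g, hgb, hg⟩ := conj_in F hb3 (hQcomm (lq (kof 128))) ((cl_kap F (hlq _)).2 h128)
  refine ⟨π ⟨g, (hmemGB g).2 hgb⟩, ?_, ?_⟩
  · have he : π ⟨g, (hmemGB g).2 hgb⟩ * zb * (π ⟨g, (hmemGB g).2 hgb⟩)⁻¹ = (ι (lq (kof 128) : D0) : GB ⧸ N0) := by
      rw [hzb, ← map_inv, ← map_mul, ← map_mul]
      exact congrArg π (Subtype.ext hg)
    refine ⟨he ▸ SetLike.coe_mem _, ?_⟩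
    rw [show (⟨_, _⟩ : D) = ι (lq (kof 128) : D0) from Subtype.ext he]
    exact (χ _).2
  · intro hcon
    rw [hzb, ← map_inv, ← map_mul, ← map_mul] at hcon
    have hne := ((F.conj_iff _).2 ((cl_kap F (hlq (kof 128))).2 h128)).2
    obtain ⟨i, hi⟩ := (hπeq _ _).1 hcon.symm
    simp only [Subgroup.coe_mul, Subgroup.coe_inv, hg] at hi
    have h1 : (b : G) ^ i = 1 := by
      refine hinv z i hbz F.setting.ext.z_sq ?_
      rw [← hi, ← hg]
      calc g * z * g⁻¹ * (g * z * g⁻¹) = g * (z * z) * g⁻¹ := by group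
        _ = 1 := by rw [F.setting.ext.z_sq]; group
    rw [h1, mul_one] at hi
    exact hne hi

end CfsgLib.Sporadic.MonsterFusion.TH
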