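import Cfsg.Agent.Lib.Sporadic.MonsterFusion.FILift
import Cfsg.Agent.Lib.Sporadic.MonsterFusion.THType
import Cfsg.Agent.Lib.OddOrder.Basic

/-!
The centraliser of a subgroup of order three central in a Sylow subgroup of the joint centraliser, modulo
that subgroup, is of large Fischer type.
-/

set_option autoImplicit false
set_option maxRecDepth 20000

namespace CfsgLib.Sporadic.MonsterFusion.FI

open Cfsg CfsgLib.SmallGroups CfsgLib.ThreeTransp.Extraspecial Frame3
open Held (cong_symm cong_trans eq_of_add_zero)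
open TH.Frame3 (b_pow conj_in)
open scoped commutatorElement

/-! ### The projective action up to sign -/

theorem pj_cases {g g' : CC} (h : pj (g : Co0) = pj (g' : Co0)) : g = g' ∨ g = g' * negC := by
  rcases center_cases' ((QuotientGroup.eq_one_iff _).1 (show pj ((g' : Co0)⁻¹ * g) = 1 by
    rw [map_mul, map_inv, h, inv_mul_cancel])) with r | r
  · exact Or.inl (Subtype.ext (inv_mul_eq_one.1 r).symm)
  · exact Or.inr (Subtype.ext (inv_mul_eq_iff_eq_mul.1 r))

theorem rb_congr {g g' : CC} (h : pj (g : Co0) = pj (g' : Co0)) : rb g = rb g' := by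
  rcases pj_cases h with rfl | rfl
  · rfl
  · rw [map_mul, show rb negC = 1 from mkP_eq_one.2 (Or.inr rho_negC), mul_one]

/-- A normal nilpotent subgroup meets the simple group trivially. -/
theorem nilpotent_disjoint (X : Subgroup PO6) [Group.IsNilpotent X]
    (hn : ∀ o ∈ OmP, ∀ x ∈ X, o * x * o⁻¹ ∈ X) : X = ⊥ := by
  have := simple_OmP
  have hbot : ∀ x ∈ X, x ∈ OmP → x = 1 := by
    intro x hx hxo
    have hN : (X.subgroupOf OmP).Normal := ⟨fun x hx o => hn o o.2 x hx⟩
    rcases hN.eq_bot_or_eq_top with h | h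
    · exact congrArg Subtype.val
        ((Subgroup.eq_bot_iff_forall _).1 h (⟨x, hxo⟩ : OmP) (Subgroup.mem_subgroupOf.2 hx))
    · rw [Subgroup.subgroupOf_eq_top] at h
      have : Group.IsNilpotent OmP := Group.nilpotent_of_mulEquiv
        (Subgroup.subgroupOfEquivOfLe h)
      have hcomm := IsSimpleGroup.comm_iff_isSolvable.2 (inferInstance : Group.IsSolvable OmP)
      have hc : OmP ≤ Subgroup.centralizer (OmP : Set PO6) := fun a ha =>
        Subgroup.mem_centralizer_iff.2 fun b hb => congrArg Subtype.val (hcomm ⟨b, hb⟩ ⟨a, ha⟩)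
      rw [centralizer_OmP, le_bot_iff] at hc
      exact (Subgroup.eq_bot_iff_forall _).1 hc x hxo
  rw [Subgroup.eq_bot_iff_forall]
  intro x hx
  have hc : x ∈ Subgroup.centralizer (OmP : Set PO6) := Subgroup.mem_centralizer_iff.2 fun o ho => by
    refine mul_inv_eq_one.1 (hbot _ ?_ ?_)
    · rw [mul_inv_rev, ← mul_assoc]
      exact mul_mem (hn o ho _ hx) (inv_mem hx)
    · rw [mul_inv_rev, ← mul_assoc, mul_assoc o, mul_assoc o]
      exact mul_mem ho ((inferInstance : OmP.Normal).conj_mem _ (inv_mem ho) x)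
  rwa [centralizer_OmP, Subgroup.mem_bot] at hc

variable {G : Type*} [Group G] [Finite G] {z : G} {Q : Subgroup (Subgroup.centralizer ({z} : Set G))}
  [Q.Normal] {e : (Subgroup.centralizer ({z} : Set G)) ⧸ Q ≃* Spor.Co1}
  {ψ : leechLattice → Q ⧸ Subgroup.center Q}

theorem cl_base (F : Frame Q e ψ) {q : Q} (hq : Rep ψ (kap n0) q) : Cl ψ 64 q :=
  ⟨LeechOrder.base8, LeechOrder.norm_base8, by rwa [kap_n0] at hq⟩

set_option maxHeartbeats 2000000 in
theorem main_fi_at (F : Frame Q e ψ) (b : Subgroup.centralizer ({z} : Set G))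
    (hb3 : orderOf (b : G) = 3) (hb : e (QuotientGroup.mk b) = pj sg) {P : Type*} [Group P] [Finite P]
    (π : ↥(Subgroup.centralizer (Subgroup.zpowers (b : G) : Set G)) →* P) (hπsurj : Function.Surjective π)
    (hker : ∀ x, π x = 1 ↔ (x : G) ∈ Subgroup.zpowers (b : G))
    (hzGB : z ∈ Subgroup.centralizer (Subgroup.zpowers (b : G) : Set G)) :
    ∃ (R : Subgroup (Subgroup.centralizer ({π ⟨z, hzGB⟩} : Set P))) (_ : R.Normal),
      IsOfLargeFischerTypeAt (π ⟨z, hzGB⟩) R ∧
      ∀ q : Q, Commute b (q : Subgroup.centralizer ({z} : Set G)) →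
        ∃ hq : ((q : Subgroup.centralizer ({z} : Set G)) : G) ∈ Subgroup.centralizer (Subgroup.zpowers (b : G) : Set G),
          ∃ r ∈ R, (r : P) = π ⟨_, hq⟩ := by
  classical
  have : Fact (Nat.Prime 2) := ⟨Nat.prime_two⟩
  have : Fact (Nat.Prime 3) := ⟨by norm_num⟩
  have hb3' : b ^ 3 = 1 := b_pow hb3
  -- the ambient centraliser and the quotient map
  have hmemGB : ∀ g : G, g ∈ (Subgroup.centralizer (Subgroup.zpowers (b : G) : Set G)) ↔ Commute (b : G) g := fun g => by
    rw [Subgroup.zpowers_eq_closure, Subgroup.centralizer_closure,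
      Subgroup.mem_centralizer_singleton_iff]
    exact ⟨Eq.symm, fun h => h.eq.symm⟩
  have hπeq : ∀ x y : (Subgroup.centralizer (Subgroup.zpowers (b : G) : Set G)), π x = π y ↔ ∃ i : ℕ, (y : G) = (x : G) * (b : G) ^ i := fun x y => by
    rw [← inv_mul_eq_one, ← map_inv, ← map_mul, hker, ← mem_powers_iff_mem_zpowers, Submonoid.mem_powers_iff]
    simp only [Subgroup.coe_mul, Subgroup.coe_inv, eq_inv_mul_iff_mul_eq]
    exact exists_congr fun i => eq_comm
  have hbz : (b : G) * z = z * b := Subgroup.mem_centralizer_singleton_iff.1 b.2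
  set zb := π ⟨z, hzGB⟩ with hzb
  -- an involution times a power of `b`
  have hinv : ∀ (u : G) (i : ℕ), Commute (b : G) u → u * u = 1 → (u * (b : G) ^ i) * (u * (b : G) ^ i) = 1 →
      (b : G) ^ i = 1 := by
    intro u i hu hu2 h
    rw [mul_assoc, ← mul_assoc ((b : G) ^ i), (hu.pow_left i).eq, mul_assoc u, ← mul_assoc, hu2, one_mul,
      ← pow_add] at h
    have h1 := orderOf_dvd_of_pow_eq_one h
    rw [hb3] at h1
    refine orderOf_dvd_iff_pow_eq_one.1 ?_
    rw [hb3]
    omega
  -- the centraliser of `z` and `b`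
  set D0 := Subgroup.centralizer ({b} : Set (Subgroup.centralizer ({z} : Set G))) with hD0
  have hmemD0 : ∀ h, h ∈ D0 ↔ Commute b h := fun h => by
    rw [hD0, Subgroup.mem_centralizer_singleton_iff]
    exact ⟨Eq.symm, fun h => h.eq.symm⟩
  set D := Subgroup.centralizer ({zb} : Set P) with hD
  have hDGB : ∀ h : D0, ((h : Subgroup.centralizer ({z} : Set G)) : G) ∈ (Subgroup.centralizer (Subgroup.zpowers (b : G) : Set G)) := fun h =>
    (hmemGB _).2 (congrArg Subtype.val ((hmemD0 _).1 h.2).eq)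
  set ι : D0 →* D := MonoidHom.mk' (fun h => ⟨π ⟨((h : Subgroup.centralizer ({z} : Set G)) : G), hDGB h⟩,
      Subgroup.mem_centralizer_singleton_iff.2 (by
        rw [hzb, ← map_mul, ← map_mul]
        exact congrArg π (Subtype.ext
          (Subgroup.mem_centralizer_singleton_iff.1 (h : Subgroup.centralizer ({z} : Set G)).2)))⟩)
    fun a c => Subtype.ext (by simp only [Subgroup.coe_mul, ← map_mul]; rfl) with hι
  have hιker : ∀ h : D0, ι h = 1 ↔ ∃ i : ℕ, (h : Subgroup.centralizer ({z} : Set G)) = b ^ i := fun h => by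
    rw [Subtype.ext_iff, hι, MonoidHom.mk'_apply, Subgroup.coe_one, ← map_one π, eq_comm, hπeq]
    refine exists_congr fun i => ?_
    rw [Subtype.ext_iff, Subgroup.coe_one, one_mul, Subgroup.coe_pow]
  have hιsurj : Function.Surjective ι := by
    rintro ⟨x, hx⟩
    obtain ⟨a, rfl⟩ := hπsurj x
    have hx' := Subgroup.mem_centralizer_singleton_iff.1 hx
    rw [hzb, ← map_mul, ← map_mul, hπeq] at hx'
    obtain ⟨i, hi⟩ := hx'
    simp only [Subgroup.coe_mul] at hi
    have hab : Commute (b : G) (a : G) := (hmemGB _).1 a.2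
    have hi' : (a : G)⁻¹ * z * a = z * (b : G) ^ i := by
      rw [mul_assoc, hi, mul_assoc (a : G) z, inv_mul_cancel_left]
    have h1 : (b : G) ^ i = 1 := by
      refine hinv z i hbz F.setting.ext.z_sq ?_
      rw [← hi']
      calc (a : G)⁻¹ * z * a * ((a : G)⁻¹ * z * a) = (a : G)⁻¹ * (z * z) * a := by group
        _ = 1 := by rw [F.setting.ext.z_sq]; group
    rw [h1, mul_one] at hi
    exact ⟨⟨⟨a, Subgroup.mem_centralizer_singleton_iff.2 hi.symm⟩, (hmemD0 _).2 (Subtype.ext hab.eq)⟩,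
      Subtype.ext rfl⟩
  -- the representation
  choose pre hpreC hpre using fun h : D0 => exists_pre hb ((hmemD0 _).1 h.2)
  set pc : D0 → CC := fun h => ⟨pre h, mem_CC.2 (hpreC h)⟩ with hpc
  have hpcpj : ∀ h : D0, pj ((pc h : CC) : Co0) = e (QuotientGroup.mk (h : Subgroup.centralizer ({z} : Set G))) := hpre
  set η : D0 →* Spor.Co1 := e.toMonoidHom.comp ((QuotientGroup.mk' Q).comp D0.subtype) with hη
  have hηpc : ∀ h : D0, η h = pj ((pc h : CC) : Co0) := fun h => (hpcpj h).symm
  set ρ : D0 →* PO6 := MonoidHom.mk' (fun h => rb (pc h)) fun a c => by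
    rw [← map_mul]
    refine rb_congr ?_
    rw [Subgroup.coe_mul, map_mul, ← hηpc, ← hηpc, ← hηpc, map_mul] with hρ
  have hρg : ∀ (h : D0) (g : CC), η h = pj (g : Co0) → ρ h = rb g := fun h g hg =>
    rb_congr ((hηpc h).symm.trans hg)
  have hlift : ∀ g : CC, ∃ h : D0, η h = pj (g : Co0) := fun g => by
    obtain ⟨h, hh, he⟩ := Frame3.lift F hb3 hb (mem_CC.1 g.2)
    exact ⟨⟨h, (hmemD0 h).2 hh⟩, he⟩
  have hρrange : ρ.range = rb.range := by
    ext x
    constructor
    · rintro ⟨h, rfl⟩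
      exact ⟨pc h, rfl⟩
    · rintro ⟨g, rfl⟩
      obtain ⟨h, hh⟩ := hlift g
      exact ⟨h, hρg h g hh⟩
  have hρι : ι.ker ≤ ρ.ker := fun h hh => by
    obtain ⟨i, hi⟩ := (hιker h).1 hh
    have : η h = pj ((sC ^ i : CC) : Co0) := by
      show e (QuotientGroup.mk (h : Subgroup.centralizer ({z} : Set G))) = _
      rw [hi, QuotientGroup.mk_pow, map_pow, hb, SubmonoidClass.coe_pow, map_pow]
      rfl
    rw [MonoidHom.mem_ker, hρg h _ this, map_pow, show rb sC = 1 from mkP_eq_one.2 (Or.inl rho_sC), one_pow]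
  set ρ' : D →* PO6 := ι.liftOfSurjective hιsurj ⟨ρ, hρι⟩ with hρ'
  have hρ'ι : ∀ h, ρ' (ι h) = ρ h := fun h =>
    MonoidHom.liftOfRightInverse_comp_apply ι _ _ ⟨ρ, hρι⟩ h
  have hρ'range : ρ'.range = rb.range := by
    rw [← hρrange]
    ext x
    constructor
    · rintro ⟨y, rfl⟩
      obtain ⟨h, rfl⟩ := hιsurj y
      exact ⟨h, (hρ'ι h).symm⟩
    · rintro ⟨h, rfl⟩
      exact ⟨ι h, hρ'ι h⟩
  set N := ρ'.ker with hN
  -- the two-group
  set QB := Q.subgroupOf D0 with hQB
  have : QB.Normal := inferInstanceAs (Q.subgroupOf D0).Normal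
  set R := QB.map ι with hR
  have : R.Normal := Subgroup.Normal.map (H := QB) inferInstance ι hιsurj
  have hηker : η.ker = QB := by
    ext h
    rw [MonoidHom.mem_ker, hQB, Subgroup.mem_subgroupOf, ← QuotientGroup.eq_one_iff, ← e.map_eq_one_iff]
    rfl
  have hQBρ : QB ≤ ρ.ker := fun h hh => by
    rw [MonoidHom.mem_ker, hρg h 1 (by rw [Subgroup.coe_one, map_one]; exact (hηker.symm ▸ hh : h ∈ η.ker)),
      map_one]
  have hRN : R ≤ N := by
    rintro _ ⟨h, hh, rfl⟩
    rw [hN, MonoidHom.mem_ker, hρ'ι]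
    exact hQBρ hh
  set χ : QB →* R := (ι.comp QB.subtype).codRestrict R (fun q => ⟨_, q.2, rfl⟩) with hχ
  have hQb : ∀ (q : Subgroup.centralizer ({z} : Set G)) (i : ℕ), q ∈ Q → q = b ^ i → q = 1 := by
    intro q i hq hqi
    obtain ⟨j, hj⟩ := F.extra.isPGroup ⟨q, hq⟩
    have hj' : q ^ 2 ^ j = 1 := congrArg Subtype.val hj
    have h3 : q ^ 3 = 1 := by rw [hqi, ← pow_mul, mul_comm, pow_mul, hb3', one_pow]
    have hg : Nat.gcd (2 ^ j) 3 = 1 :=
      ((by norm_num : Nat.Coprime 2 3).pow_left j)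
    have := pow_gcd_eq_one.2 ⟨hj', h3⟩
    rwa [hg, pow_one] at this
  have hχinj : Function.Injective χ := by
    rw [injective_iff_map_eq_one]
    intro q hq
    obtain ⟨i, hi⟩ := (hιker (q : D0)).1 (congrArg Subtype.val hq)
    exact Subtype.ext (Subtype.ext (hQb _ i q.2 hi))
  have hχsurj : Function.Surjective χ := by
    rintro ⟨_, h, hh, rfl⟩
    exact ⟨⟨h, hh⟩, rfl⟩
  set χe : QB ≃* R := MulEquiv.ofBijective χ ⟨hχinj, hχsurj⟩ with hχe
  -- classes
  set Qb : QB → Q := fun q => ⟨((q : D0) : Subgroup.centralizer ({z} : Set G)), q.2⟩ with hQbdef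
  have hQcomm : ∀ q : QB, Commute b (Qb q : Subgroup.centralizer ({z} : Set G)) := fun q =>
    (hmemD0 _).1 (q : D0).2
  choose ν hν using fun q : QB => exists_kap F hb (hQcomm q)
  have hνu : ∀ (q : QB) n, Rep ψ (kap n) (Qb q) → ν q = n := by
    intro q n hq
    have h1 : Cong (kap (ν q + n)) 0 := by
      refine cong_trans (cong_symm (kap_add _ _)) ?_
      obtain ⟨x, hx⟩ := F.psi_eq_iff.1 ((hν q).trans hq.symm)
      exact ⟨kap n + x, by rw [hx]; abel⟩
    funext i
    have := congrFun (kap_zero h1) i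
    rw [Pi.add_apply, Pi.zero_apply] at this
    exact eq_of_add_zero _ _ this
  have hrep : ∀ n, ∃ q : QB, Rep ψ (kap n) (Qb q) := by
    intro n
    obtain ⟨q, hq⟩ := Frame.exists_rep (ψ := ψ) (kap n)
    exact ⟨⟨⟨q, (hmemD0 _).2 (rep_commute F hb3 hb (by rw [sg_kap]; exact cong_refl _) hq)⟩, q.2⟩, hq⟩
  choose lq hlq using hrep
  have hzD : zC z ∈ D0 := (hmemD0 _).2 (Subtype.ext hbz)
  set zB : QB := ⟨⟨zC z, hzD⟩, F.extra.z_mem⟩ with hzB
  have hQB_cases : ∀ q : QB, q = lq (ν q) ∨ q = lq (ν q) * zB := by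
    intro q
    rcases F.rep_unique (hlq (ν q)) (hν q) with r | r
    · exact Or.inl (Subtype.ext (Subtype.ext r))
    · exact Or.inr (Subtype.ext (Subtype.ext r))
  have hzB1 : zB ≠ 1 := fun h => F.setting.ext.z_ne (congrArg
    (fun q : QB => (((q : D0) : Subgroup.centralizer ({z} : Set G)) : G)) h)
  have hνz : ∀ n, ν (lq n) = n ∧ ν (lq n * zB) = n := by
    intro n
    refine ⟨hνu _ _ (hlq n), hνu _ _ ?_⟩
    show ψ (kap n) = QuotientGroup.mk (Qb (lq n) * ⟨zC z, F.extra.z_mem⟩)
    rw [QuotientGroup.mk_mul, (QuotientGroup.eq_one_iff _).2 ((F.center_iff (c := ⟨zC z, F.extra.z_mem⟩)).2 (Or.inr rfl)), mul_one]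
    exact hlq n
  have hcard : Nat.card QB = 2 ^ (2 * 6 + 1) := by
    have hbij : Function.Bijective fun x : (Fin 12 → ZMod 2) × Bool => if x.2 then lq x.1 * zB else lq x.1 := by
      constructor
      · rintro ⟨n, i⟩ ⟨n', i'⟩ h
        have hn : n = n' := by
          have := congrArg ν h
          cases i <;> cases i' <;> simpa [hνz] using this
        subst hn
        cases i <;> cases i' <;> first | rfl | exact absurd (by simpa using h) hzB1
      · intro q
        rcases hQB_cases q with r | r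
        · exact ⟨(ν q, false), by simp [← r]⟩
        · exact ⟨(ν q, true), by simp [← r]⟩
    rw [← Nat.card_eq_of_bijective _ hbij]
    simp
  have hzc : zB ∈ Subgroup.center QB :=
    Subgroup.mem_center_iff.2 fun q => Subtype.ext (Subtype.ext (F.extra.z_comm q.2).symm)
  have hcen : ∀ a ∈ Subgroup.center QB, a = 1 ∨ a = zB := by
    intro a ha
    have h0 : ν a = 0 := by
      refine dot_nondeg _ fun j => ?_
      have hcm : (Qb a : Subgroup.centralizer ({z} : Set G)) * Qb (lq (Pi.single j 1)) =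
          Qb (lq (Pi.single j 1)) * Qb a :=
        (congrArg (fun q : QB => ((q : D0) : Subgroup.centralizer ({z} : Set G)))
          (Subgroup.mem_center_iff.1 ha (lq (Pi.single j 1)))).symm
      have := (F.comm_iff (hν a) (hlq _)).1 hcm
      rwa [coe_kap, kap_single] at this
    have h1 : Rep ψ (kap (0 : Fin 12 → ZMod 2)) (Qb a) := h0 ▸ hν a
    have h2 : Qb a ∈ Subgroup.center Q := by
      refine (QuotientGroup.eq_one_iff _).1 (h1.symm.trans ((F.iso.2.2.1 _).2 ⟨0, ?_⟩))
      simp [kap]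
    rcases F.center_iff.1 h2 with r | r
    · exact Or.inl (Subtype.ext (Subtype.ext r))
    · exact Or.inr (Subtype.ext (Subtype.ext r))
  have hQBp : IsPGroup 2 QB := IsPGroup.of_card hcard
  have hQBext : IsExtraspecial 2 QB := by
    refine ExtraspecialCrit.isExtraspecial hQBp zB hzB1 hzc (fun x y => ?_) (fun x => ?_) hcen ?_
    · rcases F.extra.conj_cases (Qb y).2 (Qb x).2 with r | r
      · left
        refine Subtype.ext (Subtype.ext ?_)
        show ⁅(Qb x : Subgroup.centralizer ({z} : Set G)), (Qb y : Subgroup.centralizer ({z} : Set G))⁆ = 1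
        rw [commutatorElement_def, r, mul_inv_cancel]
      · right
        refine Subtype.ext (Subtype.ext ?_)
        show ⁅(Qb x : Subgroup.centralizer ({z} : Set G)), (Qb y : Subgroup.centralizer ({z} : Set G))⁆ = zC z
        rw [commutatorElement_def, r, ← F.extra.z_comm (Qb y).2, mul_inv_cancel_right]
    · rcases F.extra.sq_cases (Qb x).2 with r | r
      · exact Or.inl (Subtype.ext (Subtype.ext r))
      · exact Or.inr (Subtype.ext (Subtype.ext r))
    · by_contra hall
      push Not at hall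
      have hle : Nat.card QB ≤ 2 := by
        calc Nat.card QB ≤ Nat.card ({1, zB} : Set QB) := by
              refine Nat.card_le_card_of_injective
                (fun q => ⟨q, hcen q (Subgroup.mem_center_iff.2 fun y => hall y q)⟩) fun x y h => congrArg Subtype.val h
          _ ≤ 2 := by rw [Nat.card_coe_set_eq, Set.ncard_pair hzB1.symm]
      rw [hcard] at hle
      norm_num at hle
  have hRext : IsExtraspecial 2 R := ThreeTransp.Simplicity.isExtraspecial_of_equiv χe hQBext
  have hRcard : Nat.card R = 2 ^ (2 * 6 + 1) := by rw [← Nat.card_congr χe.toEquiv, hcard]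
  have hRp : IsPGroup 2 R := IsPGroup.of_card hRcard
  -- the kernel of the projective action
  have hNmap : ρ.ker.map ι = N := by
    ext x
    constructor
    · rintro ⟨h, hh, rfl⟩
      rw [hN, MonoidHom.mem_ker, hρ'ι]
      exact hh
    · intro hx
      obtain ⟨h, rfl⟩ := hιsurj x
      rw [hN, MonoidHom.mem_ker, hρ'ι] at hx
      exact ⟨h, hx, rfl⟩
  have hηmap : ρ.ker.map η = rb.ker.map (pj.comp CC.subtype) := by
    ext x
    constructor
    · rintro ⟨h, hh, rfl⟩
      exact ⟨pc h, hh, (hηpc h).symm⟩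
    · rintro ⟨g, hg, rfl⟩
      obtain ⟨h, hh⟩ := hlift g
      refine ⟨h, ?_, hh⟩
      show ρ h = 1
      rw [hρg h g hh]
      exact hg
  have hcardρ : Nat.card ρ.ker = 9 * Nat.card QB := by
    rw [← card_map_mul' η ρ.ker, hηmap, card_pjK, hηker, inf_eq_left.2 hQBρ]
  have hcardι : Nat.card ι.ker = 3 := by
    have hbD : b ∈ D0 := (hmemD0 _).2 (Commute.refl b)
    have hz : ι.ker = Subgroup.zpowers (⟨b, hbD⟩ : D0) := by
      ext h
      rw [MonoidHom.mem_ker, hιker, ← mem_powers_iff_mem_zpowers, Submonoid.mem_powers_iff]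
      exact exists_congr fun i => ⟨fun e' => Subtype.ext (by rw [SubmonoidClass.coe_pow]; exact e'.symm),
        fun e' => by rw [← e', SubmonoidClass.coe_pow]⟩
    rw [hz, Nat.card_zpowers, Subgroup.orderOf_mk, ← Subgroup.orderOf_coe, hb3]
  have hNcard : Nat.card N = 3 * Nat.card R := by
    have h1 := card_map_mul' ι ρ.ker
    rw [hNmap, inf_eq_left.2 hρι, hcardι, hcardρ, hcard] at h1
    rw [hRcard]
    omega
  -- the generalised Fitting subgroup
  have hcentle : Subgroup.centralizer (R : Set D) ≤ R := by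
    intro x hx
    obtain ⟨h, rfl⟩ := hιsurj x
    obtain ⟨k, hk⟩ := theta_kernel (g := pc h) (theta_eq_one fun n => by
      refine F.psi_eq_iff.1 ((F.rep_smul (hpre h) (hlq n)).trans ?_)
      rw [hlq n]
      refine congrArg _ (Subtype.ext ?_)
      have hc := Subgroup.mem_centralizer_iff.1 hx (ι (lq n : D0)) (χ (lq n)).2
      rw [← map_mul, ← map_mul, ← inv_mul_eq_one, ← map_inv, ← map_mul, hιker] at hc
      obtain ⟨i, hi⟩ := hc
      show (h : Subgroup.centralizer ({z} : Set G)) * Qb (lq n) * (h : Subgroup.centralizer ({z} : Set G))⁻¹ = Qb (lq n)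
      set q := (Qb (lq n) : Subgroup.centralizer ({z} : Set G)) with hq
      have hi' : ((q * (h : Subgroup.centralizer ({z} : Set G))))⁻¹ * ((h : Subgroup.centralizer ({z} : Set G)) * q) = b ^ i := hi
      have h1 : b ^ i = 1 := by
        refine hQb _ i ?_ rfl
        rw [← hi', mul_inv_rev]
        have := mul_mem ((inferInstance : Q.Normal).conj_mem' _ (inv_mem (Qb (lq n)).2)
          (h : Subgroup.centralizer ({z} : Set G))) (Qb (lq n)).2
        simpa [mul_assoc] using this
      rw [h1, inv_mul_eq_one] at hi'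
      rw [← hi', mul_inv_cancel_right])
    have hbk : (b ^ k)⁻¹ ∈ D0 := (hmemD0 _).2 ((Commute.refl b).pow_right k).inv_right
    refine ⟨h * ⟨_, hbk⟩, ?_, ?_⟩
    · rw [← hηker, SetLike.mem_coe, MonoidHom.mem_ker, map_mul, hηpc, hk]
      show pj sg ^ k * e (QuotientGroup.mk (b ^ k)⁻¹) = 1
      rw [QuotientGroup.mk_inv, map_inv, QuotientGroup.mk_pow, map_pow, hb, mul_inv_cancel]
    · rw [map_mul, mul_eq_left, hιker]
      refine ⟨k * 2, ?_⟩
      show (b ^ k)⁻¹ = b ^ (k * 2)
      rw [inv_eq_iff_mul_eq_one, ← pow_add, show k + k * 2 = 3 * k by ring, pow_mul, hb3', one_pow]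
  have hFit : generalizedFittingSubgroup D = R := by
    refine le_antisymm (Components.generalizedFitting_le_of_centralizer_le R ?_ hcentle) ?_
    · have : Group.IsNilpotent ↥((fittingSubgroup D).map ρ') :=
        Group.nilpotent_of_surjective _ (MonoidHom.subgroupMap_surjective ρ' _)
      have hFN : fittingSubgroup D ≤ N := by
        refine (Subgroup.map_eq_bot_iff _).1 (nilpotent_disjoint _ ?_)
        rintro o ho _ ⟨y, hy, rfl⟩
        obtain ⟨d, rfl⟩ : o ∈ ρ'.range := hρ'range.symm ▸ OmP_le ho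
        exact ⟨d * y * d⁻¹, (inferInstance : (fittingSubgroup D).Normal).conj_mem y hy d,
          by rw [map_mul, map_mul, map_inv]⟩
      have hRF : R ≤ fittingSubgroup D := Solvable.Cores.le_fittingSubgroup hRp.isNilpotent
      intro a ha
      -- the part of odd order centralises the two-group
      have hpow : a ^ 2 ^ 13 ∈ R := by
        refine hcentle (Subgroup.mem_centralizer_iff.2 fun r hr => ?_)
        set A : fittingSubgroup D := ⟨a, ha⟩ ^ 2 ^ 13 with hA
        have hA3 : orderOf A ∣ 3 := by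
          refine orderOf_dvd_of_pow_eq_one (Subtype.ext ?_)
          rw [hA, ← pow_mul, SubmonoidClass.coe_pow, Subgroup.coe_one]
          have h1 : orderOf (⟨a, hFN ha⟩ : N) ∣ 2 ^ 13 * 3 := by
            refine (orderOf_dvd_natCard _).trans ?_
            rw [hNcard, hRcard]
            norm_num
          rw [Subgroup.orderOf_mk] at h1
          exact orderOf_dvd_iff_pow_eq_one.1 h1
        have hr2 : orderOf (⟨r, hRF hr⟩ : fittingSubgroup D) ∣ 2 ^ 13 := by
          rw [Subgroup.orderOf_mk, ← Subgroup.orderOf_mk r hr]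
          exact (orderOf_dvd_natCard _).trans (dvd_of_eq hRcard)
        have hc := OddOrder.Basic.commute_of_coprime_orderOf (G := fittingSubgroup D) (a := ⟨r, hRF hr⟩) (b := A)
          ((Nat.Coprime.pow_left 13 (by norm_num : Nat.Coprime 2 3)).coprime_dvd_left hr2 |>.coprime_dvd_right hA3)
        exact congrArg Subtype.val hc.eq
      -- so it is trivial
      obtain ⟨j, hj⟩ := hRp ⟨_, hpow⟩
      have h1 : a ^ 2 ^ (13 + j) = 1 := by
        rw [pow_add, pow_mul]
        exact congrArg Subtype.val hj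
      have hq : IsPGroup 2 (R.subgroupOf N) := hRp.of_equiv (Subgroup.subgroupOfEquivOfLe hRN).symm
      have hidx : (R.subgroupOf N).index = 3 := by
        have := Subgroup.card_mul_index (R.subgroupOf N)
        rw [Nat.card_congr (Subgroup.subgroupOfEquivOfLe hRN).toEquiv, hNcard, hRcard] at this
        omega
      have h2 : orderOf (QuotientGroup.mk (⟨a, hFN ha⟩ : N) : N ⧸ R.subgroupOf N) ∣ 1 := by
        rw [← (Nat.Coprime.pow_left (13 + j) (by norm_num : Nat.Coprime 2 3))]
        refine Nat.dvd_gcd (orderOf_dvd_of_pow_eq_one ?_) ((orderOf_dvd_natCard _).trans (dvd_of_eq hidx))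
        rw [← QuotientGroup.mk_pow, show (⟨a, hFN ha⟩ : N) ^ 2 ^ (13 + j) = 1 from Subtype.ext h1,
          QuotientGroup.mk_one]
      rw [Nat.dvd_one, orderOf_eq_one_iff, QuotientGroup.eq_one_iff, Subgroup.mem_subgroupOf] at h2
      exact h2
    · exact (Solvable.Cores.le_fittingSubgroup hRp.isNilpotent).trans
        Components.fittingSubgroup_le_generalizedFittingSubgroup
  -- non-weak closure
  have hz2 : orderOf zb = 2 := by
    refine orderOf_eq_prime ?_ fun h => ?_
    · rw [hzb, pow_two, ← map_mul, hker]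
      show z * z ∈ _
      rw [F.setting.ext.z_sq]
      exact one_mem _
    · rw [hzb, hker, ← mem_powers_iff_mem_zpowers] at h
      obtain ⟨i, hi⟩ := h
      exact F.setting.ext.z_ne (congrArg Subtype.val (hQb (zC z) i F.extra.z_mem (Subtype.ext hi.symm)))
  set M := OmP.comap ρ' with hM
  have hNM : N ≤ M := fun x hx => by
    rw [hM, Subgroup.mem_comap, MonoidHom.mem_ker.1 hx]
    exact one_mem _
  set f := ρ'.subgroupComap OmP with hf
  have hfsurj : Function.Surjective f := by
    rintro ⟨x, hx⟩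
    obtain ⟨y, rfl⟩ : x ∈ ρ'.range := hρ'range.symm ▸ OmP_le hx
    exact ⟨⟨y, hx⟩, rfl⟩
  have hfker : N.subgroupOf M = f.ker := by
    ext x
    rw [Subgroup.mem_subgroupOf, hN, MonoidHom.mem_ker, MonoidHom.mem_ker, Subtype.ext_iff]
    rfl
  have hMidx : M.index = 2 := by
    rw [hM, Subgroup.index_comap, hρ'range]
    have := Subgroup.card_mul_index (OmP.subgroupOf rb.range)
    rw [Nat.card_congr (Subgroup.subgroupOfEquivOfLe OmP_le).toEquiv, card_rb_range, card_OmP] at this
    show (OmP.subgroupOf rb.range).index = 2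
    omega
  obtain ⟨eu⟩ := exists_OmP_equiv K9 card_K9
  refine ⟨R, inferInstance, ⟨⟨hz2, hFit, hRext, hRcard, ?_⟩, N, M, inferInstance, inferInstance, hRN, hNM,
    hNcard, ⟨K9, inferInstance, inferInstance, card_K9, ⟨(QuotientGroup.quotientMulEquivOfEq hfker).trans
      ((QuotientGroup.quotientKerEquivOfSurjective f hfsurj).trans eu)⟩⟩, hMidx⟩, fun q hq => ?_⟩
  swap
  · exact ⟨(hmemGB _).2 (congrArg Subtype.val hq.eq), ι ⟨q, (hmemD0 _).2 hq⟩,
      ⟨⟨q, (hmemD0 _).2 hq⟩, q.2, rfl⟩, rfl⟩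
  obtain ⟨g, hgb, hg⟩ := conj_in F hb3 (hQcomm (lq (n0))) (cl_base F (hlq _))
  refine ⟨π ⟨g, (hmemGB g).2 hgb⟩, ?_, ?_⟩
  · have he : π ⟨g, (hmemGB g).2 hgb⟩ * zb * (π ⟨g, (hmemGB g).2 hgb⟩)⁻¹ = (ι (lq (n0) : D0) : P) := by
      rw [hzb, ← map_inv, ← map_mul, ← map_mul]
      exact congrArg π (Subtype.ext hg)
    refine ⟨he ▸ SetLike.coe_mem _, ?_⟩
    rw [show (⟨_, _⟩ : D) = ι (lq (n0) : D0) from Subtype.ext he]
    exact (χ _).2
  · intro hcon
    rw [hzb, ← map_inv, ← map_mul, ← map_mul] at hcon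
    have hne := ((F.conj_iff _).2 (cl_base F (hlq n0))).2
    obtain ⟨i, hi⟩ := (hπeq _ _).1 hcon.symm
    simp only [Subgroup.coe_mul, Subgroup.coe_inv, hg] at hi
    have h1 : (b : G) ^ i = 1 := by
      refine hinv z i hbz F.setting.ext.z_sq ?_
      rw [← hi, ← hg]
      calc g * z * g⁻¹ * (g * z * g⁻¹) = g * (z * z) * g⁻¹ := by group
        _ = 1 := by rw [F.setting.ext.z_sq]; group
    rw [h1, mul_one] at hi
    exact hne hi

theorem main_fi (F : Frame Q e ψ) (b : Subgroup.centralizer ({z} : Set G))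
    (hb3 : orderOf (b : G) = 3) (hb : e (QuotientGroup.mk b) = pj sg)
    [hn : ((Subgroup.zpowers (b : G)).subgroupOf
      (Subgroup.centralizer (Subgroup.zpowers (b : G) : Set G))).Normal] :
    IsOfLargeFischerType (↥(Subgroup.centralizer (Subgroup.zpowers (b : G) : Set G)) ⧸
      (Subgroup.zpowers (b : G)).subgroupOf (Subgroup.centralizer (Subgroup.zpowers (b : G) : Set G))) := by
  obtain ⟨R, hR, h, -⟩ := main_fi_at F b hb3 hb (QuotientGroup.mk' ((Subgroup.zpowers (b : G)).subgroupOf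
      (Subgroup.centralizer (Subgroup.zpowers (b : G) : Set G)))) (QuotientGroup.mk'_surjective _)
    (fun x => by rw [QuotientGroup.mk'_apply, QuotientGroup.eq_one_iff, Subgroup.mem_subgroupOf])
    (by
      rw [Subgroup.zpowers_eq_closure, Subgroup.centralizer_closure, Subgroup.mem_centralizer_singleton_iff]
      exact (Subgroup.mem_centralizer_singleton_iff.1 b.2).symm)
  exact ⟨_, R, hR, h⟩

end CfsgLib.Sporadic.MonsterFusion.FI
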