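import Cfsg.Agent.Lib.Sporadic.MonsterFusion.Base
import Cfsg.Agent.Lib.ThreeTransp.LeechMonster
import Cfsg.Agent.Lib.ThreeTransp.LeechShort
import Cfsg.Agent.Lib.Sporadic.LeechModTwo
import Cfsg.Agent.Lib.SmallGroups.LeechTransitive

/-!
The dictionary between `Q/Z(Q)` and the lattice modulo twice the lattice.
-/

set_option autoImplicit false

namespace CfsgLib.Sporadic.MonsterFusion

open Cfsg CfsgLib.ThreeTransp CfsgLib.ThreeTransp.Extraspecial CfsgLib.ThreeTransp.LeechMonster
  CfsgLib.ThreeTransp.LeechForm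

/-- The projection onto the quotient by the centre. -/
noncomputable abbrev pj : Co0 →* Spor.Co1 := QuotientGroup.mk' (Subgroup.center Co0)

/-- Congruence modulo twice the lattice. -/
def Cong (v w : leechLattice) : Prop := ∃ x : leechLattice, v = w + (x + x)

theorem cong_smul (g : Co0) {v w : leechLattice} (h : Cong v w) : Cong (g • v) (g • w) := by
  obtain ⟨x, rfl⟩ := h
  exact ⟨g • x, by rw [smul_add', smul_add']⟩

theorem cong_short {v w : leechLattice} (h : Cong v w) (hv : sqNorm (v : GolayPt → ℤ) ≤ 64)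
    (hw : sqNorm (w : GolayPt → ℤ) ≤ 64) :
    v = w ∨ v = -w ∨ (sqNorm (v : GolayPt → ℤ) = 64 ∧ sqNorm (w : GolayPt → ℤ) = 64) := by
  obtain ⟨x, hx⟩ := h
  by_cases e : (v : GolayPt → ℤ) = w
  · exact Or.inl (Subtype.ext e)
  rcases LeechShort.short_congr w.2 e hv hw ⟨x, x.2, by
      rw [hx, AddSubgroup.coe_add, AddSubgroup.coe_add, add_sub_cancel_left, two_nsmul]⟩ with h' | h'
  · exact Or.inr (Or.inl (Subtype.ext h'))
  · exact Or.inr (Or.inr ⟨h'.1, h'.2.1⟩)

variable {G : Type*} [Group G] [Finite G] {z : G} {Q : Subgroup (Subgroup.centralizer ({z} : Set G))}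
  [Q.Normal] {e : (Subgroup.centralizer ({z} : Set G)) ⧸ Q ≃* Spor.Co1}
  {ψ : leechLattice → Q ⧸ Subgroup.center Q}

/-- The hypotheses of Monster type with a chosen identification. -/
structure Frame (Q : Subgroup (Subgroup.centralizer ({z} : Set G))) [Q.Normal]
    (e : (Subgroup.centralizer ({z} : Set G)) ⧸ Q ≃* Spor.Co1)
    (ψ : leechLattice → Q ⧸ Subgroup.center Q) : Prop where
  core : IsExtraspecialCentralizerSetting z Q 12
  iso : IsLeechModTwoIso Q e ψ

/-- The central involution inside its centraliser. -/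
def zC (z : G) : Subgroup.centralizer ({z} : Set G) :=
  ⟨z, Subgroup.mem_centralizer_singleton_iff.2 rfl⟩

/-- `q` lies over the class of `v`. -/
def Rep (ψ : leechLattice → Q ⧸ Subgroup.center Q) (v : leechLattice) (q : Q) : Prop :=
  ψ v = QuotientGroup.mk q

/-- `q` lies over the class of some vector of squared length `k`. -/
def Cl (ψ : leechLattice → Q ⧸ Subgroup.center Q) (k : ℤ) (q : Q) : Prop :=
  ∃ v : leechLattice, sqNorm (v : GolayPt → ℤ) = k ∧ Rep ψ v q

namespace Frame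

theorem setting (F : Frame Q e ψ) :
    Setting z (Q.map (Subgroup.centralizer ({z} : Set G)).subtype) 12 :=
  setting_of F.core (by norm_num)

theorem extra (F : Frame Q e ψ) : Extra Q (zC z) := by
  obtain ⟨t, ht⟩ := exists_extra (G := Subgroup.centralizer ({z} : Set G)) F.core.2.2.1
  have hz : zC z ∈ Q := by
    obtain ⟨x, hx, hxe⟩ := F.setting.ext.z_mem
    rwa [show zC z = x from Subtype.ext hxe.symm]
  rcases ht.mem_center_cases hz (fun q _ =>
      Subtype.ext (Subgroup.mem_centralizer_singleton_iff.1 q.2).symm) with h | h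
  · exact absurd (congrArg Subtype.val h) F.setting.ext.z_ne
  · exact h ▸ ht

theorem center_iff (F : Frame Q e ψ) {c : Q} : c ∈ Subgroup.center Q ↔
    (c : Subgroup.centralizer ({z} : Set G)) = 1 ∨ (c : Subgroup.centralizer ({z} : Set G)) = zC z := by
  refine ⟨F.extra.eq_one_or_z_of_mem_center, fun h => Subgroup.mem_center_iff.2 fun q => ?_⟩
  apply Subtype.ext
  rcases h with h | h
  · simp [h]
  · simp only [Subgroup.coe_mul, h]
    exact (F.extra.z_comm q.2).symm

theorem exists_rep (v : leechLattice) : ∃ q : Q, Rep ψ v q :=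
  (QuotientGroup.mk_surjective (ψ v)).imp fun _ h => h.symm

theorem exists_vec (F : Frame Q e ψ) (q : Q) : ∃ v, Rep ψ v q := F.iso.2.1 _

theorem rep_mul (F : Frame Q e ψ) {v w : leechLattice} {a b : Q} (ha : Rep ψ v a) (hb : Rep ψ w b) :
    Rep ψ (v + w) (a * b) := by
  rw [Rep, F.iso.1, ha, hb, QuotientGroup.mk_mul]

theorem rep_unique (F : Frame Q e ψ) {v : leechLattice} {a b : Q} (ha : Rep ψ v a) (hb : Rep ψ v b) :
    (b : Subgroup.centralizer ({z} : Set G)) = a ∨
      (b : Subgroup.centralizer ({z} : Set G)) = a * zC z := by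
  have hc : a⁻¹ * b ∈ Subgroup.center Q := QuotientGroup.eq.1 (ha.symm.trans hb)
  have hb' : (b : Subgroup.centralizer ({z} : Set G)) =
      a * ((a⁻¹ * b : Q) : Subgroup.centralizer ({z} : Set G)) := by simp
  rcases F.center_iff.1 hc with h | h <;> rw [hb', h]
  · exact Or.inl (mul_one _)
  · exact Or.inr rfl

theorem psi_eq_iff (F : Frame Q e ψ) {v w : leechLattice} : ψ v = ψ w ↔ Cong v w := by
  constructor
  · intro h
    have h1 : ψ ((v - w) + w) = ψ (v - w) * ψ w := F.iso.1 _ _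
    rw [sub_add_cancel, h, right_eq_mul] at h1
    obtain ⟨x, hx⟩ := (F.iso.2.2.1 _).1 h1
    exact ⟨x, by rw [← hx, add_sub_cancel]⟩
  · rintro ⟨x, rfl⟩
    rw [F.iso.1, (F.iso.2.2.1 _).2 ⟨x, rfl⟩, mul_one]

theorem rep_smul (F : Frame Q e ψ) {h : Subgroup.centralizer ({z} : Set G)} {g : Co0}
    (hg : pj g = e (QuotientGroup.mk h)) {v : leechLattice} {q : Q} (hq : Rep ψ v q) :
    Rep ψ (g • v) ⟨h * q * h⁻¹, (inferInstance : Q.Normal).conj_mem _ q.2 h⟩ :=
  F.iso.2.2.2 h g hg v q hq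

theorem exists_lift (g : Co0) : ∃ h : Subgroup.centralizer ({z} : Set G),
    pj g = e (QuotientGroup.mk h) := by
  obtain ⟨h, hh⟩ := QuotientGroup.mk_surjective (e.symm (pj g))
  exact ⟨h, by rw [hh, e.apply_symm_apply]⟩

theorem orbit (F : Frame Q e ψ) {g : Co0} {v : leechLattice} {q q' : Q} (hq : Rep ψ v q)
    (hq' : Rep ψ (g • v) q') (h1 : (q' : Subgroup.centralizer ({z} : Set G)) ≠ 1)
    (hz : (q' : Subgroup.centralizer ({z} : Set G)) ≠ zC z) :
    ∃ h : Subgroup.centralizer ({z} : Set G), pj g = e (QuotientGroup.mk h) ∧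
      h * q * h⁻¹ = q' := by
  obtain ⟨h, hh⟩ := exists_lift (e := e) g
  rcases F.rep_unique (F.rep_smul hh hq) hq' with r | r
  · exact ⟨h, hh, r.symm⟩
  · obtain ⟨k, hk, hkq⟩ := F.extra.exists_conj_eq q'.2 h1 hz
    refine ⟨k * h, ?_, ?_⟩
    · rw [QuotientGroup.mk_mul, (QuotientGroup.eq_one_iff k).2 hk, one_mul, hh]
    · simp only at r
      calc k * h * q * (k * h)⁻¹ = k * (h * q * h⁻¹) * k⁻¹ := by group
        _ = k * ((q' : Subgroup.centralizer ({z} : Set G)) * zC z) * k⁻¹ := by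
          rw [r, mul_assoc _ (zC z) (zC z), F.extra.z_sq, mul_one]
        _ = k * q' * k⁻¹ * (k * zC z * k⁻¹) := by group
        _ = q' := by
          rw [hkq, ← F.extra.z_comm hk, mul_inv_cancel_right, mul_assoc, F.extra.z_sq, mul_one]

/-- The image of a centraliser in `Q` is the stabiliser of a class. -/
theorem stab_iff (F : Frame Q e ψ) {v : leechLattice} {q : Q} (hq : Rep ψ v q)
    (h1 : (q : Subgroup.centralizer ({z} : Set G)) ≠ 1)
    (hz : (q : Subgroup.centralizer ({z} : Set G)) ≠ zC z)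
    (x : (Subgroup.centralizer ({z} : Set G)) ⧸ Q) :
    (∃ h : Subgroup.centralizer ({z} : Set G), QuotientGroup.mk h = x ∧ h * q = q * h) ↔
      ∃ g : Co0, pj g = e x ∧ Cong (g • v) v := by
  constructor
  · rintro ⟨h, rfl, hh⟩
    obtain ⟨g, hg⟩ := QuotientGroup.mk_surjective (e (QuotientGroup.mk h))
    refine ⟨g, hg, F.psi_eq_iff.1 ?_⟩
    refine ((F.rep_smul hg hq).trans ?_).trans hq.symm
    exact congrArg _ (Subtype.ext (show h * q * h⁻¹ = q by rw [hh, mul_inv_cancel_right]))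
  · rintro ⟨g, hg, hc⟩
    obtain ⟨h, hh, hq'⟩ := F.orbit hq (q' := q) ((F.psi_eq_iff.2 hc).trans hq) h1 hz
    exact ⟨h, e.injective (hh.symm.trans hg), mul_inv_eq_iff_eq_mul.1 hq'⟩

/-- The squaring map is the norm form. -/
theorem sqv_rep (F : Frame Q e ψ) {v : leechLattice} {q : Q} (hq : Rep ψ v q) :
    sqv (q : Subgroup.centralizer ({z} : Set G)) = qf v := by
  classical
  obtain ⟨⟨-, -, hext, hcard, -⟩, ⟨hadd, hsurj, hker, heq⟩⟩ := F
  obtain ⟨t, ht⟩ := exists_extra hext
  have hlift : ∀ (v : leechLattice) (q q' : Q), Rep ψ v q → Rep ψ v q' →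
      sqv (q' : Subgroup.centralizer ({z} : Set G)) = sqv (q : Subgroup.centralizer ({z} : Set G)) := by
    intro v q q' h1 h2
    have hc : q⁻¹ * q' ∈ Subgroup.center Q := QuotientGroup.eq.1 (h1.symm.trans h2)
    have hk := ht.eq_one_or_z_of_mem_center hc
    have e : (q' : Subgroup.centralizer ({z} : Set G)) =
        (q : Subgroup.centralizer ({z} : Set G)) *
          ((q⁻¹ * q' : Q) : Subgroup.centralizer ({z} : Set G)) := by simp
    rw [sqv, sqv, e, mul_t_sq ht q.2 hk]
  choose lift hlift' using exists_rep (ψ := ψ)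
  set T : leechLattice → ZMod 2 := fun v => sqv (lift v : Subgroup.centralizer ({z} : Set G))
    with hT
  have hTq : ∀ (v : leechLattice) (q : Q), Rep ψ v q →
      T v = sqv (q : Subgroup.centralizer ({z} : Set G)) := fun v q h => hlift v q _ h (hlift' v)
  have hmul : ∀ u v, ψ (u + v) = QuotientGroup.mk (lift u * lift v) := fun u v => by
    rw [hadd, hlift' u, hlift' v, QuotientGroup.mk_mul]
  have hform : LeechForm.Form T := by
    refine ⟨fun v w => ?_, fun u v w => ?_, fun g v => ?_⟩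
    · exact hTq _ _ (show ψ _ = _ by rw [hadd, (hker (w + w)).2 ⟨w, rfl⟩, mul_one]; exact hlift' v)
    · have h3 : ψ (u + v + w) = QuotientGroup.mk (lift u * lift v * lift w) := by
        rw [hadd, hmul u v, hlift' w, ← QuotientGroup.mk_mul]
      rw [hTq _ _ h3, hTq _ _ (hmul u v), hTq _ _ (hmul u w), hTq _ _ (hmul v w)]
      exact quad_sqv ht (lift u).2 (lift v).2 (lift w).2
    · obtain ⟨h, hh⟩ := exists_lift (e := e) g
      rw [hTq _ _ (heq h g hh v (lift v) (hlift' v))]
      simp only [hT]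
      refine sqv_congr ?_
      constructor
      · intro hc
        have := congrArg (fun x => h⁻¹ * x * h) hc
        simpa [mul_assoc] using this
      · intro hc
        calc h * (lift v : Subgroup.centralizer ({z} : Set G)) * h⁻¹ *
              (h * (lift v : Subgroup.centralizer ({z} : Set G)) * h⁻¹) =
            h * ((lift v : Subgroup.centralizer ({z} : Set G)) * lift v) * h⁻¹ := by group
          _ = 1 := by rw [hc]; group
  have hne : ∃ v, T v ≠ 0 := by
    by_contra hall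
    push Not at hall
    have h2 : ∀ q : Q, q * q = 1 := fun q => by
      obtain ⟨v, hv⟩ := hsurj (QuotientGroup.mk q)
      have h0 := hall v
      rw [hTq v q hv, sqv] at h0
      by_contra hne
      rw [if_neg (fun hc => hne (Subtype.ext (by simpa using hc)))] at h0
      exact one_ne_zero h0
    have hcomm : ∀ a b : Q, a * b = b * a := by
      intro a b
      calc a * b = (a * b)⁻¹ := eq_inv_of_mul_eq_one_left (h2 _)
        _ = b * a := by rw [mul_inv_rev, inv_eq_of_mul_eq_one_left (h2 a),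
              inv_eq_of_mul_eq_one_left (h2 b)]
    have htop : Subgroup.center Q = ⊤ :=
      eq_top_iff.2 fun a _ => Subgroup.mem_center_iff.2 fun b => hcomm b a
    have h4 := hext.2
    rw [htop, Subgroup.card_top, hcard] at h4
    norm_num at h4
  rw [← hTq v q hq]
  exact LeechForm.eq_qf_of_ne hform hne v

theorem sq_iff (F : Frame Q e ψ) {v : leechLattice} {q : Q} (hq : Rep ψ v q) :
    (q : Subgroup.centralizer ({z} : Set G)) * q = 1 ↔ (32 : ℤ) ∣ sqNorm (v : GolayPt → ℤ) := by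
  classical
  have h := F.sqv_rep hq
  rw [sqv, qf] at h
  have h16 := SmallGroups.LeechBasic.sixteen_dvd (SmallGroups.LeechBasic.mem_lattice.1 v.2)
  constructor
  · intro hs
    rw [if_pos hs] at h
    have := (ZMod.intCast_zmod_eq_zero_iff_dvd _ 2).1 h.symm
    omega
  · intro hd
    by_contra hs
    rw [if_neg hs, (ZMod.intCast_zmod_eq_zero_iff_dvd _ 2).2 (by omega)] at h
    exact one_ne_zero h

theorem comm_iff (F : Frame Q e ψ) {v w : leechLattice} {a b : Q} (ha : Rep ψ v a) (hb : Rep ψ w b) :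
    (a : Subgroup.centralizer ({z} : Set G)) * b = b * a ↔
      (16 : ℤ) ∣ dotInt (v : GolayPt → ℤ) (w : GolayPt → ℤ) := by
  classical
  have h := LeechMonster.sqv_mul F.extra a.2 b.2
  rw [← Subgroup.coe_mul, F.sqv_rep (F.rep_mul ha hb), F.sqv_rep ha, F.sqv_rep hb] at h
  have hp : cv (a : Subgroup.centralizer ({z} : Set G)) (b : Subgroup.centralizer ({z} : Set G)) =
      pol qf v w := by
    rw [pol, h]
    exact (show ∀ x y c : ZMod 2, c = x + y + c + x + y by decide) _ _ _
  rw [pol_qf, cv] at hp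
  have h8 := eight_dvd_dot v w
  constructor
  · intro hc
    rw [if_pos hc] at hp
    have := (ZMod.intCast_zmod_eq_zero_iff_dvd _ 2).1 hp.symm
    omega
  · intro hd
    by_contra hc
    rw [if_neg hc, (ZMod.intCast_zmod_eq_zero_iff_dvd _ 2).2 (by omega)] at hp
    exact one_ne_zero hp

theorem rep_ne (F : Frame Q e ψ) {k : ℤ} (hk : k = 32 ∨ k = 64) {q : Q} (hq : Cl ψ k q) :
    (q : Subgroup.centralizer ({z} : Set G)) ≠ 1 ∧
      (q : Subgroup.centralizer ({z} : Set G)) ≠ zC z := by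
  rw [← not_or]
  intro h
  obtain ⟨v, hv, hr⟩ := hq
  have h1 : ψ v = 1 := hr.trans ((QuotientGroup.eq_one_iff q).2 (F.center_iff.2 h))
  obtain ⟨x, hx⟩ := (F.iso.2.2.1 v).1 h1
  have h0 : x ≠ 0 := fun e => by
    rw [hx, e] at hv
    simp [sqNorm] at hv
    omega
  have h32 := SmallGroups.LeechBasic.thirtytwo_le (SmallGroups.LeechBasic.mem_lattice.1 x.2)
    (fun e => h0 (Subtype.ext e))
  rw [hx, AddSubgroup.coe_add, ← two_nsmul, LeechShort.sqNorm_two_nsmul] at hv
  omega

theorem not_both (F : Frame Q e ψ) {q : Q} (h : Cl ψ 32 q) (h' : Cl ψ 64 q) : False := by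
  obtain ⟨v, hv, hr⟩ := h
  obtain ⟨w, hw, hr'⟩ := h'
  rcases cong_short (F.psi_eq_iff.1 (hr.trans hr'.symm)) (by omega) (by omega) with e | e | e
  · rw [e] at hv; omega
  · rw [e, AddSubgroup.coe_neg, LeechShort.sqNorm_neg] at hv; omega
  · omega

theorem cases (F : Frame Q e ψ) (q : Q) (hq : (q : Subgroup.centralizer ({z} : Set G)) * q = 1)
    (h1 : (q : Subgroup.centralizer ({z} : Set G)) ≠ 1)
    (hz : (q : Subgroup.centralizer ({z} : Set G)) ≠ zC z) : Cl ψ 32 q ∨ Cl ψ 64 q := by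
  obtain ⟨v, hv⟩ := F.exists_vec q
  obtain ⟨y, hy, hyn, x, hx, hxy⟩ := LeechModTwo.exists_short v.2
  have hr : Rep ψ ⟨y, hy⟩ q := by
    refine (F.psi_eq_iff.2 ⟨-⟨x, hx⟩, Subtype.ext ?_⟩).trans hv
    simp only [AddSubgroup.coe_add, AddSubgroup.coe_neg, eq_add_of_sub_eq hxy, two_nsmul]
    abel
  have h32 := (F.sq_iff hr).1 hq
  by_cases hy0 : y = 0
  · exfalso
    have h0 : ψ ⟨y, hy⟩ = 1 := (F.iso.2.2.1 _).2 ⟨0, Subtype.ext (by simp [hy0])⟩
    rcases F.center_iff.1 ((QuotientGroup.eq_one_iff q).1 (hr.symm.trans h0)) with h | h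
    exacts [h1 h, hz h]
  have := SmallGroups.LeechBasic.thirtytwo_le (SmallGroups.LeechBasic.mem_lattice.1 hy) hy0
  simp only at h32
  rcases (show sqNorm y = 32 ∨ sqNorm y = 64 by omega) with h | h
  · exact Or.inl ⟨_, h, hr⟩
  · exact Or.inr ⟨_, h, hr⟩

theorem transitive (F : Frame Q e ψ) {k : ℤ} (hk : k = 32 ∨ k = 64) {q q' : Q} (hq : Cl ψ k q)
    (hq' : Cl ψ k q') : ∃ h : Subgroup.centralizer ({z} : Set G), h * q * h⁻¹ = q' := by
  obtain ⟨h1, h2⟩ := F.rep_ne hk hq'
  obtain ⟨v, hv, hr⟩ := hq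
  obtain ⟨w, hw, hr'⟩ := hq'
  obtain ⟨g, hg⟩ : ∃ g : Co0, g • v = w := by
    rcases hk with rfl | rfl
    · exact SmallGroups.LeechTransitive.transitive32 v w hv hw
    · exact SmallGroups.LeechTransitive.transitive64 v w hv hw
  obtain ⟨h, -, hh⟩ := F.orbit hr (g := g) (q' := q') (by rw [hg]; exact hr') h1 h2
  exact ⟨h, hh⟩

end Frame

end CfsgLib.Sporadic.MonsterFusion
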