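import Cfsg.Agent.Lib.Sporadic.MonsterFusion.Frame
import Cfsg.Agent.Lib.SmallGroups.LeechCo2
import Cfsg.Agent.Lib.SmallGroups.LeechCenter

/-!
The conjugates of `z` in `Q` are the classes of squared length 64.
-/

set_option autoImplicit false

namespace CfsgLib.Sporadic.MonsterFusion

open Cfsg CfsgLib.ThreeTransp CfsgLib.ThreeTransp.Extraspecial CfsgLib.ThreeTransp.LeechForm
  CfsgLib.SmallGroups

theorem finite_Co0 : Finite Co0 :=
  Nat.finite_of_card_ne_zero (by rw [LeechOrder.card_Co0]; norm_num)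

/-- Negation. -/
noncomputable def negG : Co0 := ⟨LeechCenter.negLat, LeechCenter.negLat_mem⟩

theorem negG_smul (v : leechLattice) : negG • v = -v := rfl

theorem smul_neg_vec (g : Co0) (v : leechLattice) : g • (-v) = -(g • v) :=
  map_neg (AddMonoidHom.mk' (g : Equiv.Perm leechLattice) g.2.1) v

theorem negG_central : negG ∈ Subgroup.center Co0 := by
  refine Subgroup.mem_center_iff.2 fun g => Subtype.ext (Equiv.ext fun v => ?_)
  show g • (negG • v) = negG • (g • v)
  rw [negG_smul, negG_smul, smul_neg_vec]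

theorem pj_negG : pj negG = 1 := (QuotientGroup.eq_one_iff _).2 negG_central

theorem short_cong_iff {v : leechLattice} (hv : sqNorm (v : GolayPt → ℤ) = 32) (g : Co0) :
    Cong (g • v) v ↔ g • v = v ∨ g • v = -v := by
  constructor
  · intro h
    have hn : sqNorm ((g • v : leechLattice) : GolayPt → ℤ) = 32 := (g.2.2 v).trans hv
    rcases cong_short h (by omega) (by omega) with e | e | e
    · exact Or.inl e
    · exact Or.inr e
    · omega
  · rintro (e | e) <;> rw [e]
    · exact ⟨0, by simp⟩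
    · exact ⟨-v, by abel⟩

theorem short_image {v : leechLattice} (hv : sqNorm (v : GolayPt → ℤ) = 32) (x : Spor.Co1) :
    (∃ g : Co0, pj g = x ∧ Cong (g • v) v) ↔ x ∈ (MulAction.stabilizer Co0 v).map pj := by
  constructor
  · rintro ⟨g, rfl, hg⟩
    rcases (short_cong_iff hv g).1 hg with e | e
    · exact Subgroup.mem_map_of_mem _ (MulAction.mem_stabilizer_iff.2 e)
    · refine ⟨negG * g, MulAction.mem_stabilizer_iff.2 ?_, ?_⟩
      · rw [mul_smul, e, negG_smul, neg_neg]
      · rw [map_mul, pj_negG, one_mul]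
  · rintro ⟨g, hg, rfl⟩
    exact ⟨g, rfl, (short_cong_iff hv g).2 (Or.inl (MulAction.mem_stabilizer_iff.1 hg))⟩

theorem short_simple {v : leechLattice} (hv : sqNorm (v : GolayPt → ℤ) = 32) :
    Nat.card ↥((MulAction.stabilizer Co0 v).map pj) = 42305421312000 ∧
      IsSimpleGroup ↥((MulAction.stabilizer Co0 v).map pj) ∧
        Function.Injective (pj.comp (MulAction.stabilizer Co0 v).subtype) := by
  have := finite_Co0
  obtain ⟨hs, hc⟩ := LeechCo2.isCo2 v hv
  set f := pj.comp (MulAction.stabilizer Co0 v).subtype with hf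
  have hinj : Function.Injective f := by
    rw [← MonoidHom.ker_eq_bot_iff]
    refine (hs.eq_bot_or_eq_top_of_normal f.ker inferInstance).resolve_right fun h => ?_
    have hle : MulAction.stabilizer Co0 v ≤ Subgroup.center Co0 := fun g hg =>
      (QuotientGroup.eq_one_iff g).1
        (show f ⟨g, hg⟩ = 1 from MonoidHom.mem_ker.1 (h ▸ Subgroup.mem_top _))
    have := Nat.card_le_card_of_injective _ (Subgroup.inclusion_injective hle)
    rw [hc, LeechCenter.card_center_Co0] at this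
    omega
  have hr : (MulAction.stabilizer Co0 v).map pj = f.range := by
    rw [hf, MonoidHom.range_comp, Subgroup.range_subtype]
  let E := (MonoidHom.ofInjective hinj).trans (MulEquiv.subgroupCongr hr.symm)
  exact ⟨by rw [← Nat.card_congr E.toEquiv, hc], E.symm.isSimpleGroup, hinj⟩

variable {G : Type*} [Group G] [Finite G] {z : G} {Q : Subgroup (Subgroup.centralizer ({z} : Set G))}
  [Q.Normal] {e : (Subgroup.centralizer ({z} : Set G)) ⧸ Q ≃* Spor.Co1}
  {ψ : leechLattice → Q ⧸ Subgroup.center Q}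

/-- The image in the Conway group of `C(z) ∩ Q^g`. -/
def eIm (e : (Subgroup.centralizer ({z} : Set G)) ⧸ Q ≃* Spor.Co1) (g : G) : Subgroup Spor.Co1 :=
  ((((Q.map (Subgroup.centralizer ({z} : Set G)).subtype).map (MulAut.conj g).toMonoidHom).subgroupOf
    (Subgroup.centralizer ({z} : Set G))).map (QuotientGroup.mk' Q)).map e.toMonoidHom

namespace Frame

theorem mem_eIm {g : G} {x : Spor.Co1} : x ∈ eIm e g ↔ ∃ h : Subgroup.centralizer ({z} : Set G),
    (h : G) ∈ (Q.map (Subgroup.centralizer ({z} : Set G)).subtype).map (MulAut.conj g).toMonoidHom ∧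
      e (QuotientGroup.mk h) = x := by
  constructor
  · rintro ⟨_, ⟨h, hh, rfl⟩, rfl⟩
    exact ⟨h, hh, rfl⟩
  · rintro ⟨h, hh, rfl⟩
    exact ⟨_, ⟨h, hh, rfl⟩, rfl⟩

theorem isPGroup_eIm (F : Frame Q e ψ) (g : G) : IsPGroup 2 ↥(eIm e g) := by
  refine ((IsPGroup.to_le ?_ le_rfl).map _).map _
  refine (F.setting.ext.isPGroup.map (MulAut.conj g).toMonoidHom).of_injective
    (MonoidHom.mk' (fun x => ⟨((x : Subgroup.centralizer ({z} : Set G)) : G), x.2⟩) fun _ _ => rfl)
    fun a b hab => Subtype.ext (Subtype.ext (congrArg Subtype.val hab :))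

/-- The image is non-trivial and normalised by the image of the joint centraliser. -/
theorem eIm_props (F : Frame Q e ψ) {g : G} {u : Q}
    (hu : g * z * g⁻¹ = ((u : Subgroup.centralizer ({z} : Set G)) : G))
    (hne : g * z * g⁻¹ ≠ z) :
    eIm e g ≠ ⊥ ∧ (∀ x ∈ eIm e g, ∃ h : Subgroup.centralizer ({z} : Set G),
        e (QuotientGroup.mk h) = x ∧ h * u = u * h) ∧
      ∀ h : Subgroup.centralizer ({z} : Set G), h * u = u * h →
        ∀ x ∈ eIm e g, e (QuotientGroup.mk h) * x * (e (QuotientGroup.mk h))⁻¹ ∈ eIm e g := by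
  have hmem : g * z * g⁻¹ ∈ Q.map (Subgroup.centralizer ({z} : Set G)).subtype := ⟨u, u.2, hu.symm⟩
  refine ⟨fun hb => ?_, fun x hx => ?_, fun h hh x hx => ?_⟩
  · obtain ⟨d, hd, hdz, hdQ⟩ := F.setting.exists_out hmem hne
    have hdC : d ∈ Subgroup.centralizer ({z} : Set G) := Subgroup.mem_centralizer_singleton_iff.2 hdz
    have h1 : e (QuotientGroup.mk ⟨d, hdC⟩) ∈ eIm e g := mem_eIm.2 ⟨⟨d, hdC⟩, hd, rfl⟩
    rw [hb, Subgroup.mem_bot, EmbeddingLike.map_eq_one_iff, QuotientGroup.eq_one_iff] at h1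
    exact hdQ ⟨⟨d, hdC⟩, h1, rfl⟩
  · obtain ⟨h, hh, rfl⟩ := mem_eIm.1 hx
    refine ⟨h, rfl, Subtype.ext ?_⟩
    have := (F.setting.ext.map_conj g).z_comm hh
    rw [hu] at this
    exact this.symm
  · obtain ⟨d, hd, rfl⟩ := mem_eIm.1 hx
    refine mem_eIm.2 ⟨h * d * h⁻¹, ?_, by simp⟩
    have hc : (h : G) * (g * z * g⁻¹) = g * z * g⁻¹ * h := by
      rw [hu]; exact congrArg Subtype.val hh
    exact F.setting.conj_normal hc hd

theorem not_short (F : Frame Q e ψ) {g : G} {u : Q}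
    (hu : g * z * g⁻¹ = ((u : Subgroup.centralizer ({z} : Set G)) : G))
    (hne : g * z * g⁻¹ ≠ z) : ¬ Cl ψ 32 u := by
  intro hcl
  obtain ⟨h1, h2⟩ := F.rep_ne (Or.inl rfl) hcl
  obtain ⟨v, hv, hr⟩ := hcl
  obtain ⟨hb, hle, hnorm⟩ := F.eIm_props hu hne
  obtain ⟨hcard, hsimp, -⟩ := short_simple hv
  set X := (MulAction.stabilizer Co0 v).map pj
  have hEX : eIm e g ≤ X := fun x hx => by
    obtain ⟨h, hh, hc⟩ := hle x hx
    obtain ⟨k, hk, hk'⟩ := (F.stab_iff hr h1 h2 _).1 ⟨h, rfl, hc⟩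
    exact (short_image hv x).1 ⟨k, hk.trans hh, hk'⟩
  have hn : ((eIm e g).subgroupOf X).Normal := by
    refine ⟨fun x hx y => ?_⟩
    obtain ⟨h, hh, hc⟩ := (F.stab_iff hr h1 h2 (e.symm y)).2 (by
      obtain ⟨k, hk, hk'⟩ := (short_image hv _).2 y.2
      exact ⟨k, by rw [e.apply_symm_apply, hk], hk'⟩)
    have := hnorm h hc _ (Subgroup.mem_subgroupOf.1 hx)
    rw [hh, e.apply_symm_apply] at this
    exact this
  rcases hsimp.eq_bot_or_eq_top_of_normal _ hn with h | h
  · exact hb ((Subgroup.subgroupOf_eq_bot.1 h).eq_bot_of_le hEX)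
  · have hXE : X = eIm e g := le_antisymm (Subgroup.subgroupOf_eq_top.1 h) hEX
    have : Finite Spor.Co1 := Finite.of_equiv _ e.toEquiv
    have : Fact (Nat.Prime 2) := ⟨Nat.prime_two⟩
    obtain ⟨n, hn⟩ := IsPGroup.iff_card.1 (F.isPGroup_eIm g)
    rw [← hXE, hcard] at hn
    have h5 : (5 : ℕ) ∣ 2 ^ n := hn ▸ by norm_num
    have := (by norm_num : Nat.Prime 5).dvd_of_dvd_pow h5
    norm_num at this

/-- The conjugates of `z` in `Q`, other than `z`, are the classes of squared length 64. -/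
theorem conj_iff (F : Frame Q e ψ) (x : Q) :
    (IsConj z ((x : Subgroup.centralizer ({z} : Set G)) : G) ∧
      ((x : Subgroup.centralizer ({z} : Set G)) : G) ≠ z) ↔ Cl ψ 64 x := by
  have key : ∀ (u : Q) (g : G), g * z * g⁻¹ = ((u : Subgroup.centralizer ({z} : Set G)) : G) →
      g * z * g⁻¹ ≠ z → Cl ψ 64 u := by
    intro u g hu hne
    have h2 : g * z * g⁻¹ ≠ 1 := fun h => F.setting.ext.z_ne (conj_eq_one_iff.1 h)
    rcases F.cases u (Subtype.ext (by
        show ((u : Subgroup.centralizer ({z} : Set G)) : G) * (u : Subgroup.centralizer ({z} : Set G)) = 1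
        rw [← hu, conj_mul, F.setting.ext.z_sq]; group))
      (fun h => h2 (hu.trans (congrArg Subtype.val h)))
      (fun h => hne (hu.trans (congrArg Subtype.val h))) with h | h
    · exact absurd h (F.not_short hu hne)
    · exact h
  constructor
  · rintro ⟨hc, hne⟩
    obtain ⟨g, hg⟩ := isConj_iff.1 hc
    exact key x g hg (hg ▸ hne)
  · intro hx
    obtain ⟨-, -, -, -, g, ⟨hq, hqQ⟩, hne⟩ := F.core
    obtain ⟨h, hh⟩ := F.transitive (Or.inr rfl) (key ⟨_, hqQ⟩ g rfl hne) hx
    refine ⟨isConj_iff.2 ⟨h * g, ?_⟩, fun he => (F.rep_ne (Or.inr rfl) hx).2 (Subtype.ext he)⟩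
    rw [← hh]
    simp [mul_assoc]

theorem nonconj_short (F : Frame Q e ψ) (x : Q)
    (h2 : orderOf ((x : Subgroup.centralizer ({z} : Set G)) : G) = 2)
    (hn : ¬ IsConj z ((x : Subgroup.centralizer ({z} : Set G)) : G)) : Cl ψ 32 x := by
  have h := pow_orderOf_eq_one ((x : Subgroup.centralizer ({z} : Set G)) : G)
  rw [h2, pow_two] at h
  rcases F.cases x (Subtype.ext h) (fun e => by simp [e] at h2)
    (fun e => hn (by rw [e]; exact IsConj.refl z)) with c | c
  · exact c
  · exact absurd ((F.conj_iff x).2 c).1 hn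

end Frame

end CfsgLib.Sporadic.MonsterFusion
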