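import Cfsg.Agent.Lib.Sporadic.MonsterFusion.HNFixed
import Cfsg.Agent.Lib.Sporadic.MonsterFusion.HeldLift

/-!
Generators of the centraliser of the element of order five and its intersection with the monomial
group.
-/

set_option autoImplicit false
set_option maxRecDepth 20000

namespace CfsgLib.Sporadic.MonsterFusion.HN

open Cfsg CfsgLib.SmallGroups CfsgLib.SmallGroups.Golay CfsgLib.SmallGroups.M24Group
  CfsgLib.Sporadic.M24Orbits CfsgLib.SmallGroups.LeechGroup CfsgLib.Sporadic.LeechCrossMax
  CfsgLib.Sporadic.LeechCrossData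

theorem sg_unit (i : GolayPt) : sg • LeechCenter.unitVec i = LeechCenter.unitVec (sigma i) := by
  refine Subtype.ext (funext fun q => ?_)
  rw [sg_apply]
  simp [LeechCenter.unitVec, Pi.single_apply, Equiv.symm_apply_eq]

/-- The image of a cycle under the permutation of index `t`. -/
def tau (t : Fin 12) (c : Fin 4) : Fin 4 := Fin.ofNat 4 ((tauT.getD t []).getD c 0)

/-- The shifts of index `t`. -/
def shiftOf (t : Fin 12) (c : Fin 4) : Fin 5 := Fin.ofNat 5 ((shiftT.getD t []).getD c 0)

/-- The candidate: cycles and fixed points go by `c`, the cycles are shifted by `s`. -/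
def cand (c : Fin 4 → Fin 4) (s : Fin 4 → Fin 5) (p : GolayPt) : GolayPt :=
  if h : (blk p : ℕ) < 4 then cpt (c ⟨blk p, h⟩) ((s ⟨blk p, h⟩ : ℕ) + pos p)
  else rep (Fin.ofNat 8 (4 + c ⟨(blk p : ℕ) - 4, by omega⟩))

theorem cand_ok : ∀ c : Fin 4 → Fin 4, (∀ i j, c i = c j → i = j) → ∀ s1 s2 s3 : Fin 5,
    (∀ i < 12, isCW (mask fun p => word (bas i) (cand c ![0, s1, s2, s3] p)) = true) →
      ∃ t, (∀ i, c i = tau t i) ∧ ∀ i, (![0, s1, s2, s3] : Fin 4 → Fin 5) i = shiftOf t i := by
  decide +kernel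

theorem pi_inj : ∀ t p q, cand (tau t) (shiftOf t) p = cand (tau t) (shiftOf t) q → p = q := by
  decide +kernel

/-- The twelve commuting permutations. -/
noncomputable def piP (t : Fin 12) : Equiv.Perm GolayPt :=
  Equiv.ofBijective (cand (tau t) (shiftOf t)) (Finite.injective_iff_bijective.1 fun p q => pi_inj t p q)

theorem piP_mem (t : Fin 12) : piP t ∈ M24 :=
  mem_M24_of_basis (f := cand (tau t) (shiftOf t)) (fun _ => rfl) (fun i hi =>
    (by decide +kernel : ∀ t : Fin 12, ∀ i < 12,
      isCW (mask fun p => word (bas i) (cand (tau t) (shiftOf t) p)) = true) t i hi)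

/-- The twelve commuting elements of `M24`. -/
noncomputable def piM (t : Fin 12) : M24 := ⟨piP t, piP_mem t⟩

theorem sM_comm (t : Fin 12) : piM t * sM = sM * piM t :=
  Subtype.ext (Equiv.ext fun p => (by decide +kernel : ∀ t p,
    cand (tau t) (shiftOf t) (tblFun sigT p) = tblFun sigT (cand (tau t) (shiftOf t) p)) t p)

theorem sM_pow : sM ^ 5 = 1 := Subtype.ext (Equiv.ext fun p => by
  rw [SubmonoidClass.coe_pow, Equiv.Perm.coe_pow]
  exact (by decide +kernel : ∀ p, (tblFun sigT)^[5] p = p) p)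

theorem cpt_surj : ∀ q, (∃ c : Fin 4, ∃ s : Fin 5, q = cpt c s) ∨ tblFun sigT q = q := by decide +kernel

theorem cpt_move : ∀ (c : Fin 4) (i : Fin 5), tblFun sigT (cpt c i) ≠ cpt c i := by decide +kernel

theorem fixd_surj : ∀ q, tblFun sigT q = q → ∃ f : Fin 4, q = rep (Fin.ofNat 8 (4 + f)) := by decide +kernel

theorem fixd_fix : ∀ j : Fin 4, tblFun sigT (rep (Fin.ofNat 8 (4 + j))) = rep (Fin.ofNat 8 (4 + j)) := by
  decide +kernel

theorem orbit_cpt : ∀ (c : Fin 4) (s i : Fin 5),
    (tblFun sigT)^[(i : ℕ)] (cpt c s) = cpt c ((s : ℕ) + i) := by decide +kernel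

/-- A cycle and three fixed points. -/
def cwB (c f : Fin 4) : GolayPt → ZMod 2 := fun p =>
  if (blk p : ℕ) = c ∨ (4 ≤ (blk p : ℕ) ∧ (blk p : ℕ) ≠ 4 + f) then 1 else 0

theorem cwB_iff : ∀ c f, isCW (mask (cwB c f)) = decide (c = f) := by decide +kernel

theorem pos_lt : ∀ p, pos p < 5 := by decide +kernel

/-- An element of `M24` commuting with ours is a power times one of the twelve. -/
theorem classify {π : M24} (h : π * sM = sM * π) : ∃ (n : ℕ) (t : Fin 12), π = sM ^ n * piM t := by
  have h' : ∀ p, (π : Equiv.Perm GolayPt) (tblFun sigT p) = tblFun sigT ((π : Equiv.Perm GolayPt) p) :=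
    fun p => congrArg (fun x : M24 => (x : Equiv.Perm GolayPt) p) h
  have hit : ∀ n p, (π : Equiv.Perm GolayPt) ((tblFun sigT)^[n] p) = (tblFun sigT)^[n] ((π : Equiv.Perm GolayPt) p) := by
    intro n
    induction n with
    | zero => intro p; rfl
    | succ n ih =>
      intro p
      simp only [Function.iterate_succ', Function.comp_apply, ← ih]
      exact h' _
  have hc : ∀ j : Fin 4, ∃ c : Fin 4, ∃ s : Fin 5, (π : Equiv.Perm GolayPt) (cpt j 0) = cpt c s := by
    intro j
    refine (cpt_surj _).resolve_right fun hq => cpt_move j 0 ?_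
    exact (π : Equiv.Perm GolayPt).injective ((h' _).trans hq)
  choose c s hcs using hc
  have hff : ∀ j : Fin 4, ∃ e : Fin 4, (π : Equiv.Perm GolayPt) (rep (Fin.ofNat 8 (4 + j))) =
      rep (Fin.ofNat 8 (4 + e)) := by
    intro j
    refine fixd_surj _ ?_
    rw [← h']
    exact congrArg _ (fixd_fix j)
  choose e he using hff
  have hrep : ∀ b : Fin 8, (hb : (b : ℕ) < 4) → rep b = cpt b 0 := fun b hb => if_pos hb
  have hπ : ∀ p, (π : Equiv.Perm GolayPt) p = if hb : (blk p : ℕ) < 4 then
      cpt (c ⟨blk p, hb⟩) ((s ⟨blk p, hb⟩ : ℕ) + pos p)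
      else rep (Fin.ofNat 8 (4 + e ⟨(blk p : ℕ) - 4, by omega⟩)) := by
    intro p
    conv_lhs => rw [← pos_spec p]
    rw [hit]
    by_cases hb : (blk p : ℕ) < 4
    · rw [dif_pos hb, hrep _ hb, show cpt (blk p : ℕ) 0 = cpt ((⟨blk p, hb⟩ : Fin 4) : ℕ) 0 from rfl, hcs]
      exact orbit_cpt _ _ ⟨pos p, pos_lt p⟩
    · rw [dif_neg hb]
      have e1 : (blk p) = Fin.ofNat 8 (4 + ((blk p : ℕ) - 4)) := by
        apply Fin.ext
        simp only [Fin.val_ofNat]
        omega
      have e2 := he ⟨(blk p : ℕ) - 4, by omega⟩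
      simp only at e2
      rw [← e1] at e2
      rw [e2]
      exact Function.iterate_fixed (fixd_fix _) _
  have hinjc : ∀ i j : Fin 4, c i = c j → i = j := by
    intro i j hij
    by_contra hne
    obtain ⟨k, hk⟩ := (by decide +kernel : ∀ (x y : Fin 5), ∃ k : Fin 5,
      ((x : ℕ) + k) % 5 = y) (s i) (s j)
    have hh : (π : Equiv.Perm GolayPt) ((tblFun sigT)^[(k : ℕ)] (cpt i 0)) = (π : Equiv.Perm GolayPt) (cpt j 0) := by
      rw [hit, hcs, hcs, orbit_cpt, hij, cpt, cpt, hk, Nat.mod_eq_of_lt (s j).2]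
    exact (by decide +kernel : ∀ (i j : Fin 4) (k : Fin 5), i ≠ j →
      (tblFun sigT)^[(k : ℕ)] (cpt i 0) ≠ cpt j 0) i j k hne ((π : Equiv.Perm GolayPt).injective hh)
  have hinje : ∀ i j : Fin 4, e i = e j → i = j := by
    intro i j hij
    have := he i
    rw [hij, ← he j] at this
    exact (by decide +kernel : ∀ a b : Fin 4, rep (Fin.ofNat 8 (4 + a)) = rep (Fin.ofNat 8 (4 + b)) → a = b)
      _ _ ((π : Equiv.Perm GolayPt).injective this)
  have hce : ∀ j, e j = c j := by
    intro j
    have hm : isCW (mask (cwB (c j) (e j))) = true := by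
      refine mem_code_iff_isCW.1 ?_
      have hw : cwB j j ∈ golayCode := mem_code_iff_isCW.2 (by rw [cwB_iff]; simp)
      convert LeechBasic.comp_mem_code (π⁻¹).2 hw using 1
      funext q
      obtain ⟨p, rfl⟩ := (π : Equiv.Perm GolayPt).surjective q
      rw [show ((π⁻¹ : M24) : Equiv.Perm GolayPt) ((π : Equiv.Perm GolayPt) p) = p from
        (π : Equiv.Perm GolayPt).symm_apply_apply p, hπ p]
      simp only [cwB]
      refine if_congr ?_ rfl rfl
      have hbl : ∀ (c : Fin 4) (x : ℕ), (blk (cpt c x) : ℕ) = c := fun c x => by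
        have := (by decide +kernel : ∀ (c : Fin 4) (x : Fin 5), (blk (cpt c x) : ℕ) = c) c
          ⟨x % 5, Nat.mod_lt _ (by norm_num)⟩
        simpa [cpt] using this
      have hbr : ∀ f : Fin 4, (blk (rep (Fin.ofNat 8 (4 + f))) : ℕ) = 4 + f := by decide +kernel
      by_cases hb : (blk p : ℕ) < 4
      · rw [dif_pos hb, hbl]
        constructor
        · rintro (r | r)
          · exact Or.inl (congrArg Fin.val (hinjc ⟨blk p, hb⟩ j (Fin.ext r)))
          · omega
        · rintro (r | r)
          · left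
            rw [show (⟨blk p, hb⟩ : Fin 4) = j from Fin.ext r]
          · omega
      · rw [dif_neg hb, hbr]
        constructor
        · rintro (r | ⟨-, r⟩)
          · omega
          · refine Or.inr ⟨by omega, fun heq => r ?_⟩
            rw [show (⟨(blk p : ℕ) - 4, by omega⟩ : Fin 4) = j from Fin.ext (by simp only; omega)]
        · rintro (r | ⟨-, r⟩)
          · omega
          · refine Or.inr ⟨by omega, fun heq => r ?_⟩
            have := congrArg Fin.val (hinje ⟨(blk p : ℕ) - 4, by omega⟩ j (Fin.ext (by omega)))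
            simp only at this
            omega
    rw [cwB_iff] at hm
    exact (of_decide_eq_true hm).symm
  obtain ⟨n, hn⟩ : ∃ n : Fin 5, ((s 0 : ℕ) + n) % 5 = 0 :=
    (by decide : ∀ x : Fin 5, ∃ n : Fin 5, ((x : ℕ) + n) % 5 = 0) _
  set s' : Fin 4 → Fin 5 := ![0, s 1 + n, s 2 + n, s 3 + n] with hs'
  have hpow : ∀ p, ((sM ^ (n : ℕ) * π : M24) : Equiv.Perm GolayPt) p = cand c s' p := by
    intro p
    rw [Subgroup.coe_mul, Equiv.Perm.mul_apply, SubmonoidClass.coe_pow, Equiv.Perm.coe_pow, hπ p,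
      show ⇑(sM : Equiv.Perm GolayPt) = tblFun sigT from rfl, cand]
    by_cases hb : (blk p : ℕ) < 4
    · rw [dif_pos hb, dif_pos hb]
      have hx : ∀ x : ℕ, (tblFun sigT)^[(n : ℕ)] (cpt (c ⟨blk p, hb⟩) x) = cpt (c ⟨blk p, hb⟩) (x + n) := by
        intro x
        have := orbit_cpt (c ⟨blk p, hb⟩) ⟨x % 5, Nat.mod_lt _ (by norm_num)⟩ n
        simpa [cpt, Nat.add_mod] using this
      rw [hx]
      have hsv : ∀ j : Fin 4, (s' j : ℕ) = ((s j : ℕ) + n) % 5 := by
        intro j
        fin_cases j <;> simp [hs', Fin.val_add, hn]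
      simp only [cpt, hsv]
      congr 2
      omega
    · rw [dif_neg hb, dif_neg hb, Function.iterate_fixed (fixd_fix _), hce]
  obtain ⟨t, hct, hst⟩ := cand_ok c hinjc (s 1 + n) (s 2 + n) (s 3 + n) fun i hi => by
    refine mem_code_iff_isCW.1 ?_
    simp only [← hs', ← hpow]
    exact LeechBasic.comp_mem_code (sM ^ (n : ℕ) * π).2 (word_bas_mem hi)
  refine ⟨5 - (n : ℕ), t, ?_⟩
  have hp : sM ^ (n : ℕ) * π = piM t := Subtype.ext (Equiv.ext fun p => by
    rw [hpow p, hs', funext hct, funext hst]; rfl)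
  rw [← hp, ← mul_assoc, ← pow_add, Nat.sub_add_cancel n.2.le, sM_pow, one_mul]

/-! ### Generators -/

/-- The word of a set of blocks given by a code number. -/
def wM (m : ℕ) : GolayPt → ZMod 2 := fun p => if m.testBit (blk p) then 1 else 0

theorem wM_code : ∀ m ∈ signT, isCW (mask (wM m)) = true := by decide +kernel

/-- The sign changes that generate the fixed ones. -/
noncomputable def sgnG (i : Fin 4) : monoSub :=
  sgn ⟨wM (signT.getD i 0), mem_code_iff_isCW.2 ((by decide +kernel :
    ∀ i : Fin 4, isCW (mask (wM (signT.getD i 0))) = true) i)⟩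

theorem sgn_commute_iff (w : golayCode) :
    Commute ((sgn w : monoSub) : Co0) sg ↔ ∀ p, (w : GolayPt → ZMod 2) (sigma p) = (w : GolayPt → ZMod 2) p := by
  constructor
  · intro h p
    have h1 : (sgn w : Co0) • (sg • LeechCenter.unitVec p) = sg • ((sgn w : Co0) • LeechCenter.unitVec p) := by
      rw [← mul_smul, ← mul_smul, h.eq]
    have h2 := congrFun (congrArg (fun v : leechLattice => (v : GolayPt → ℤ)) h1) (sigma p)
    simp only [sg_unit, sgn_apply, sg_apply, Equiv.symm_apply_apply, LeechCenter.unitVec,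
      Pi.single_eq_same] at h2
    rcases (show ∀ x : ZMod 2, x = 0 ∨ x = 1 by decide) ((w : GolayPt → ZMod 2) (sigma p)) with e | e <;>
      rcases (show ∀ x : ZMod 2, x = 0 ∨ x = 1 by decide) ((w : GolayPt → ZMod 2) p) with e' | e' <;>
      simp [e, e'] at h2 ⊢
  · intro h
    refine Held.co0_ext fun i => Subtype.ext (funext fun q => ?_)
    obtain ⟨p, rfl⟩ := sigma.surjective q
    rw [mul_smul, mul_smul, sgn_apply, sg_apply, sg_apply, sgn_apply, Equiv.symm_apply_apply, h]

theorem commute_permM {π : M24} (h : π * sM = sM * π) : Commute ((permM π : monoSub) : Co0) sg :=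
  congrArg Subtype.val (show permM π * permM sM = permM sM * permM π by rw [← map_mul, ← map_mul, h])

theorem exists_gen : ∃ g : Co0, Commute g sg ∧
    ∀ j : Fin 8, ((g • Bv j : leechLattice) : GolayPt → ℤ) = fv fun i => (imgT.getD j []).getD i 0 := by
  obtain ⟨g, hg⟩ := acts_run wordG (by decide +kernel)
  refine ⟨g, Held.co0_ext fun i => ?_, fun j => ?_⟩
  · rw [mul_smul, sg_unit, mul_smul]
    refine Subtype.ext (funext fun q => ?_)
    rw [sg_apply, hg, hg]
    exact (by decide +kernel : ∀ i q, run wordG (Pi.single (tblFun sigT i) 8) q =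
      run wordG (Pi.single i 8) (tblFun sigI q)) i q
  · funext q
    rw [hg]
    exact (by decide +kernel : ∀ j q, run wordG (fv (bas8 j)) q =
      fv (fun i => (imgT.getD j []).getD i 0) q) j q

/-- The non-monomial generator. -/
noncomputable def gG : Co0 := exists_gen.choose

/-- The seventeen generators. -/
noncomputable def gen (i : Fin 17) : Co0 :=
  if h : (i : ℕ) < 12 then ((permM (piM ⟨i, h⟩) : monoSub) : Co0)
  else if h' : (i : ℕ) < 16 then ((sgnG ⟨(i : ℕ) - 12, by omega⟩ : monoSub) : Co0) else gG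

theorem gen_commute (i : Fin 17) : Commute (gen i) sg := by
  unfold gen
  split_ifs with h h'
  · exact commute_permM (sM_comm _)
  · refine (sgn_commute_iff _).2 fun p => ?_
    exact (by decide +kernel : ∀ (j : Fin 4) p,
      wM (signT.getD j 0) (tblFun sigT p) = wM (signT.getD j 0) p) _ p
  · exact exists_gen.choose_spec.1

/-- The group generated by the element and the generators. -/
noncomputable def N : Subgroup Co0 := Subgroup.closure (insert sg (Set.range gen))

theorem sg_mem_N : sg ∈ N := Subgroup.subset_closure (Set.mem_insert _ _)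

theorem gen_mem_N (i : Fin 17) : gen i ∈ N := Subgroup.subset_closure (Set.mem_insert_of_mem _ ⟨i, rfl⟩)

theorem span_words : ∀ b : Fin 8 → Bool, isCW (mask (bword b)) = true → ∃ e : Fin 4 → Bool, ∀ j : Fin 8,
    b j = Bool.xor (e 0 && (signT.getD 0 0).testBit j) (Bool.xor (e 1 && (signT.getD 1 0).testBit j)
      (Bool.xor (e 2 && (signT.getD 2 0).testBit j) (e 3 && (signT.getD 3 0).testBit j))) := by
  decide +kernel

/-- The product of a subset of the sign generators. -/
noncomputable def sgnE (e : Fin 4 → Bool) : monoSub :=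
  (if e 0 then sgnG 0 else 1) * ((if e 1 then sgnG 1 else 1) *
    ((if e 2 then sgnG 2 else 1) * (if e 3 then sgnG 3 else 1)))

theorem sgnG_gen (i : Fin 4) : ((sgnG i : monoSub) : Co0) = gen (Fin.ofNat 17 (12 + i)) := by
  fin_cases i <;> rfl

theorem sgnE_mem (e : Fin 4 → Bool) : ((sgnE e : monoSub) : Co0) ∈ N := by
  have h : ∀ i, ((if e i then sgnG i else 1 : monoSub) : Co0) ∈ N := fun i => by
    split
    · rw [sgnG_gen]; exact gen_mem_N _
    · exact one_mem _
  exact mul_mem (h 0) (mul_mem (h 1) (mul_mem (h 2) (h 3)))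

theorem sgnE_apply (e : Fin 4 → Bool) (v : leechLattice) (q : GolayPt) :
    (((sgnE e : Co0)) • v : leechLattice).1 q =
      if Bool.xor (e 0 && (signT.getD 0 0).testBit (blk q)) (Bool.xor (e 1 && (signT.getD 1 0).testBit (blk q))
        (Bool.xor (e 2 && (signT.getD 2 0).testBit (blk q)) (e 3 && (signT.getD 3 0).testBit (blk q))))
      then -(v : GolayPt → ℤ) q else (v : GolayPt → ℤ) q := by
  have h : ∀ (i : Fin 4) (w : leechLattice), ((((if e i then sgnG i else 1 : monoSub) : Co0)) • w : leechLattice).1 q =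
      if (e i && (signT.getD i 0).testBit (blk q)) then -(w : GolayPt → ℤ) q else (w : GolayPt → ℤ) q := fun i w => by
    cases hi : e i
    · simp [one_smul]
    · simp only [if_true, Bool.true_and]
      rw [sgnG, sgn_apply]
      simp [wM]
  rw [sgnE, Subgroup.coe_mul, Subgroup.coe_mul, Subgroup.coe_mul, mul_smul, mul_smul, mul_smul, h, h, h, h]
  simp only [Fin.val_zero, Fin.val_one, Fin.val_two, show ((3 : Fin 4) : ℕ) = 3 from rfl]
  generalize (e 0 && (signT.getD 0 0).testBit (blk q)) = b0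
  generalize (e 1 && (signT.getD 1 0).testBit (blk q)) = b1
  generalize (e 2 && (signT.getD 2 0).testBit (blk q)) = b2
  generalize (e 3 && (signT.getD 3 0).testBit (blk q)) = b3
  cases b0 <;> cases b1 <;> cases b2 <;> cases b3 <;> simp

theorem mono_classify {g : Co0} (hg : g ∈ monoSub) (hc : Commute g sg) :
    ∃ (n : ℕ) (e : Fin 4 → Bool) (t : Fin 12), g = sg ^ n * (sgnE e * permM (piM t) : monoSub) := by
  set g' : monoSub := ⟨g, hg⟩
  have hc' : g' * permM sM = permM sM * g' := Subtype.ext hc.eq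
  have hπ : permOf g' * sM = sM * permOf g' := by
    rw [← permOf_permM sM, ← map_mul, ← map_mul, hc']
  obtain ⟨n, t, hnt⟩ := classify hπ
  obtain ⟨w, hw⟩ := exists_sgn (g := g' * (permM (permOf g'))⁻¹) (by
    rw [map_mul, map_inv, permOf_permM, mul_inv_cancel])
  have hwc : Commute ((sgn w : monoSub) : Co0) sg := by
    rw [← hw, Subgroup.coe_mul, Subgroup.coe_inv]
    exact hc.mul_left (commute_permM hπ).inv_left
  have hinv := (sgn_commute_iff w).1 hwc
  have hblk : ∀ p, (w : GolayPt → ZMod 2) p = (w : GolayPt → ZMod 2) (rep (blk p)) := by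
    have hi : ∀ n q, (w : GolayPt → ZMod 2) ((tblFun sigT)^[n] q) = (w : GolayPt → ZMod 2) q := by
      intro n
      induction n with
      | zero => intro q; rfl
      | succ n ih =>
        intro q
        rw [Function.iterate_succ', Function.comp]
        exact (hinv _).trans (ih q)
    intro p
    conv_lhs => rw [← pos_spec p]
    rw [hi]
  have hwb : (w : GolayPt → ZMod 2) = bword fun b => decide ((w : GolayPt → ZMod 2) (rep b) = 1) := by
    funext p
    rw [hblk p]
    simp only [bword, decide_eq_true_eq]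
    rcases (show ∀ x : ZMod 2, x = 0 ∨ x = 1 by decide) ((w : GolayPt → ZMod 2) (rep (blk p))) with r | r <;>
      simp [r]
  obtain ⟨e, he⟩ := span_words _ (mem_code_iff_isCW.1 (hwb ▸ w.2))
  have hwe : sgn w = sgnE e := by
    refine LeechGroup.ext_apply fun v q => ?_
    rw [sgn_apply, sgnE_apply, ← he (blk q)]
    rw [hblk q]
    rcases (show ∀ x : ZMod 2, x = 0 ∨ x = 1 by decide) ((w : GolayPt → ZMod 2) (rep (blk q))) with r | r <;>
      simp [r]
  refine ⟨n, e, t, ?_⟩
  have hg' : g = ((sgn w : monoSub) : Co0) * (sg ^ n * ((permM (piM t) : monoSub) : Co0)) := by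
    have : g' = sgn w * permM (permOf g') := by rw [← hw, inv_mul_cancel_right]
    rw [hnt, map_mul, map_pow] at this
    exact congrArg Subtype.val this
  rw [hg', ← mul_assoc, (hwc.pow_right n).eq, mul_assoc, ← hwe, Subgroup.coe_mul]

theorem mono_mem_N {g : Co0} (hg : g ∈ monoSub) (hc : Commute g sg) : g ∈ N := by
  obtain ⟨n, e, t, rfl⟩ := mono_classify hg hc
  refine mul_mem (pow_mem sg_mem_N n) ?_
  rw [Subgroup.coe_mul]
  refine mul_mem (sgnE_mem e) ?_
  have : ((permM (piM t) : monoSub) : Co0) = gen ⟨t, by omega⟩ := by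
    unfold gen
    rw [dif_pos t.2]
  rw [this]
  exact gen_mem_N _

end CfsgLib.Sporadic.MonsterFusion.HN
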