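import Cfsg.Agent.Lib.Sporadic.MonsterFusion.HNElts
import Cfsg.Prelude.Def_MonsterType

/-!
The centraliser of the element in the lattice group and its action on ten spaces of classes.
-/

set_option autoImplicit false
set_option maxRecDepth 20000

namespace CfsgLib.Sporadic.MonsterFusion.HN

open Cfsg CfsgLib.SmallGroups CfsgLib.SmallGroups.Golay CfsgLib.SmallGroups.M24Group
  CfsgLib.Sporadic.M24Orbits CfsgLib.SmallGroups.LeechGroup CfsgLib.Sporadic.LeechCrossMax
  CfsgLib.Sporadic.LeechCrossData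

theorem pow_smul_fixed {v : leechLattice} (h : sg • v = v) (n : ℕ) : sg ^ n • v = v := by
  induction n with
  | zero => rw [pow_zero, one_smul]
  | succ n ih => rw [pow_succ, mul_smul, h, ih]

theorem sg_kap (n : Fin 8 → ZMod 2) : sg • kap n = kap n := sg_fv (coe_kap n)

/-! ### The linear action on classes -/

/-- The class with the given code number. -/
def kof (k : ℕ) : Fin 8 → ZMod 2 := fun j => if k.testBit j then 1 else 0

/-- The preimage of a cycle. -/
def tauI (t : Fin 12) (c : Fin 4) : Fin 4 :=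
  if tau t 0 = c then 0 else if tau t 1 = c then 1 else if tau t 2 = c then 2 else 3

/-- A permutation of blocks. -/
def tau8 (t : Fin 12) (b : Fin 8) : Fin 8 :=
  if (b : ℕ) < 4 then Fin.ofNat 8 (tau t (Fin.ofNat 4 b) : ℕ) else Fin.ofNat 8 (4 + tau t (Fin.ofNat 4 b))

/-- Its inverse. -/
def tau8I (t : Fin 12) (b : Fin 8) : Fin 8 :=
  if (b : ℕ) < 4 then Fin.ofNat 8 (tauI t (Fin.ofNat 4 b) : ℕ) else Fin.ofNat 8 (4 + tauI t (Fin.ofNat 4 b))

theorem tau8I_spec : ∀ t b, tau8I t (tau8 t b) = b := by decide +kernel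

/-- The coordinates of the images of the basis vectors. -/
def imgV (i : Fin 17) (j : Fin 8) : Fin 8 → ℤ := fun b =>
  if h : (i : ℕ) < 12 then bas8 j (tau8I ⟨i, h⟩ b)
  else if (i : ℕ) < 16 then
    if (signT.getD ((i : ℕ) - 12) 0).testBit b then -bas8 j b else bas8 j b
  else (imgT.getD j []).getD b 0

theorem gen_Bv (i : Fin 17) (j : Fin 8) :
    ((gen i • Bv j : leechLattice) : GolayPt → ℤ) = fv (imgV i j) := by
  by_cases h : (i : ℕ) < 12
  · funext q
    obtain ⟨p, rfl⟩ := (piP ⟨i, h⟩).surjective q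
    rw [show gen i = ((permM (piM ⟨i, h⟩) : monoSub) : Co0) by rw [gen, dif_pos h], permM_apply,
      show ((piM ⟨i, h⟩ : M24) : Equiv.Perm GolayPt).symm (piP ⟨i, h⟩ p) = p from
        (piP ⟨i, h⟩).symm_apply_apply p]
    have hb : blk (piP ⟨i, h⟩ p) = tau8 ⟨i, h⟩ (blk p) :=
      (by decide +kernel : ∀ t p, blk (cand (tau t) (shiftOf t) p) = tau8 t (blk p)) _ p
    simp only [fv, imgV, dif_pos h, hb, tau8I_spec]
    rfl
  · by_cases h' : (i : ℕ) < 16
    · funext q
      rw [show gen i = ((sgnG ⟨(i : ℕ) - 12, by omega⟩ : monoSub) : Co0) by rw [gen, dif_neg h, dif_pos h'],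
        sgnG, sgn_apply]
      simp only [fv, imgV, dif_neg h, if_pos h', wM, Bv]
      split_ifs <;> simp_all
    · rw [show gen i = gG by rw [gen, dif_neg h, dif_neg h']]
      rw [show imgV i j = fun (b : Fin 8) => (imgT.getD j []).getD b 0 by
        funext b; simp only [imgV, dif_neg h, if_neg h']]
      exact exists_gen.choose_spec.2 j

/-- The action of a generator on classes. -/
def actL (i : Fin 17) (n : Fin 8 → ZMod 2) : Fin 8 → ZMod 2 :=
  ∑ j : Fin 8, n j • kof ((actT.getD i []).getD j 0)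

theorem cong_refl (v : leechLattice) : Cong v v := ⟨0, by simp⟩

theorem gen_Bv_cong (i : Fin 17) (j : Fin 8) :
    Cong (gen i • Bv j) (kap (kof ((actT.getD i []).getD j 0))) :=
  (cong_iff (gen_Bv i j) (coe_kap _)).2 ((by decide +kernel : ∀ i j,
    congB (imgV i j) (comb (kof ((actT.getD (i : Fin 17) []).getD (j : Fin 8) 0))) = true) i j)

theorem cong_add {a b c d : leechLattice} (h : Cong a b) (h' : Cong c d) : Cong (a + c) (b + d) := by
  obtain ⟨x, rfl⟩ := h
  obtain ⟨y, rfl⟩ := h'
  exact ⟨x + y, by abel⟩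

theorem cong_sum {s : Finset (Fin 8)} {f : Fin 8 → leechLattice} {m : Fin 8 → Fin 8 → ZMod 2}
    (h : ∀ j, Cong (f j) (kap (m j))) : Cong (∑ j ∈ s, f j) (kap (∑ j ∈ s, m j)) := by
  induction s using Finset.induction_on with
  | empty =>
    rw [Finset.sum_empty, Finset.sum_empty, show kap 0 = 0 by simp [kap]]
    exact cong_refl 0
  | insert a s ha ih =>
    rw [Finset.sum_insert ha, Finset.sum_insert ha]
    exact Held.cong_trans (cong_add (h a) ih) (kap_add _ _)

theorem gen_kap (i : Fin 17) (n : Fin 8 → ZMod 2) : Cong (gen i • kap n) (kap (actL i n)) := by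
  let φ : leechLattice →+ leechLattice := AddMonoidHom.mk' (gen i : Equiv.Perm leechLattice) (gen i).2.1
  show Cong (φ (∑ j, (n j).val • Bv j)) _
  rw [map_sum]
  refine cong_sum fun j => ?_
  rw [map_nsmul]
  rcases (show ∀ x : ZMod 2, x = 0 ∨ x = 1 by decide) (n j) with e | e <;> rw [e]
  · rw [ZMod.val_zero, zero_smul, zero_smul, show kap 0 = 0 by simp [kap]]
    exact cong_refl 0
  · rw [ZMod.val_one, one_smul, one_smul]
    exact gen_Bv_cong i j

/-- The product of a word in the generators. -/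
noncomputable def gW (l : List (Fin 17)) : Co0 := (l.map gen).prod

/-- Its action on classes. -/
def actW (l : List (Fin 17)) (n : Fin 8 → ZMod 2) : Fin 8 → ZMod 2 := l.foldr actL n

theorem gW_kap : ∀ (l : List (Fin 17)) (n : Fin 8 → ZMod 2), Cong (gW l • kap n) (kap (actW l n))
  | [], n => by rw [gW, List.map_nil, List.prod_nil, one_smul]; exact cong_refl _
  | i :: l, n => by
    rw [gW, List.map_cons, List.prod_cons, mul_smul]
    exact Held.cong_trans (cong_smul _ (gW_kap l n)) (gen_kap i _)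

theorem gW_commute : ∀ l : List (Fin 17), Commute (gW l) sg
  | [] => Commute.one_left _
  | i :: l => by
    rw [gW, List.map_cons, List.prod_cons]
    exact (gen_commute i).mul_left (gW_commute l)

/-- The word leading to a class. -/
def wk (k : ℕ) : List (Fin 17) :=
  ((List.range 6).map fun s => (treeT >>> (32 * k + 5 * s)) % 32).takeWhile (fun g => g != 0) |>.map
    fun g => Fin.ofNat 17 (g - 1)

theorem wk_spec : ∀ n, maskT.testBit (kn n) = true → actW (wk (kn n)) (kof 128) = n := by decide +kernel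

theorem base_kap : Cong LeechOrder.base8 (kap (kof 128)) := by
  refine Held.cong_trans (v := LeechCenter.unitVec (rep 4)) ?_ ((cong_iff
    (a := ![0, 0, 0, 0, 8, 0, 0, 0]) (funext fun p => (by decide +kernel : ∀ p,
      (Pi.single (rep 4) 8 : GolayPt → ℤ) p = fv ![0, 0, 0, 0, 8, 0, 0, 0] p) p) (coe_kap _)).2
    (by decide +kernel))
  refine ⟨⟨Pi.single none 4 - Pi.single (rep 4) 4, LeechBasic.mem_lattice.2 (LeechReach.good_of_ok
    (m := 0) (by decide +kernel))⟩, Subtype.ext (funext fun p => ?_)⟩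
  simp only [AddSubgroup.coe_add, Pi.add_apply, LeechOrder.coe_base8, LeechCenter.unitVec]
  exact (by decide +kernel : ∀ p, (Pi.single none 8 : GolayPt → ℤ) p = (Pi.single (rep 4) 8 : GolayPt → ℤ) p +
    ((Pi.single none 4 - Pi.single (rep 4) 4 : GolayPt → ℤ) p +
      (Pi.single none 4 - Pi.single (rep 4) 4 : GolayPt → ℤ) p)) p

theorem gW_base {n : Fin 8 → ZMod 2} (h : maskT.testBit (kn n) = true) :
    Cong (gW (wk (kn n)) • LeechOrder.base8) (kap n) := by
  have := Held.cong_trans (cong_smul (gW (wk (kn n))) base_kap) (gW_kap (wk (kn n)) _)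
  rwa [wk_spec n h] at this

theorem sg_pow_mem (n : ℕ) : sg ^ n ∈ monoSub := pow_mem (permM sM).2 n

/-- The image of the base class under a commuting element. -/
theorem exists_class {g : Co0} (hg : Commute g sg) :
    ∃ n, maskT.testBit (kn n) = true ∧ Cong (g • LeechOrder.base8) (kap n) := by
  have hu : sg • LeechCenter.unitVec (rep 4) = LeechCenter.unitVec (rep 4) := by
    rw [sg_unit]
    exact congrArg _ (fixd_fix 0)
  have hfix : sg • (g • LeechCenter.unitVec (rep 4)) = g • LeechCenter.unitVec (rep 4) := by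
    rw [smul_smul, ← hg.eq, mul_smul, hu]
  obtain ⟨n, hn⟩ := span _ hfix
  refine ⟨n, cl64 ?_ hn, ?_⟩
  · refine (g.2.2 _).trans ?_
    exact (by decide +kernel : ∀ p : GolayPt, sqNorm (Pi.single p 8 : GolayPt → ℤ) = 64) _
  · refine Held.cong_trans (cong_smul g ?_) hn
    refine Held.cong_trans base_kap (Held.cong_symm ?_)
    exact (cong_iff (a := ![0, 0, 0, 0, 8, 0, 0, 0]) (funext fun p => (by decide +kernel : ∀ p,
      (Pi.single (rep 4) 8 : GolayPt → ℤ) p = fv ![0, 0, 0, 0, 8, 0, 0, 0] p) p) (coe_kap _)).2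
      (by decide +kernel)

/-- A commuting element is a word times a monomial one. -/
theorem exists_word {g : Co0} (hg : Commute g sg) :
    ∃ (n : Fin 8 → ZMod 2) (h : Co0), maskT.testBit (kn n) = true ∧ Cong (g • LeechOrder.base8) (kap n) ∧
      h ∈ monoSub ∧ Commute h sg ∧ g = gW (wk (kn n)) * h := by
  obtain ⟨n, hn, hc⟩ := exists_class hg
  refine ⟨n, (gW (wk (kn n)))⁻¹ * g, hn, hc, (cong_base _).1 ?_, (gW_commute _).inv_left.mul_left hg,
    (mul_inv_cancel_left _ _).symm⟩
  have := cong_smul (gW (wk (kn n)))⁻¹ (Held.cong_trans hc (Held.cong_symm (gW_base hn)))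
  rwa [inv_smul_smul, smul_smul] at this

theorem gW_mem_N : ∀ l : List (Fin 17), gW l ∈ N
  | [] => one_mem _
  | i :: l => by
    rw [gW, List.map_cons, List.prod_cons]
    exact mul_mem (gen_mem_N i) (gW_mem_N l)

theorem commute_mem_N {g : Co0} (hg : Commute g sg) : g ∈ N := by
  obtain ⟨n, h, -, -, hm, hc, rfl⟩ := exists_word hg
  exact mul_mem (gW_mem_N _) (mono_mem_N hm hc)

theorem cong_pj {g g' : Co0} (h : pj g = pj g') (v : leechLattice) : Cong (g • v) (g' • v) := by
  have h2 : g'⁻¹ * g ∈ Subgroup.center Co0 := by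
    refine (QuotientGroup.eq_one_iff _).1 ?_
    show pj (g'⁻¹ * g) = 1
    rw [map_mul, map_inv, h, inv_mul_cancel]
  rcases center_cases' h2 with r | r
  · rw [inv_mul_eq_one.1 r]
    exact cong_refl _
  · rw [inv_mul_eq_iff_eq_mul.1 r, mul_smul, negG_smul, smul_neg_vec]
    exact ⟨-(g' • v), by abel⟩

/-! ### The ten spaces -/

/-- The number of a space. -/
def sidx : Fin 5 ⊕ Fin 5 → ℕ := Sum.elim (fun a => (a : ℕ)) fun a => 5 + (a : ℕ)

/-- Membership in a space. -/
def inS (x : Fin 5 ⊕ Fin 5) (n : Fin 8 → ZMod 2) : Bool := (maskS.getD (sidx x) 0).testBit (kn n)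

/-- An element permutes the spaces in the given way. -/
def Moves (g : Co0) (p : Equiv.Perm (Fin 5 ⊕ Fin 5)) : Prop :=
  ∀ x n, inS x n = true → ∃ n', inS (p x) n' = true ∧ Cong (g • kap n) (kap n')

theorem moves_one : Moves 1 1 := fun x n h => ⟨n, h, by rw [one_smul]; exact cong_refl _⟩

theorem moves_mul {g g' : Co0} {p p' : Equiv.Perm (Fin 5 ⊕ Fin 5)} (h : Moves g p) (h' : Moves g' p') :
    Moves (g * g') (p * p') := by
  intro x n hn
  obtain ⟨n', hn', hc'⟩ := h' x n hn
  obtain ⟨n'', hn'', hc⟩ := h _ n' hn'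
  refine ⟨n'', hn'', ?_⟩
  rw [mul_smul]
  exact Held.cong_trans (cong_smul g hc') hc

theorem moves_pow {g : Co0} {p : Equiv.Perm (Fin 5 ⊕ Fin 5)} (h : Moves g p) : ∀ k : ℕ, Moves (g ^ k) (p ^ k)
  | 0 => by rw [pow_zero, pow_zero]; exact moves_one
  | k + 1 => by rw [pow_succ, pow_succ]; exact moves_mul (moves_pow h k) h

theorem moves_sg (k : ℕ) : Moves (sg ^ k) 1 := fun x n h =>
  ⟨n, h, by rw [pow_smul_fixed (sg_kap n)]; exact cong_refl _⟩

theorem inS_card : ∀ x, (Finset.univ.filter fun n => inS x n).card = 16 := by decide +kernel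

theorem inS_inter : ∀ x y, x ≠ y → (Finset.univ.filter fun n => inS x n && inS y n).card < 16 := by
  decide +kernel

theorem moves_unique {g : Co0} {p p' : Equiv.Perm (Fin 5 ⊕ Fin 5)} (h : Moves g p) (h' : Moves g p') :
    p = p' := by
  refine Equiv.ext fun x => ?_
  by_contra hne
  refine (inS_inter _ _ hne).not_ge ?_
  rw [← inS_card x]
  refine Finset.card_le_card_of_injOn (fun n => if hn : inS x n then (h x n hn).choose else n) (fun n hn => ?_) ?_
  · rw [Finset.mem_coe, Finset.mem_filter] at hn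
    obtain ⟨n', hn', hc'⟩ := h' x n hn.2
    obtain ⟨ha, hc⟩ := (h x n hn.2).choose_spec
    have : (h x n hn.2).choose = n' := kap_inj (Held.cong_trans (Held.cong_symm hc) hc')
    simp only [Finset.coe_filter, Finset.mem_univ, true_and, Set.mem_ofPred_eq, dif_pos hn.2, Bool.and_eq_true]
    exact ⟨ha, this ▸ hn'⟩
  · intro n hn m hm hnm
    simp only [Finset.coe_filter, Finset.mem_univ, true_and, Set.mem_ofPred_eq] at hn hm
    simp only [dif_pos hn, dif_pos hm] at hnm
    have a := (h x n hn).choose_spec.2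
    have b := (h x m hm).choose_spec.2
    rw [← hnm] at b
    have := cong_smul g⁻¹ (Held.cong_trans a (Held.cong_symm b))
    rw [inv_smul_smul, inv_smul_smul] at this
    exact kap_inj this

/-- An even permutation of five letters, given by its values. -/
def listF (l : List ℕ) (a : Fin 5) : Fin 5 := Fin.ofNat 5 (l.getD a 0)

/-- The inverse of a map of five letters. -/
def invF (f : Fin 5 → Fin 5) (a : Fin 5) : Fin 5 :=
  if f 0 = a then 0 else if f 1 = a then 1 else if f 2 = a then 2 else if f 3 = a then 3 else 4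

/-- The permutation of the first five spaces. -/
def sP (i : Fin 17) : Equiv.Perm (Fin 5) :=
  ⟨listF (wrT.getD i (false, [], [])).2.1, invF (listF (wrT.getD i (false, [], [])).2.1),
    (by decide +kernel : ∀ (i : Fin 17) a, invF (listF (wrT.getD i (false, [], [])).2.1)
      (listF (wrT.getD i (false, [], [])).2.1 a) = a) i,
    (by decide +kernel : ∀ (i : Fin 17) a, listF (wrT.getD i (false, [], [])).2.1
      (invF (listF (wrT.getD i (false, [], [])).2.1) a) = a) i⟩

/-- The permutation of the last five spaces. -/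
def tP (i : Fin 17) : Equiv.Perm (Fin 5) :=
  ⟨listF (wrT.getD i (false, [], [])).2.2, invF (listF (wrT.getD i (false, [], [])).2.2),
    (by decide +kernel : ∀ (i : Fin 17) a, invF (listF (wrT.getD i (false, [], [])).2.2)
      (listF (wrT.getD i (false, [], [])).2.2 a) = a) i,
    (by decide +kernel : ∀ (i : Fin 17) a, listF (wrT.getD i (false, [], [])).2.2
      (invF (listF (wrT.getD i (false, [], [])).2.2) a) = a) i⟩

/-- The permutation of the spaces by a generator. -/
def pg (i : Fin 17) : Equiv.Perm (Fin 5 ⊕ Fin 5) :=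
  if (wrT.getD i (false, [], [])).1 then Equiv.sumComm (Fin 5) (Fin 5) * Equiv.Perm.sumCongr (sP i) (tP i)
  else Equiv.Perm.sumCongr (sP i) (tP i)

theorem pg_mem (i : Fin 17) : pg i ∈ alternatingFiveWreathTwo := by
  have h : Equiv.Perm.sumCongr (sP i) (tP i) ∈ alternatingFiveWreathTwo :=
    Subgroup.subset_closure (Or.inl ⟨⟨sP i, Equiv.Perm.mem_alternatingGroup.2
      ((by decide +kernel : ∀ i, Equiv.Perm.sign (sP i) = 1) i)⟩, ⟨tP i, Equiv.Perm.mem_alternatingGroup.2
      ((by decide +kernel : ∀ i, Equiv.Perm.sign (tP i) = 1) i)⟩, rfl⟩)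
  unfold pg
  split_ifs
  · exact mul_mem (Subgroup.subset_closure (Or.inr rfl)) h
  · exact h

theorem moves_gen (i : Fin 17) : Moves (gen i) (pg i) := fun x n hn =>
  ⟨actL i n, (by decide +kernel : ∀ i x n, inS x n = true → inS (pg i x) (actL i n) = true) i x n hn,
    gen_kap i n⟩

/-- The product of a word in the permutations. -/
def pW (l : List (Fin 17)) : Equiv.Perm (Fin 5 ⊕ Fin 5) := (l.map pg).prod

theorem moves_gW : ∀ l : List (Fin 17), Moves (gW l) (pW l)
  | [] => moves_one
  | i :: l => by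
    rw [gW, pW, List.map_cons, List.map_cons, List.prod_cons, List.prod_cons]
    exact moves_mul (moves_gen i) (moves_gW l)

theorem exists_moves {g : Co0} (hg : Commute g sg) : ∃ p ∈ alternatingFiveWreathTwo, Moves g p := by
  have := finite_Co0
  refine Subgroup.closure_induction (p := fun g _ => ∃ p ∈ alternatingFiveWreathTwo, Moves g p) ?_ ?_ ?_ ?_
    (commute_mem_N hg)
  · rintro _ (rfl | ⟨i, rfl⟩)
    · exact ⟨1, one_mem _, by simpa using moves_sg 1⟩
    · exact ⟨pg i, pg_mem i, moves_gen i⟩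
  · exact ⟨1, one_mem _, moves_one⟩
  · rintro a b _ _ ⟨p, hp, h⟩ ⟨p', hp', h'⟩
    exact ⟨p * p', mul_mem hp hp', moves_mul h h'⟩
  · rintro a _ ⟨p, hp, h⟩
    refine ⟨p ^ (orderOf a - 1), pow_mem hp _, ?_⟩
    rw [inv_eq_of_mul_eq_one_left (a := a ^ (orderOf a - 1)) (b := a) (by
      rw [← pow_succ, Nat.sub_add_cancel (orderOf_pos a), pow_orderOf_eq_one])]
    exact moves_pow h _

theorem moves_pj {g g' : Co0} {p : Equiv.Perm (Fin 5 ⊕ Fin 5)} (h : Moves g p) (e : pj g = pj g') :
    Moves g' p := fun x n hn => by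
  obtain ⟨n', hn', hc⟩ := h x n hn
  exact ⟨n', hn', Held.cong_trans (Held.cong_symm (cong_pj e _)) hc⟩

/-! ### The kernel -/

/-- The word of a monomial element. -/
def wE (e : Fin 4 → Bool) (t : Fin 12) : List (Fin 17) :=
  (if e 0 then [12] else []) ++ (if e 1 then [13] else []) ++ (if e 2 then [14] else []) ++
    (if e 3 then [15] else []) ++ [Fin.ofNat 17 (t : ℕ)]

theorem gW_wE (e : Fin 4 → Bool) (t : Fin 12) :
    gW (wE e t) = (sgnE e * permM (piM t) : monoSub) := by
  have h : ∀ i : Fin 4, ((if e i then sgnG i else 1 : monoSub) : Co0) =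
      gW (if e i then [Fin.ofNat 17 (12 + i)] else []) := fun i => by
    cases e i
    · rfl
    · rw [if_pos rfl, if_pos rfl, sgnG_gen]
      simp [gW]
  have hg : ((permM (piM t) : monoSub) : Co0) = gW [Fin.ofNat 17 (t : ℕ)] := by
    rw [gW, List.map_cons, List.map_nil, List.prod_singleton,
      show Fin.ofNat 17 (t : ℕ) = (⟨t, by omega⟩ : Fin 17) from Fin.ext (Nat.mod_eq_of_lt (by omega)), gen,
      dif_pos t.2]
  rw [Subgroup.coe_mul, sgnE, Subgroup.coe_mul, Subgroup.coe_mul, Subgroup.coe_mul, hg, h, h, h, h]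
  simp only [gW, wE, List.map_append, List.prod_append, mul_assoc]
  rfl

theorem piM_zero : piM 0 = 1 := Subtype.ext (Equiv.ext fun p =>
  (by decide +kernel : ∀ p, cand (tau 0) (shiftOf 0) p = p) p)

theorem sgnE_true : ((sgnE fun _ => true : monoSub) : Co0) = negG := by
  refine Subtype.ext (Equiv.ext fun v => Subtype.ext (funext fun q => ?_))
  show ((((sgnE fun _ => true : monoSub) : Co0)) • v : leechLattice).1 q = _
  rw [sgnE_apply, if_pos ((by decide +kernel : ∀ b : Fin 8,
    Bool.xor (true && (signT.getD 0 0).testBit b) (Bool.xor (true && (signT.getD 1 0).testBit b)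
      (Bool.xor (true && (signT.getD 2 0).testBit b) (true && (signT.getD 3 0).testBit b))) = true) (blk q))]
  rfl

theorem kernel_decide : ∀ n : Fin 8 → ZMod 2, maskT.testBit (kn n) = true → ∀ x y : Fin 5,
    (inS (Sum.inl x) n && inS (Sum.inr y) n && (inS (Sum.inl x) (kof 128) && inS (Sum.inr y) (kof 128))) = true →
    ∀ (e : Fin 4 → Bool) (t : Fin 12), decide (∀ a, pW (wk (kn n) ++ wE e t) a = a) = true →
      (decide (kn n = 128) && decide (t = 0) && decide (∀ i, e i = e 0)) = true := by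
  decide +kernel

theorem base_spaces : ∀ n, maskT.testBit (kn n) = true →
    ∃ x y : Fin 5, inS (Sum.inl x) n = true ∧ inS (Sum.inr y) n = true := by decide +kernel

/-- An element fixing all ten spaces is a power of the element up to sign. -/
theorem kernel {g : Co0} (hg : Commute g sg) (h : Moves g 1) : ∃ k : ℕ, pj g = pj sg ^ k := by
  obtain ⟨n, m, hn, hc, hm, hcm, rfl⟩ := exists_word hg
  obtain ⟨k, e, t, rfl⟩ := mono_classify hm hcm
  rw [← gW_wE] at h hc ⊢
  have hp : Moves (gW (wk (kn n)) * (sg ^ k * gW (wE e t))) (pW (wk (kn n) ++ wE e t)) := by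
    have := moves_mul (moves_gW (wk (kn n))) (moves_mul (moves_sg k) (moves_gW (wE e t)))
    rwa [one_mul, show pW (wk (kn n)) * pW (wE e t) = pW (wk (kn n) ++ wE e t) by
      rw [pW, pW, pW, List.map_append, List.prod_append]] at this
  have h1 := moves_unique hp h
  obtain ⟨x, y, hx, hy⟩ := base_spaces (kof 128) (by decide +kernel)
  have hin : ∀ s, inS s (kof 128) = true → inS s n = true := fun s hs => by
    obtain ⟨n', hn', hc'⟩ := h s _ hs
    have : n' = n := kap_inj (Held.cong_trans (Held.cong_symm hc')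
      (Held.cong_trans (cong_smul _ (Held.cong_symm base_kap)) hc))
    exact this ▸ hn'
  have hkd := kernel_decide n hn x y (by rw [hin _ hx, hin _ hy, hx, hy]; rfl) e t
    (decide_eq_true fun a => by rw [h1]; rfl)
  simp only [Bool.and_eq_true, decide_eq_true_eq] at hkd
  obtain ⟨⟨hk, rfl⟩, he⟩ := hkd
  refine ⟨k, ?_⟩
  rw [hk, show wk 128 = [] by decide +kernel, show gW [] = 1 from rfl, one_mul, map_mul, map_pow, mul_eq_left,
    gW_wE, piM_zero, map_one, mul_one]
  cases h0 : e 0
  · rw [show e = fun _ => false from funext fun i => (he i).trans h0]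
    simp [sgnE]
  · rw [show e = fun _ => true from funext fun i => (he i).trans h0, sgnE_true, pj_negG]

/-! ### The image -/

/-- The normal form of a permutation of the wreath product. -/
def wr (x : alternatingGroup (Fin 5) × alternatingGroup (Fin 5) × Bool) : Equiv.Perm (Fin 5 ⊕ Fin 5) :=
  if x.2.2 then Equiv.Perm.sumCongr (x.1 : Equiv.Perm (Fin 5)) (x.2.1 : Equiv.Perm (Fin 5)) *
    Equiv.sumComm (Fin 5) (Fin 5)
  else Equiv.Perm.sumCongr (x.1 : Equiv.Perm (Fin 5)) (x.2.1 : Equiv.Perm (Fin 5))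

theorem comm_sumCongr (a c : Equiv.Perm (Fin 5)) :
    (Equiv.sumComm (Fin 5) (Fin 5) : Equiv.Perm (Fin 5 ⊕ Fin 5)) * Equiv.Perm.sumCongr a c =
      Equiv.Perm.sumCongr c a * Equiv.sumComm (Fin 5) (Fin 5) :=
  Equiv.ext fun x => by cases x <;> rfl

theorem comm_sq : (Equiv.sumComm (Fin 5) (Fin 5) : Equiv.Perm (Fin 5 ⊕ Fin 5)) *
    Equiv.sumComm (Fin 5) (Fin 5) = 1 :=
  Equiv.ext fun x => by cases x <;> rfl

theorem mem_wr {p : Equiv.Perm (Fin 5 ⊕ Fin 5)} (hp : p ∈ alternatingFiveWreathTwo) : ∃ x, wr x = p := by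
  induction hp using Subgroup.closure_induction with
  | mem p hp =>
    rcases hp with ⟨a, c, rfl⟩ | rfl
    · exact ⟨(a, c, false), rfl⟩
    · exact ⟨(1, 1, true), by simp [wr]⟩
  | one => exact ⟨(1, 1, false), by simp [wr]⟩
  | mul p q _ _ h h' =>
    obtain ⟨⟨a, c, u⟩, rfl⟩ := h
    obtain ⟨⟨a', c', u'⟩, rfl⟩ := h'
    cases u <;> cases u'
    · exact ⟨(a * a', c * c', false), by simp [wr]⟩
    · exact ⟨(a * a', c * c', true), by simp [wr, ← mul_assoc]⟩
    · refine ⟨(a * c', c * a', true), ?_⟩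
      simp only [wr, if_true, Bool.false_eq_true, if_false, Subgroup.coe_mul]
      rw [mul_assoc, comm_sumCongr, ← mul_assoc, Equiv.Perm.sumCongr_mul]
    · refine ⟨(a * c', c * a', false), ?_⟩
      simp only [wr, if_true, Bool.false_eq_true, if_false, Subgroup.coe_mul]
      rw [mul_assoc, ← mul_assoc (Equiv.sumComm (Fin 5) (Fin 5) : Equiv.Perm (Fin 5 ⊕ Fin 5)), comm_sumCongr,
        mul_assoc, comm_sq, mul_one, Equiv.Perm.sumCongr_mul]
  | inv p _ h =>
    obtain ⟨⟨a, c, u⟩, rfl⟩ := h
    cases u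
    · exact ⟨(a⁻¹, c⁻¹, false), by simp [wr, Equiv.Perm.sumCongr_inv]⟩
    · refine ⟨(c⁻¹, a⁻¹, true), ?_⟩
      simp only [wr, if_true, Subgroup.coe_inv]
      rw [mul_inv_rev, inv_eq_of_mul_eq_one_left comm_sq, Equiv.Perm.sumCongr_inv, comm_sumCongr]

theorem card_wreath_le : Nat.card alternatingFiveWreathTwo ≤ 7200 := by
  refine (Nat.card_le_card_of_injective
    (β := alternatingGroup (Fin 5) × alternatingGroup (Fin 5) × Bool)
    (fun p : alternatingFiveWreathTwo => (mem_wr p.2).choose) fun p q h => Subtype.ext ?_).trans ?_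
  · rw [← (mem_wr p.2).choose_spec, ← (mem_wr q.2).choose_spec]
    exact congrArg wr h
  · rw [Nat.card_prod, Nat.card_prod, nat_card_alternatingGroup]
    simp [Nat.factorial]

theorem stab_inj : ∀ e e' : Fin 3 → Bool, ∀ t t' : Fin 12,
    (∀ a, pW (wE (Fin.cons false e) t) a = pW (wE (Fin.cons false e') t') a) → e = e' ∧ t = t' := by
  decide +kernel

theorem card_T : Nat.card {n : Fin 8 → ZMod 2 // maskT.testBit (kn n) = true} = 75 := by
  rw [Nat.card_eq_fintype_card, Fintype.card_subtype]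
  decide +kernel

/-- Every permutation of the wreath product occurs. -/
theorem moves_surj {p : Equiv.Perm (Fin 5 ⊕ Fin 5)} (hp : p ∈ alternatingFiveWreathTwo) :
    ∃ g, Commute g sg ∧ Moves g p := by
  classical
  set f : {n : Fin 8 → ZMod 2 // maskT.testBit (kn n) = true} × (Fin 3 → Bool) × Fin 12 →
      alternatingFiveWreathTwo := fun x => ⟨pW (wk (kn x.1.1) ++ wE (Fin.cons false x.2.1) x.2.2),
    list_prod_mem fun q hq => by
      obtain ⟨i, -, rfl⟩ := List.mem_map.1 hq
      exact pg_mem i⟩ with hf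
  have hm : ∀ l l' : List (Fin 17), pW (l ++ l') = pW l * pW l' := fun l l' => by
    rw [pW, pW, pW, List.map_append, List.prod_append]
  have hinj : Function.Injective f := by
    rintro ⟨⟨n, hn⟩, e, t⟩ ⟨⟨n', hn'⟩, e', t'⟩ h
    have h' := congrArg Subtype.val h
    simp only [hf, hm] at h'
    obtain ⟨q, -, hq⟩ := exists_moves (g := (gW (wk (kn n') ++ wE (Fin.cons false e') t'))⁻¹ *
      gW (wk (kn n) ++ wE (Fin.cons false e) t)) ((gW_commute _).inv_left.mul_left (gW_commute _))
    have hq' := moves_mul (moves_gW (wk (kn n') ++ wE (Fin.cons false e') t')) hq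
    rw [mul_inv_cancel_left] at hq'
    have hq1 := moves_unique hq' (moves_gW _)
    rw [hm, hm, h'] at hq1
    have hq2 : q = 1 := mul_eq_left.1 hq1
    obtain ⟨k, hk⟩ := kernel ((gW_commute _).inv_left.mul_left (gW_commute _)) (hq2 ▸ hq)
    rw [map_mul, map_inv, inv_mul_eq_iff_eq_mul, ← map_pow, ← map_mul] at hk
    have hmo : ∀ e t, gW (wE e t) ∈ monoSub := fun e t => by rw [gW_wE]; exact Subtype.coe_prop _
    have hgm : ∀ (l : List (Fin 17)) e t, gW (l ++ wE e t) = gW l * gW (wE e t) := fun l e t => by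
      rw [gW, gW, gW, List.map_append, List.prod_append]
    have hcl : ∀ n e t, maskT.testBit (kn n) = true →
        Cong (gW (wk (kn n) ++ wE e t) • LeechOrder.base8) (kap n) := fun n e t hn => by
      rw [hgm, mul_smul]
      exact Held.cong_trans (cong_smul _ ((cong_base _).2 (hmo e t))) (gW_base hn)
    have hnn : n = n' := by
      refine kap_inj (Held.cong_trans (Held.cong_symm (hcl n _ t hn)) (Held.cong_trans (cong_pj hk _) ?_))
      rw [mul_smul]
      exact Held.cong_trans (cong_smul _ ((cong_base _).2 (sg_pow_mem k))) (hcl n' _ t' hn')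
    subst hnn
    obtain ⟨rfl, rfl⟩ := stab_inj e e' t t' fun a => by rw [mul_left_cancel h']
    rfl
  have := Fintype.ofFinite alternatingFiveWreathTwo
  have hcard : Nat.card ({n : Fin 8 → ZMod 2 // maskT.testBit (kn n) = true} × (Fin 3 → Bool) × Fin 12) = 7200 := by
    rw [Nat.card_prod, card_T]
    simp
  have hsurj : Function.Surjective f := (Function.Injective.bijective_of_nat_card_le hinj
    (by rw [hcard]; exact card_wreath_le)).2
  obtain ⟨x, hx⟩ := hsurj ⟨p, hp⟩
  refine ⟨gW (wk (kn x.1.1) ++ wE (Fin.cons false x.2.1) x.2.2), gW_commute _, ?_⟩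
  rw [← show pW (wk (kn x.1.1) ++ wE (Fin.cons false x.2.1) x.2.2) = p from congrArg Subtype.val hx]
  exact moves_gW _

end CfsgLib.Sporadic.MonsterFusion.HN
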