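import Cfsg.Agent.Lib.Sporadic.MonsterFusion.HeldFixed

/-!
Commuting and inverting elements, and the centraliser of the element in the cross stabiliser.
-/

set_option autoImplicit false
set_option maxRecDepth 20000

namespace CfsgLib.Sporadic.MonsterFusion.Held

open Cfsg CfsgLib.SmallGroups CfsgLib.SmallGroups.Golay CfsgLib.SmallGroups.M24Group
  CfsgLib.Sporadic.M24Orbits CfsgLib.SmallGroups.LeechGroup CfsgLib.Sporadic.LeechCrossMax
  CfsgLib.Sporadic.LeechCrossData

/-- Two automorphisms agreeing on the coordinate vectors are equal. -/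
theorem co0_ext {g h : Co0} (e : ∀ i, g • LeechCenter.unitVec i = h • LeechCenter.unitVec i) : g = h := by
  refine Subtype.ext (Equiv.ext fun v => ?_)
  have hv : (8 : ℤ) • v = ∑ j, ((v : GolayPt → ℤ) j) • LeechCenter.unitVec j := by
    refine Subtype.ext (funext fun k => ?_)
    simp only [AddSubgroup.coe_zsmul, AddSubgroup.val_finsetSum, Finset.sum_apply, Pi.smul_apply,
      smul_eq_mul, LeechCenter.unitVec]
    rw [Finset.sum_eq_single k (fun j _ hj => by simp [Ne.symm hj]) (by simp), Pi.single_eq_same]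
    ring
  let F : leechLattice →+ leechLattice := AddMonoidHom.mk' (g : Equiv.Perm leechLattice) g.2.1
  let H : leechLattice →+ leechLattice := AddMonoidHom.mk' (h : Equiv.Perm leechLattice) h.2.1
  show F v = H v
  have h8 : (8 : ℤ) • F v = (8 : ℤ) • H v := by
    rw [← map_zsmul, ← map_zsmul, hv, map_sum, map_sum]
    refine Finset.sum_congr rfl fun j _ => ?_
    rw [map_zsmul, map_zsmul]
    exact congrArg _ (e j)
  refine Subtype.ext (funext fun k => ?_)
  have := congrFun (congrArg (fun w : leechLattice => (w : GolayPt → ℤ)) h8) k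
  simp only [AddSubgroup.coe_zsmul, Pi.smul_apply, smul_eq_mul] at this
  omega

theorem sg_unit (i : GolayPt) : sg • LeechCenter.unitVec i = LeechCenter.unitVec (sigma i) := by
  refine Subtype.ext (funext fun q => ?_)
  rw [sg_apply]
  simp [LeechCenter.unitVec, Pi.single_apply, Equiv.symm_apply_eq]

theorem sg_inv_unit (i : GolayPt) :
    sg⁻¹ • LeechCenter.unitVec i = LeechCenter.unitVec (sigma.symm i) := by
  rw [inv_smul_eq_iff, sg_unit, Equiv.apply_symm_apply]

/-- The word intertwines the permutation with the given table and the element. -/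
def intB (t : List ℕ) (l : List Step) : Bool :=
  l.all okStep && decide (∀ i q, run l (Pi.single (tblFun t i) 8) q =
    run l (Pi.single i 8) (tblFun sigI q))

/-- The image of the base vector. -/
def imgB (l : List Step) (a : Fin 6 → ℤ) : Bool :=
  decide (∀ q, run l (Pi.single none 8) q = fv a q)

theorem exists_of_word {t : List ℕ} {l : List Step} {a : Fin 6 → ℤ} (h : intB t l = true)
    (h' : imgB l a = true) (x : Co0) (hx : ∀ i, x • LeechCenter.unitVec i = LeechCenter.unitVec (tblFun t i)) :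
    ∃ g : Co0, g * x = sg * g ∧ ((g • LeechOrder.base8 : leechLattice) : GolayPt → ℤ) = fv a := by
  simp only [intB, Bool.and_eq_true, decide_eq_true_eq] at h
  simp only [imgB, decide_eq_true_eq] at h'
  obtain ⟨g, hg⟩ := acts_run l h.1
  refine ⟨g, co0_ext fun i => ?_, (hg _).trans (funext h')⟩
  rw [mul_smul, hx, mul_smul]
  refine Subtype.ext (funext fun q => ?_)
  rw [sg_apply, hg, hg]
  exact h.2 i q

/-- An element commuting with ours that moves the base class within its orbit. -/
theorem exists_gU : ∃ g : Co0, Commute g sg ∧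
    Cong (g • LeechOrder.base8) (kap fun j => if (60 : ℕ).testBit j then 1 else 0) := by
  obtain ⟨g, hg, hb⟩ := exists_of_word (t := sigT) (l := wordU) (a := ![0, 0, 2, -4, 4, 2])
    (by decide +kernel) (by decide +kernel) sg sg_unit
  exact ⟨g, hg, (cong_iff hb (coe_kap _)).2 (by decide +kernel)⟩

/-- An inverting element reaching the first class outside the orbit. -/
theorem exists_gA : ∃ g : Co0, g * sg⁻¹ = sg * g ∧
    Cong (g • LeechOrder.base8) (kap fun j => if (4 : ℕ).testBit j then 1 else 0) := by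
  obtain ⟨g, hg, hb⟩ := exists_of_word (t := sigI) (l := wordA) (a := ![-2, -2, 0, -2, -2, 0])
    (by decide +kernel) (by decide +kernel) sg⁻¹ sg_inv_unit
  exact ⟨g, hg, (cong_iff hb (coe_kap _)).2 (by decide +kernel)⟩

/-- An inverting element reaching the second class outside the orbit. -/
theorem exists_gB : ∃ g : Co0, g * sg⁻¹ = sg * g ∧
    Cong (g • LeechOrder.base8) (kap fun j => if (25 : ℕ).testBit j then 1 else 0) := by
  obtain ⟨g, hg, hb⟩ := exists_of_word (t := sigI) (l := wordB) (a := ![-1, -1, -1, -5, 3, 3])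
    (by decide +kernel) (by decide +kernel) sg⁻¹ sg_inv_unit
  exact ⟨g, hg, (cong_iff hb (coe_kap _)).2 (by decide +kernel)⟩

theorem base_kap : Cong LeechOrder.base8 (kap fun j => if (32 : ℕ).testBit j then 1 else 0) :=
  (cong_iff (a := ![0, 0, 0, 0, 0, 8]) (funext fun p =>
    (by decide +kernel : ∀ p, (Pi.single none 8 : GolayPt → ℤ) p = fv ![0, 0, 0, 0, 0, 8] p) p)
    (coe_kap _)).2 (by decide +kernel)

/-! ### Candidates in `M24` -/

/-- The image of a block under a permutation of letters. -/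
def tau6 (t : Fin 6) (b : Fin 6) : Fin 6 :=
  Fin.ofNat 6 ((tauT.getD t []).getD ((b : ℕ) % 3) 0 + 3 * ((b : ℕ) / 3))

/-- The inverse permutation of letters. -/
def tinv (t : Fin 6) : Fin 6 := ![0, 1, 2, 4, 3, 5] t

theorem tinv_spec : ∀ t b, tau6 (tinv t) (tau6 t b) = b ∧ tau6 t (tau6 (tinv t) b) = b := by decide +kernel

/-- The candidate: blocks go by `t`, the cycles are shifted by `s`, and `d` reverses them. -/
def cand (d : Bool) (t : Fin 6) (s : Fin 3 → Fin 7) (p : GolayPt) : GolayPt :=
  if h : (blk p : ℕ) < 3 then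
    cpt (tau6 t (blk p)) ((s ⟨blk p, h⟩ : ℕ) + if d then 7 - pos p else pos p)
  else rep (tau6 t (blk p))

/-- The shifts of the valid candidates. -/
def shiftOf (t : Fin 6) : Fin 3 → Fin 7 :=
  ![0, Fin.ofNat 7 (shiftT.getD t (0, 0)).1, Fin.ofNat 7 (shiftT.getD t (0, 0)).2]

theorem cand_ok : ∀ d t (s2 s3 : Fin 7),
    (∀ i < 12, isCW (mask fun p => word (bas i) (cand d t ![0, s2, s3] p)) = true) →
      d = false ∧ ![0, s2, s3] = shiftOf t := by decide +kernel

theorem pi_inj : ∀ t p q, cand false t (shiftOf t) p = cand false t (shiftOf t) q → p = q := by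
  decide +kernel

/-- The six commuting permutations. -/
noncomputable def piP (t : Fin 6) : Equiv.Perm GolayPt :=
  Equiv.ofBijective (cand false t (shiftOf t)) (Finite.injective_iff_bijective.1 fun p q => pi_inj t p q)

theorem piP_mem (t : Fin 6) : piP t ∈ M24 :=
  mem_M24_of_basis (f := cand false t (shiftOf t)) (fun _ => rfl) (fun i hi =>
    (by decide +kernel : ∀ t : Fin 6, ∀ i < 12,
      isCW (mask fun p => word (bas i) (cand false t (shiftOf t) p)) = true) t i hi)

/-- The six commuting elements of `M24`. -/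
noncomputable def piM (t : Fin 6) : M24 := ⟨piP t, piP_mem t⟩

theorem sM_comm (t : Fin 6) : piM t * sM = sM * piM t :=
  Subtype.ext (Equiv.ext fun p => (by decide +kernel : ∀ t p,
    cand false t (shiftOf t) (tblFun sigT p) = tblFun sigT (cand false t (shiftOf t) p)) t p)

theorem cpt_surj : ∀ q, (∃ c : Fin 3, ∃ s : Fin 7, q = cpt c s) ∨ tblFun sigT q = q := by decide +kernel

theorem cpt_move : ∀ (c : Fin 3) (i : Fin 7), tblFun sigT (cpt c i) ≠ cpt c i := by decide +kernel

theorem fixd_surj : ∀ q, tblFun sigT q = q → ∃ f : Fin 3, q = rep (Fin.ofNat 6 (3 + f)) := by decide +kernel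

theorem orbit_cpt : ∀ (d : Bool) (c : Fin 3) (s i : Fin 7),
    (tblFun (if d then sigI else sigT))^[(i : ℕ)] (cpt c s) =
      cpt c ((s : ℕ) + if d then 7 - (i : ℕ) else i) := by decide +kernel

/-- An octad of a cycle and a fixed point. -/
def cwB (c f : Fin 3) : GolayPt → ZMod 2 := fun p =>
  if (blk p : ℕ) = c ∨ (blk p : ℕ) = 3 + f then 1 else 0

theorem cwB_iff : ∀ c f, isCW (mask (cwB c f)) = decide (c = f) := by decide +kernel

theorem pos_lt : ∀ p, pos p < 7 := by decide +kernel

theorem rep_lt : ∀ b : Fin 6, (b : ℕ) < 3 → rep b = cpt b 0 := fun b h => if_pos h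

/-- An element of `M24` commuting with or inverting ours is a power times one of the six. -/
theorem classify {π : M24} {d : Bool} (h : ∀ p,
    (π : Equiv.Perm GolayPt) (sigma p) = tblFun (if d then sigI else sigT) ((π : Equiv.Perm GolayPt) p)) :
    d = false ∧ ∃ (n : ℕ) (t : Fin 6), π = sM ^ n * piM t := by
  set f := tblFun (if d then sigI else sigT) with hf
  have hfix : ∀ q, f q = q → tblFun sigT q = q := by
    intro q hq
    cases d
    · exact hq
    · exact (congrArg (tblFun sigT) hq).symm.trans (sigma.apply_symm_apply q)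
  have hfix' : ∀ q, tblFun sigT q = q → f q = q := by
    intro q hq
    cases d
    · exact hq
    · exact (congrArg (tblFun sigI) hq).symm.trans (sigma.symm_apply_apply q)
  have hit : ∀ n p, (π : Equiv.Perm GolayPt) ((tblFun sigT)^[n] p) = f^[n] ((π : Equiv.Perm GolayPt) p) := by
    intro n
    induction n with
    | zero => intro p; rfl
    | succ n ih =>
      intro p
      rw [Function.iterate_succ', Function.comp, Function.iterate_succ', Function.comp, ← ih]
      exact h _
  have hc : ∀ j : Fin 3, ∃ c : Fin 3, ∃ s : Fin 7, (π : Equiv.Perm GolayPt) (cpt j 0) = cpt c s := by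
    intro j
    refine (cpt_surj _).resolve_right fun hq => cpt_move j 0 ?_
    refine (π : Equiv.Perm GolayPt).injective ?_
    exact (h _).trans (hfix' _ hq)
  choose c s hcs using hc
  have hff : ∀ j : Fin 3, ∃ e : Fin 3, (π : Equiv.Perm GolayPt) (rep (Fin.ofNat 6 (3 + j))) =
      rep (Fin.ofNat 6 (3 + e)) := by
    intro j
    refine fixd_surj _ (hfix _ ?_)
    rw [← h]
    exact congrArg _ ((by decide +kernel : ∀ j : Fin 3,
      tblFun sigT (rep (Fin.ofNat 6 (3 + j))) = rep (Fin.ofNat 6 (3 + j))) j)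
  choose e he using hff
  have hπ : ∀ p, (π : Equiv.Perm GolayPt) p = if hb : (blk p : ℕ) < 3 then
      cpt (c ⟨blk p, hb⟩) ((s ⟨blk p, hb⟩ : ℕ) + if d then 7 - pos p else pos p)
      else rep (Fin.ofNat 6 (3 + e ⟨(blk p : ℕ) - 3, by omega⟩)) := by
    intro p
    conv_lhs => rw [← pos_spec p]
    rw [hit]
    by_cases hb : (blk p : ℕ) < 3
    · rw [dif_pos hb, rep_lt _ hb, show cpt (blk p : ℕ) 0 = cpt ((⟨blk p, hb⟩ : Fin 3) : ℕ) 0 from rfl, hcs, hf]
      exact orbit_cpt d _ _ ⟨pos p, pos_lt p⟩
    · rw [dif_neg hb]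
      have e1 : (blk p) = Fin.ofNat 6 (3 + ((blk p : ℕ) - 3)) := by
        apply Fin.ext
        simp only [Fin.val_ofNat]
        omega
      have e2 := he ⟨(blk p : ℕ) - 3, by omega⟩
      simp only at e2
      rw [← e1] at e2
      rw [e2]
      exact Function.iterate_fixed (hfix' _ ((by decide +kernel : ∀ j : Fin 3,
        tblFun sigT (rep (Fin.ofNat 6 (3 + j))) = rep (Fin.ofNat 6 (3 + j))) _)) _
  have hinjc : ∀ i j : Fin 3, c i = c j → i = j := by
    intro i j hij
    by_contra hne
    obtain ⟨k, hk⟩ := (by decide +kernel : ∀ (dd : Bool) (x y : Fin 7), ∃ k : Fin 7,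
      ((x : ℕ) + if dd then 7 - (k : ℕ) else k) % 7 = y) d (s i) (s j)
    have hh : (π : Equiv.Perm GolayPt) ((tblFun sigT)^[(k : ℕ)] (cpt i 0)) = (π : Equiv.Perm GolayPt) (cpt j 0) := by
      rw [hit, hcs, hcs, hf, orbit_cpt, hij, cpt, cpt, hk, Nat.mod_eq_of_lt (s j).2]
    exact (by decide +kernel : ∀ (i j : Fin 3) (k : Fin 7), i ≠ j →
      (tblFun sigT)^[(k : ℕ)] (cpt i 0) ≠ cpt j 0) i j k hne ((π : Equiv.Perm GolayPt).injective hh)
  have hce : ∀ j, e j = c j := by
    intro j
    have hm : isCW (mask (cwB (c j) (e j))) = true := by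
      refine mem_code_iff_isCW.1 ?_
      have hw : cwB j j ∈ golayCode := mem_code_iff_isCW.2 (by rw [cwB_iff]; simp)
      convert LeechBasic.comp_mem_code (π⁻¹).2 hw using 1
      funext q
      obtain ⟨p, rfl⟩ := (π : Equiv.Perm GolayPt).surjective q
      rw [show ((π⁻¹ : M24) : Equiv.Perm GolayPt) ((π : Equiv.Perm GolayPt) p) = p from
        (π : Equiv.Perm GolayPt).symm_apply_apply p, hπ p]
      simp only [cwB]
      refine if_congr ?_ rfl rfl
      have hbl : ∀ (c : Fin 3) (x : ℕ), (blk (cpt c x) : ℕ) = c := fun c x => by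
        have := (by decide +kernel : ∀ (c : Fin 3) (x : Fin 7), (blk (cpt c x) : ℕ) = c) c
          ⟨x % 7, Nat.mod_lt _ (by norm_num)⟩
        simpa [cpt] using this
      have hbr : ∀ f : Fin 3, (blk (rep (Fin.ofNat 6 (3 + f))) : ℕ) = 3 + f := by decide +kernel
      by_cases hb : (blk p : ℕ) < 3
      · rw [dif_pos hb, hbl]
        constructor
        · rintro (r | r)
          · exact Or.inl (congrArg Fin.val (hinjc ⟨blk p, hb⟩ j (Fin.ext r)))
          · omega
        · rintro (r | r)
          · left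
            rw [show (⟨blk p, hb⟩ : Fin 3) = j from Fin.ext r]
          · omega
      · rw [dif_neg hb, hbr]
        constructor
        · rintro (r | r)
          · omega
          · right
            have hei : e ⟨(blk p : ℕ) - 3, by omega⟩ = e j := Fin.ext (by omega)
            have hij : (⟨(blk p : ℕ) - 3, by omega⟩ : Fin 3) = j := by
              have := he ⟨(blk p : ℕ) - 3, by omega⟩
              rw [hei, ← he j] at this
              exact (by decide +kernel : ∀ a b : Fin 3, rep (Fin.ofNat 6 (3 + a)) =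
                rep (Fin.ofNat 6 (3 + b)) → a = b) _ _ ((π : Equiv.Perm GolayPt).injective this)
            have := congrArg Fin.val hij
            simp only at this
            omega
        · rintro (r | r)
          · omega
          · right
            rw [show (⟨(blk p : ℕ) - 3, by omega⟩ : Fin 3) = j from Fin.ext (by simp only; omega)]
    rw [cwB_iff] at hm
    exact (of_decide_eq_true hm).symm
  obtain ⟨t, ht⟩ := (by decide +kernel : ∀ c : Fin 3 → Fin 3, (∀ i j, c i = c j → i = j) →
    ∃ t : Fin 6, ∀ j : Fin 3, (tau6 t (Fin.ofNat 6 j) : ℕ) = c j ∧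
      (tau6 t (Fin.ofNat 6 (3 + j)) : ℕ) = 3 + c j) c hinjc
  -- normalise by a power
  obtain ⟨n, hn⟩ : ∃ n : Fin 7, ((s 0 : ℕ) + n) % 7 = 0 :=
    (by decide : ∀ x : Fin 7, ∃ n : Fin 7, ((x : ℕ) + n) % 7 = 0) _
  set s' : Fin 3 → Fin 7 := ![0, s 1 + n, s 2 + n] with hs'
  have hpow : ∀ p, ((sM ^ (n : ℕ) * π : M24) : Equiv.Perm GolayPt) p = cand d t s' p := by
    intro p
    rw [Subgroup.coe_mul, Equiv.Perm.mul_apply, SubmonoidClass.coe_pow, Equiv.Perm.coe_pow, hπ p,
      show ⇑(sM : Equiv.Perm GolayPt) = tblFun sigT from rfl, cand]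
    by_cases hb : (blk p : ℕ) < 3
    · rw [dif_pos hb, dif_pos hb]
      have hx : ∀ x : ℕ, (tblFun sigT)^[(n : ℕ)] (cpt (c ⟨blk p, hb⟩) x) = cpt (c ⟨blk p, hb⟩) (x + n) := by
        intro x
        have := orbit_cpt false (c ⟨blk p, hb⟩) ⟨x % 7, Nat.mod_lt _ (by norm_num)⟩ n
        simpa [cpt, Nat.add_mod] using this
      rw [hx, show (tau6 t (blk p) : ℕ) = c ⟨blk p, hb⟩ by
        rw [← (ht ⟨blk p, hb⟩).1]
        exact congrArg (fun b => ((tau6 t b : Fin 6) : ℕ)) (Fin.ext (by simp))]
      have hsv : ∀ j : Fin 3, (s' j : ℕ) = ((s j : ℕ) + n) % 7 := by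
        intro j
        fin_cases j <;> simp [hs', Fin.val_add, hn]
      simp only [cpt, hsv]
      congr 2
      omega
    · rw [dif_neg hb, dif_neg hb, Function.iterate_fixed ((by decide +kernel : ∀ j : Fin 3,
        tblFun sigT (rep (Fin.ofNat 6 (3 + j))) = rep (Fin.ofNat 6 (3 + j))) _), hce]
      congr 1
      apply Fin.ext
      have h2 := (ht ⟨(blk p : ℕ) - 3, by omega⟩).2
      simp only at h2
      rw [show Fin.ofNat 6 (3 + ((blk p : ℕ) - 3)) = blk p from Fin.ext (by simp; omega)] at h2
      rw [h2, Fin.val_ofNat]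
      omega
  have hcode : ∀ i < 12, isCW (mask fun p => word (bas i) (cand d t s' p)) = true := fun i hi => by
    refine mem_code_iff_isCW.1 ?_
    simp only [← hpow]
    exact LeechBasic.comp_mem_code (sM ^ (n : ℕ) * π).2 (word_bas_mem hi)
  obtain ⟨hd, hs⟩ := cand_ok d t (s 1 + n) (s 2 + n) hcode
  refine ⟨hd, 7 - (n : ℕ), t, ?_⟩
  have hp : sM ^ (n : ℕ) * π = piM t := Subtype.ext (Equiv.ext fun p => by
    rw [hpow p, hs', hs, hd]; rfl)
  have h7 : sM ^ 7 = 1 := Subtype.ext (Equiv.ext fun p => by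
    rw [SubmonoidClass.coe_pow, Equiv.Perm.coe_pow]
    exact (by decide +kernel : ∀ p, (tblFun sigT)^[7] p = p) p)
  rw [← hp, ← mul_assoc, ← pow_add, Nat.sub_add_cancel n.2.le, h7, one_mul]

end CfsgLib.Sporadic.MonsterFusion.Held
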