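import Cfsg.Agent.Lib.Sporadic.MonsterFusion.HeldTables

/-!
The element of order seven with three fixed points and the classes of its fixed vectors.
-/

set_option autoImplicit false
set_option maxRecDepth 20000

namespace CfsgLib.Sporadic.MonsterFusion.Held

open Cfsg CfsgLib.SmallGroups CfsgLib.SmallGroups.Golay CfsgLib.SmallGroups.M24Group
  CfsgLib.Sporadic.M24Orbits CfsgLib.SmallGroups.LeechGroup

/-- The permutation with the given tables. -/
def sigma : Equiv.Perm GolayPt :=
  ⟨tblFun sigT, tblFun sigI, by decide +kernel, by decide +kernel⟩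

theorem sigma_mem : sigma ∈ M24 :=
  mem_M24_of_basis (f := tblFun sigT) (fun _ => rfl) (by decide +kernel)

/-- The element of `M24`. -/
def sM : M24 := ⟨sigma, sigma_mem⟩

/-- The lattice automorphism. -/
noncomputable def sg : Co0 := (permM sM : monoSub)

theorem permM_apply (π : M24) (v : leechLattice) (q : GolayPt) :
    (((permM π : Co0) • v : leechLattice) : GolayPt → ℤ) q =
      (v : GolayPt → ℤ) ((π : Equiv.Perm GolayPt).symm q) := by
  show (((LeechMonomial.mono (π, ⟨∅, LeechReach.empty_mem_CS⟩)) • v : leechLattice) : GolayPt → ℤ) q = _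
  rw [LeechMonomial.mono_apply]
  simp [signedPerm]

theorem sg_apply (v : leechLattice) (q : GolayPt) :
    ((sg • v : leechLattice) : GolayPt → ℤ) q = (v : GolayPt → ℤ) (sigma.symm q) := permM_apply sM v q

/-! ### Blocks -/

/-- The block of a point. -/
def blk (p : GolayPt) : Fin 6 := Fin.ofNat 6 (blkT.getD (idx p) 0)

/-- The index of a point in its cycle. -/
def pos (p : GolayPt) : ℕ := posT.getD (idx p) 0

/-- The point of a cycle with the given index. -/
def cpt (j i : ℕ) : GolayPt := pt ((cycs.getD j []).getD (i % 7) 0)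

/-- The first point of a block. -/
def rep (b : Fin 6) : GolayPt := if (b : ℕ) < 3 then cpt b 0 else pt (fixd.getD ((b : ℕ) - 3) 0)

/-- The vector constant on blocks. -/
def fv (a : Fin 6 → ℤ) : GolayPt → ℤ := fun p => a (blk p)

theorem blk_rep : ∀ b, blk (rep b) = b := by decide +kernel

theorem pos_spec : ∀ p, (tblFun sigT)^[pos p] (rep (blk p)) = p := by decide +kernel

theorem fv_sub (a b : Fin 6 → ℤ) : fv (fun i => a i - b i) = fv a - fv b := rfl

theorem eq_fv {v : leechLattice} (h : sg • v = v) :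
    (v : GolayPt → ℤ) = fv fun b => (v : GolayPt → ℤ) (rep b) := by
  have hs : ∀ q, (v : GolayPt → ℤ) (tblFun sigT q) = (v : GolayPt → ℤ) q := fun q => by
    have := sg_apply v (tblFun sigT q)
    rwa [h, show sigma.symm (tblFun sigT q) = q from sigma.symm_apply_apply q] at this
  have hi : ∀ n q, (v : GolayPt → ℤ) ((tblFun sigT)^[n] q) = (v : GolayPt → ℤ) q := by
    intro n
    induction n with
    | zero => intro q; rfl
    | succ n ih => intro q; rw [Function.iterate_succ', Function.comp, hs, ih]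
  funext p
  conv_lhs => rw [← pos_spec p]
  rw [hi]
  rfl

theorem sg_fv {v : leechLattice} {a : Fin 6 → ℤ} (h : (v : GolayPt → ℤ) = fv a) : sg • v = v := by
  refine Subtype.ext (funext fun q => ?_)
  rw [sg_apply, h, fv, fv]
  exact congrArg a ((by decide +kernel : ∀ q, blk (tblFun sigI q) = blk q) q)

/-! ### Congruence of fixed vectors -/

theorem ok_of_good {T : GolayPt → ℤ} (h : LeechBasic.Good T) (p : GolayPt) :
    LeechReach.okGood (T p) T = true := by
  obtain ⟨m, h1, h2, h3⟩ := h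
  have hp := (h1 p).dvd
  simp only [LeechReach.okGood, Bool.and_eq_true, decide_eq_true_eq]
  refine ⟨⟨fun i => by have := (h1 i).dvd; omega, by have := h2.dvd; omega⟩, ?_⟩
  refine mem_code_iff_isCW.1 ?_
  rw [LeechBasic.wd_shift (m := m) (k := T p) (by omega)]
  exact add_mem h3 (Submodule.smul_mem _ _ LeechBasic.one_mem_code)

/-- The half of the difference. -/
def halfD (a b : Fin 6 → ℤ) : Fin 6 → ℤ := fun i => (a i - b i) / 2

/-- Congruence of two fixed vectors modulo twice the lattice. -/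
def congB (a b : Fin 6 → ℤ) : Bool :=
  decide (∀ i, (a i - b i) % 2 = 0) && LeechReach.okGood (halfD a b 5) (fv (halfD a b))

theorem cong_iff {v w : leechLattice} {a b : Fin 6 → ℤ} (hv : (v : GolayPt → ℤ) = fv a)
    (hw : (w : GolayPt → ℤ) = fv b) : Cong v w ↔ congB a b = true := by
  simp only [congB, Bool.and_eq_true, decide_eq_true_eq]
  constructor
  · rintro ⟨x, hx⟩
    have hh : ∀ p, a (blk p) - b (blk p) = 2 * (x : GolayPt → ℤ) p := fun p => by
      have := congrFun (congrArg Subtype.val hx) p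
      simp only [AddSubgroup.coe_add, Pi.add_apply, hv, hw, fv] at this
      omega
    have h2 : ∀ i, a i - b i = 2 * (x : GolayPt → ℤ) (rep i) := fun i => by
      have := hh (rep i)
      rwa [blk_rep] at this
    have hxe : (x : GolayPt → ℤ) = fv (halfD a b) := funext fun p => by
      have := hh p
      simp only [fv, halfD]
      omega
    refine ⟨fun i => by have := h2 i; omega, ?_⟩
    have := ok_of_good (LeechBasic.mem_lattice.1 x.2) (rep 5)
    rw [hxe] at this
    simpa [fv, blk_rep] using this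
  · rintro ⟨he, hok⟩
    refine ⟨⟨_, LeechBasic.mem_lattice.2 (LeechReach.good_of_ok hok)⟩, Subtype.ext (funext fun p => ?_)⟩
    simp only [AddSubgroup.coe_add, Pi.add_apply, hv, hw, fv, halfD]
    have := he (blk p)
    omega

/-! ### A basis of the fixed lattice -/

/-- The rows of the basis. -/
def bas6 : Fin 6 → Fin 6 → ℤ :=
  ![![-1, -1, -1, -1, -1, 3], ![0, 2, 2, 0, 2, -6], ![0, 0, 2, 0, 0, -6],
    ![0, 0, 0, 4, 0, -4], ![0, 0, 0, 0, 4, -4], ![0, 0, 0, 0, 0, 8]]

theorem bas6_good : ∀ j, LeechReach.okGood (bas6 j 5) (fv (bas6 j)) = true := by decide +kernel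

/-- The basis vectors. -/
noncomputable def Bv (j : Fin 6) : leechLattice :=
  ⟨fv (bas6 j), LeechBasic.mem_lattice.2 (LeechReach.good_of_ok (bas6_good j))⟩

/-- The representative of a class. -/
noncomputable def kap (n : Fin 6 → ZMod 2) : leechLattice := ∑ j, (n j).val • Bv j

/-- The coordinates of the representative. -/
def comb (n : Fin 6 → ZMod 2) : Fin 6 → ℤ := fun i => ∑ j, ((n j).val : ℤ) * bas6 j i

theorem coe_kap (n : Fin 6 → ZMod 2) : (kap n : GolayPt → ℤ) = fv (comb n) := by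
  funext p
  simp [kap, comb, fv, Bv, Finset.sum_apply, -ZMod.natCast_val]

/-- Bits of a word of blocks. -/
def bword (b : Fin 6 → Bool) : GolayPt → ZMod 2 := fun p => if b (blk p) then 1 else 0

theorem bword_code : ∀ b : Fin 6 → Bool, isCW (mask (bword b)) = true →
    b 3 = b 0 ∧ b 4 = b 1 ∧ b 5 = b 2 := by decide +kernel

theorem sum_fv (a : Fin 6 → ℤ) : ∑ p, fv a p = 7 * (a 0 + a 1 + a 2) + a 3 + a 4 + a 5 := by
  have h : ∑ p, fv a p = ∑ b : Fin 6, ((Finset.univ.filter fun p => blk p = b).card : ℤ) * a b := by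
    rw [← Finset.sum_fiberwise_of_maps_to (t := Finset.univ) (g := blk) (fun _ _ => Finset.mem_univ _)]
    refine Finset.sum_congr rfl fun b _ => ?_
    rw [Finset.sum_congr rfl fun p hp => show fv a p = a b from congrArg a (Finset.mem_filter.1 hp).2, Finset.sum_const,
      nsmul_eq_mul]
  have hc : ∀ b : Fin 6, (Finset.univ.filter fun p => blk p = b).card = if (b : ℕ) < 3 then 7 else 1 := by
    decide +kernel
  rw [h, Fin.sum_univ_six]
  simp [hc]
  ring

/-- The basis spans. -/
theorem span (v : leechLattice) (h : sg • v = v) :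
    ∃ n : Fin 6 → ZMod 2, Cong v (kap n) := by
  obtain ⟨a, ha⟩ : ∃ a, (v : GolayPt → ℤ) = fv a := ⟨_, eq_fv h⟩
  obtain ⟨n1, hn1⟩ : ∃ n1 : ℤ, n1 = -a 0 := ⟨_, rfl⟩
  set a' : Fin 6 → ℤ := fun i => a i - n1 * bas6 0 i with ha'
  have hgood : LeechBasic.Good (fv a') := by
    have hm := (v - n1 • Bv 0).2
    rw [AddSubgroup.coe_sub, AddSubgroup.coe_zsmul, ha] at hm
    refine LeechBasic.mem_lattice.1 ?_
    convert hm using 1
    funext p
    simp [ha', fv, Bv]
  have h0 : a' 0 = 0 := by simp [ha', bas6, hn1]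
  obtain ⟨m, y, hm, hy, hs, hc⟩ := LeechBasic.exists_halves hgood
  have hy' : ∀ b, a' b = m + 2 * y (rep b) := fun b => by
    have := hy (rep b)
    rwa [fv, blk_rep] at this
  have hm0 : m = 0 := by have := hy' 0; omega
  subst hm0
  have hye : y = fv fun b => a' b / 2 := funext fun p => by
    have := hy p
    simp only [fv] at this ⊢
    omega
  rw [hye, sum_fv] at hs
  have hb : (fun p => (y p : ZMod 2)) = bword fun b => decide (a' b / 2 % 2 = 1) := by
    funext p
    simp only [bword, hye, fv, decide_eq_true_eq]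
    split_ifs with h2
    · rw [← Int.cast_one, ZMod.intCast_eq_intCast_iff_dvd_sub]; omega
    · rw [ZMod.intCast_zmod_eq_zero_iff_dvd]; omega
  rw [hb] at hc
  obtain ⟨h3, h4, h5⟩ := bword_code _ (mem_code_iff_isCW.1 hc)
  simp only [decide_eq_decide] at h3 h4 h5
  obtain ⟨n2, hn2⟩ : ∃ n, n = a' 1 / 2 := ⟨_, rfl⟩
  obtain ⟨n3, hn3⟩ : ∃ n, n = a' 2 / 2 - n2 := ⟨_, rfl⟩
  obtain ⟨n4, hn4⟩ : ∃ n, n = a' 3 / 4 := ⟨_, rfl⟩
  obtain ⟨n5, hn5⟩ : ∃ n, n = (a' 4 - 2 * n2) / 4 := ⟨_, rfl⟩
  obtain ⟨n6, hn6⟩ : ∃ n, n = (a' 5 + 6 * n2 + 6 * n3 + 4 * n4 + 4 * n5) / 8 := ⟨_, rfl⟩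
  have e1 := hy' 1
  have e2 := hy' 2
  have e3 := hy' 3
  have e4 := hy' 4
  have e5 := hy' 5
  have hv : v = ∑ j, (![n1, n2, n3, n4, n5, n6] j) • Bv j := by
    refine Subtype.ext (funext fun p => ?_)
    rw [ha]
    simp only [AddSubgroup.val_finsetSum, AddSubgroup.coe_zsmul, Finset.sum_apply, Pi.smul_apply,
      smul_eq_mul, Bv, fv, Fin.sum_univ_six]
    have key : ∀ i, a i = n1 * bas6 0 i + n2 * bas6 1 i + n3 * bas6 2 i + n4 * bas6 3 i +
        n5 * bas6 4 i + n6 * bas6 5 i := by
      intro i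
      have hai : a i = a' i + n1 * bas6 0 i := by simp [ha']
      fin_cases i <;> simp [bas6] at hai h0 ⊢ <;> omega
    simpa [fv] using key (blk p)
  set N : Fin 6 → ℤ := ![n1, n2, n3, n4, n5, n6]
  refine ⟨fun j => (N j : ZMod 2), ∑ j, (N j / 2) • Bv j, ?_⟩
  rw [hv, kap, ← Finset.sum_add_distrib, ← Finset.sum_add_distrib]
  refine Finset.sum_congr rfl fun j _ => ?_
  have hval : (((N j : ZMod 2).val : ℕ) : ℤ) = N j % 2 := by
    rw [ZMod.val_intCast]; norm_num
  rw [← natCast_zsmul, hval, ← add_smul, ← add_smul]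
  congr 1
  omega

/-- The representative is additive modulo twice the lattice. -/
theorem kap_add (n n' : Fin 6 → ZMod 2) : Cong (kap n + kap n') (kap (n + n')) := by
  refine ⟨∑ j, ((n j).val * (n' j).val) • Bv j, ?_⟩
  rw [kap, kap, kap, ← Finset.sum_add_distrib, ← Finset.sum_add_distrib, ← Finset.sum_add_distrib]
  refine Finset.sum_congr rfl fun j _ => ?_
  rw [← add_smul, ← add_smul, ← add_smul]
  congr 1
  exact (by decide : ∀ a b : ZMod 2, a.val + b.val = (a + b).val + (a.val * b.val + a.val * b.val)) _ _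

/-- The code number of a class. -/
def kn (n : Fin 6 → ZMod 2) : ℕ := ∑ j : Fin 6, (n j).val * 2 ^ (j : ℕ)

/-- The short representative. -/
def short (n : Fin 6 → ZMod 2) : Fin 6 → ℤ := fun i => (shortT.getD (kn n) []).getD i 0

theorem short_spec : ∀ n, congB (comb n) (short n) = true ∧ LeechReach.okGood (short n 5) (fv (short n)) = true ∧
    sqNorm (fv (short n)) ≤ 64 ∧
      (sqNorm (fv (short n)) = 64 ↔ kn n ∈ uCls ∨ kn n ∈ vCls) := by decide +kernel

theorem kap_inj_aux : ∀ n : Fin 6 → ZMod 2, congB (comb n) (fun _ => 0) = true → n = 0 := by decide +kernel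

theorem kap_zero {n : Fin 6 → ZMod 2} (h : Cong (kap n) 0) : n = 0 :=
  kap_inj_aux n ((cong_iff (coe_kap n) (w := 0) rfl).1 h)

/-- A class of squared length 64 is one of fourteen. -/
theorem cl64 {v : leechLattice} {n : Fin 6 → ZMod 2} (hv : sqNorm (v : GolayPt → ℤ) = 64)
    (h : Cong v (kap n)) : kn n ∈ uCls ∨ kn n ∈ vCls := by
  obtain ⟨hc, hg, hle, hiff⟩ := short_spec n
  set w : leechLattice := ⟨fv (short n), LeechBasic.mem_lattice.2 (LeechReach.good_of_ok hg)⟩
  obtain ⟨x, hx⟩ := h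
  obtain ⟨x', hx'⟩ := (cong_iff (coe_kap n) (w := w) rfl).2 hc
  refine hiff.1 ?_
  have hvw : Cong v w := ⟨x' + x, by rw [hx, hx']; abel⟩
  rcases cong_short hvw hv.le hle with e | e | e
  · rw [e] at hv; exact hv
  · rw [e, AddSubgroup.coe_neg, ThreeTransp.LeechShort.sqNorm_neg] at hv; exact hv
  · exact e.2

theorem dot_nondeg : ∀ n, (∀ j, (16 : ℤ) ∣ dotInt (fv (comb n)) (fv (bas6 j))) → n = 0 := by
  decide +kernel

end CfsgLib.Sporadic.MonsterFusion.Held
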