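import Cfsg.Agent.Lib.Sporadic.MonsterFusion.HeldType

/-!
Normal subgroups of the centraliser of the subgroup of order seven.
-/

set_option autoImplicit false

namespace CfsgLib.Sporadic.MonsterFusion.Held

open Cfsg CfsgLib.SmallGroups CfsgLib.ThreeTransp.Extraspecial Frame7
open scoped commutatorElement

variable {G : Type*} [Group G] [Finite G] {z : G} {Q : Subgroup (Subgroup.centralizer ({z} : Set G))}
  [Q.Normal] {e : (Subgroup.centralizer ({z} : Set G)) ⧸ Q ≃* Spor.Co1}
  {ψ : leechLattice → Q ⧸ Subgroup.center Q} {b : Subgroup.centralizer ({z} : Set G)}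

/-- An element of the centre of `C_Q(b)` is `1` or `z`. -/
theorem central_class (F : Frame Q e ψ) (hb7 : orderOf (b : G) = 7) (hb : e (QuotientGroup.mk b) = pj sg)
    {q : Q} (hq : Commute b (q : Subgroup.centralizer ({z} : Set G)))
    (hall : ∀ a : Q, Commute b (a : Subgroup.centralizer ({z} : Set G)) →
      (q : Subgroup.centralizer ({z} : Set G)) * a = a * q) :
    (q : Subgroup.centralizer ({z} : Set G)) = 1 ∨ (q : Subgroup.centralizer ({z} : Set G)) = zC z := by
  obtain ⟨n, hn⟩ := exists_kap F hb hq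
  have h0 : n = 0 := by
    refine dot_nondeg _ fun j => ?_
    obtain ⟨a, ha⟩ := Frame.exists_rep (ψ := ψ) (kap (Pi.single j 1))
    have hc := rep_commute F hb7 hb (by rw [sg_kap]; exact cong_refl _) ha
    have := (F.comm_iff hn ha).1 (hall a hc)
    rwa [coe_kap, kap_single] at this
  subst h0
  refine F.center_iff.1 ((QuotientGroup.eq_one_iff _).1 (hn.symm.trans ((F.iso.2.2.1 _).2 ⟨0, ?_⟩)))
  simp [kap]

theorem decompose : ∀ n : Fin 6 → ZMod 2, ∃ a c : Fin 6 → ZMod 2,
    (a = 0 ∨ kn a ∈ uCls ∨ kn a ∈ vCls) ∧ (c = 0 ∨ kn c ∈ uCls ∨ kn c ∈ vCls) ∧ n = a + c := by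
  decide +kernel

/-- A subgroup normalised by the centraliser of `b`, containing `b` and something more, contains
`C_Q(b)`. -/
theorem normal_contains (F : Frame Q e ψ) (hb7 : orderOf (b : G) = 7) (hb : e (QuotientGroup.mk b) = pj sg)
    (M : Subgroup G) (hMX : M ≤ Subgroup.centralizer ({(b : G)} : Set G))
    (hnorm : ∀ c ∈ Subgroup.centralizer ({(b : G)} : Set G), ∀ m ∈ M, c * m * c⁻¹ ∈ M)
    (hbM : (b : G) ∈ M) (hne : ¬ M ≤ Subgroup.zpowers (b : G))
    {q : Q} (hq : Commute b (q : Subgroup.centralizer ({z} : Set G))) :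
    ((q : Subgroup.centralizer ({z} : Set G)) : G) ∈ M := by
  classical
  have : Fact (Nat.Prime 2) := ⟨Nat.prime_two⟩
  set X := Subgroup.centralizer ({(b : G)} : Set G) with hX
  have hmemX : ∀ g : G, g ∈ X ↔ Commute (b : G) g := fun g => by
    rw [hX, Subgroup.mem_centralizer_singleton_iff]
    exact ⟨Eq.symm, fun h => h.eq.symm⟩
  have hb7' : b ^ 7 = 1 := b_pow hb7
  have hzX : z ∈ X := (hmemX z).2 (Subgroup.mem_centralizer_singleton_iff.1 b.2)
  have hzsq : z * z = 1 := F.setting.ext.z_sq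
  -- classes of squared length 64 are conjugate to `z`
  have hcl : ∀ a : Q, Commute b (a : Subgroup.centralizer ({z} : Set G)) → Cl ψ 64 a →
      ∃ c ∈ X, c * z * c⁻¹ = ((a : Subgroup.centralizer ({z} : Set G)) : G) := fun a ha hc => by
    obtain ⟨c, hcb, hcz⟩ := conj_in F hb7 ha hc
    exact ⟨c, (hmemX c).2 hcb, hcz⟩
  -- an element outside `<b>` commuting with `z`
  obtain ⟨m, hm, hmb, hmz⟩ : ∃ m ∈ M, m ∉ Subgroup.zpowers (b : G) ∧ m * z = z * m := by
    by_contra hall
    push Not at hall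
    set B' := (Subgroup.zpowers (b : G)).subgroupOf M with hB'
    have : B'.Normal := ⟨fun n hn g => by
      rw [hB', Subgroup.mem_subgroupOf] at hn ⊢
      obtain ⟨i, hi⟩ := Subgroup.mem_zpowers_iff.1 hn
      have hc : Commute (b : G) (g : G) := (hmemX _).1 (hMX g.2)
      show (g : G) * n * (g : G)⁻¹ ∈ _
      rw [← hi, (hc.zpow_left i).symm.eq, mul_inv_cancel_right]
      exact Subgroup.zpow_mem_zpowers _ i⟩
    -- conjugation by a conjugate of `z`
    have key : ∀ c ∈ X, ∀ n ∈ M, (c * z * c⁻¹) * n * (c * z * c⁻¹)⁻¹ * n ∈ Subgroup.zpowers (b : G) := by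
      intro c hc
      set u := c * z * c⁻¹ with hu
      have huX : u ∈ X := mul_mem (mul_mem hc hzX) (inv_mem hc)
      have huu : u * u = 1 := by
        rw [hu]
        calc c * z * c⁻¹ * (c * z * c⁻¹) = c * (z * z) * c⁻¹ := by group
          _ = 1 := by rw [hzsq]; group
      have hub : Commute u (b : G) := ((hmemX u).1 huX).symm
      let f : M →* M := MonoidHom.mk' (fun n => ⟨u * n * u⁻¹, hnorm u huX n n.2⟩)
        fun x y => Subtype.ext (by simp [mul_assoc])
      have hf : B' ≤ B'.comap f := fun n hn => by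
        rw [Subgroup.mem_comap, hB', Subgroup.mem_subgroupOf]
        rw [hB', Subgroup.mem_subgroupOf] at hn
        obtain ⟨i, hi⟩ := Subgroup.mem_zpowers_iff.1 hn
        show u * n * u⁻¹ ∈ _
        rw [← hi, (hub.zpow_right i).eq, mul_inv_cancel_right]
        exact Subgroup.zpow_mem_zpowers _ i
      set φ := QuotientGroup.map B' B' f hf with hφ
      have hinvol : Function.Involutive φ := by
        intro x
        obtain ⟨n, rfl⟩ := QuotientGroup.mk_surjective x
        rw [hφ, QuotientGroup.map_mk, QuotientGroup.map_mk]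
        refine congrArg _ (Subtype.ext ?_)
        show u * (u * n * u⁻¹) * u⁻¹ = n
        calc u * (u * n * u⁻¹) * u⁻¹ = (u * u) * n * (u * u)⁻¹ := by group
          _ = n := by rw [huu]; group
      have hfree : MonoidHom.FixedPointFree φ := by
        intro x hx
        obtain ⟨n, rfl⟩ := QuotientGroup.mk_surjective x
        by_contra hn1
        rw [hφ, QuotientGroup.map_mk, eq_comm, QuotientGroup.eq, hB', Subgroup.mem_subgroupOf,
          ← mem_powers_iff_mem_zpowers] at hx
        obtain ⟨i, hi⟩ := hx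
        have hi' : (b : G) ^ i = (n : G)⁻¹ * (u * n * u⁻¹) := hi
        have hnb : Commute (b : G) (n : G) := (hmemX _).1 (hMX n.2)
        have h1 : (n : G)⁻¹ * u * n = (b : G) ^ i * u := by rw [hi']; group
        have h2 : (b : G) ^ (2 * i) = 1 := by
          have hsq : ((n : G)⁻¹ * u * n) * ((n : G)⁻¹ * u * n) = 1 := by
            calc _ = (n : G)⁻¹ * (u * u) * n := by group
              _ = 1 := by rw [huu]; group
          rw [h1, mul_assoc, ← mul_assoc u, (hub.pow_right i).eq, mul_assoc _ u, huu, mul_one, ← pow_add] at hsq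
          rwa [two_mul]
        have h3 : (b : G) ^ i = 1 := by
          refine orderOf_dvd_iff_pow_eq_one.1 ?_
          have := orderOf_dvd_of_pow_eq_one h2
          rw [hb7] at this ⊢
          omega
        rw [h3, one_mul] at h1
        have hnu : (n : G) * u = u * n := by
          conv_lhs => rw [← h1]
          group
        refine hall (c⁻¹ * n * c) (by simpa using hnorm c⁻¹ (inv_mem hc) n n.2) (fun hmem => hn1 ?_) ?_
        · rw [QuotientGroup.eq_one_iff, hB', Subgroup.mem_subgroupOf]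
          obtain ⟨k, hk⟩ := Subgroup.mem_zpowers_iff.1 hmem
          have : (n : G) = c * (b : G) ^ k * c⁻¹ := by rw [hk]; group
          rw [this, ((((hmemX c).1 hc)).zpow_left k).symm.eq, mul_inv_cancel_right]
          exact Subgroup.zpow_mem_zpowers _ k
        · calc c⁻¹ * n * c * z = c⁻¹ * ((n : G) * (c * z * c⁻¹)) * c := by group
            _ = c⁻¹ * ((c * z * c⁻¹) * n) * c := by rw [← hu, hnu]
            _ = z * (c⁻¹ * n * c) := by group
      intro n hn
      have h := congrFun (hfree.coe_eq_inv_of_involutive hinvol) (QuotientGroup.mk ⟨n, hn⟩)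
      rw [hφ, QuotientGroup.map_mk, ← mul_eq_one_iff_eq_inv, ← QuotientGroup.mk_mul, QuotientGroup.eq_one_iff,
        hB', Subgroup.mem_subgroupOf] at h
      exact h
    -- two classes whose product is `z`
    obtain ⟨a, ha⟩ := Frame.exists_rep (ψ := ψ) (kap (kof 32))
    have hab : Commute b (a : Subgroup.centralizer ({z} : Set G)) :=
      rep_commute F hb7 hb (by rw [sg_kap]; exact cong_refl _) ha
    have hazQ : (a : Subgroup.centralizer ({z} : Set G)) * zC z ∈ Q := mul_mem a.2 F.extra.z_mem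
    have haz : Rep ψ (kap (kof 32)) ⟨_, hazQ⟩ := by
      show ψ _ = QuotientGroup.mk (a * (⟨zC z, F.extra.z_mem⟩ : Q))
      rw [QuotientGroup.mk_mul, (QuotientGroup.eq_one_iff _).2
        ((F.center_iff (c := ⟨zC z, F.extra.z_mem⟩)).2 (Or.inr rfl)), mul_one]
      exact ha
    have h32 : kn (kof 32) ∈ uCls := by decide +kernel
    have hazb : Commute b ((⟨_, hazQ⟩ : Q) : Subgroup.centralizer ({z} : Set G)) :=
      hab.mul_right (Subtype.ext (Subgroup.mem_centralizer_singleton_iff.1 b.2))
    obtain ⟨c1, hc1, hc1z⟩ := hcl a hab ((cl_kap F ha).2 (Or.inl h32))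
    obtain ⟨c2, hc2, hc2z⟩ := hcl _ hazb ((cl_kap F haz).2 (Or.inl h32))
    refine hne fun n hn => ?_
    set aG : G := ((a : Subgroup.centralizer ({z} : Set G)) : G) with haG
    have hc2z' : c2 * z * c2⁻¹ = aG * z := hc2z
    have hXb : ∀ c ∈ X, ∀ m ∈ Subgroup.zpowers (b : G), c * m * c⁻¹ = m := by
      intro c hc m hm
      obtain ⟨k, rfl⟩ := Subgroup.mem_zpowers_iff.1 hm
      rw [(((hmemX c).1 hc).zpow_left k).symm.eq, mul_inv_cancel_right]
    obtain ⟨β1, hβ1, e1⟩ : ∃ β ∈ Subgroup.zpowers (b : G), aG * n * aG⁻¹ = β * n⁻¹ :=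
      ⟨_, key c1 hc1 n hn, by rw [hc1z]; group⟩
    obtain ⟨β2, hβ2, e2⟩ : ∃ β ∈ Subgroup.zpowers (b : G), (aG * z) * n * (aG * z)⁻¹ = β * n⁻¹ :=
      ⟨_, key c2 hc2 n hn, by rw [hc2z']; group⟩
    obtain ⟨β0, hβ0, e0⟩ : ∃ β ∈ Subgroup.zpowers (b : G), z * n * z⁻¹ = β * n⁻¹ :=
      ⟨_, key 1 (one_mem _) n hn, by group⟩
    have haX : aG ∈ X := (hmemX _).2 (congrArg Subtype.val hab.eq)
    have e3 : (aG * z) * n * (aG * z)⁻¹ = β0 * n * β1⁻¹ := by
      calc (aG * z) * n * (aG * z)⁻¹ = aG * (z * n * z⁻¹) * aG⁻¹ := by group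
        _ = (aG * β0 * aG⁻¹) * (aG * n * aG⁻¹)⁻¹ := by rw [e0]; group
        _ = β0 * n * β1⁻¹ := by rw [hXb _ haX _ hβ0, e1]; group
    rw [e2] at e3
    have hnb : ∀ β ∈ Subgroup.zpowers (b : G), n * β = β * n := fun β hβ =>
      mul_inv_eq_iff_eq_mul.1 (hXb n (hMX hn) β hβ)
    have hn2 : n * n ∈ Subgroup.zpowers (b : G) := by
      have : n * n = β0⁻¹ * β2 * β1 := by
        calc n * n = β0⁻¹ * (β0 * n * β1⁻¹) * β1 * n := by group
          _ = β0⁻¹ * β2 * (n⁻¹ * β1) * n := by rw [← e3]; group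
          _ = β0⁻¹ * β2 * β1 := by
            rw [mul_assoc _ (n⁻¹ * β1), mul_assoc n⁻¹, ← hnb β1 hβ1, inv_mul_cancel_left]
      rw [this]
      exact mul_mem (mul_mem (inv_mem hβ0) hβ2) hβ1
    by_contra hnB
    -- then `n` commutes with `z` modulo `<b>`, hence exactly
    obtain ⟨i, hi⟩ := mem_powers_iff_mem_zpowers.2
      (show β0 * (n * n)⁻¹ ∈ Subgroup.zpowers (b : G) from mul_mem hβ0 (inv_mem hn2))
    have hi' : z * n * z⁻¹ = (b : G) ^ i * n := by
      rw [e0, show (b : G) ^ i = β0 * (n * n)⁻¹ from hi]; group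
    have hzb : Commute z (b : G) := (((hmemX z).1 hzX)).symm
    have h2 : (b : G) ^ (i + i) = 1 := by
      have h4 : z * (z * n * z⁻¹) * z⁻¹ = n := by
        calc z * (z * n * z⁻¹) * z⁻¹ = (z * z) * n * (z * z)⁻¹ := by group
          _ = n := by rw [hzsq]; group
      rw [hi', ← mul_assoc, (hzb.pow_right i).eq, mul_assoc _ z, mul_assoc _ (z * n), hi', ← mul_assoc, ← pow_add] at h4
      exact mul_eq_right.1 h4
    have h3 : (b : G) ^ i = 1 := by
      refine orderOf_dvd_iff_pow_eq_one.1 ?_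
      have := orderOf_dvd_of_pow_eq_one h2
      rw [hb7] at this ⊢
      omega
    rw [h3, one_mul, mul_inv_eq_iff_eq_mul] at hi'
    exact hall n hn hnB hi'.symm
  -- `z` lies in the subgroup
  have hmX : Commute (b : G) m := (hmemX m).1 (hMX hm)
  set d : Subgroup.centralizer ({z} : Set G) := ⟨m, Subgroup.mem_centralizer_singleton_iff.2 hmz⟩ with hd
  have hdb : Commute b d := Subtype.ext hmX.eq
  have hQX : ∀ a : Q, Commute b (a : Subgroup.centralizer ({z} : Set G)) →
      ((a : Subgroup.centralizer ({z} : Set G)) : G) ∈ X := fun a ha => (hmemX _).2 (congrArg Subtype.val ha.eq)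
  have hzM : z ∈ M := by
    by_cases hall : ∀ a : Q, Commute b (a : Subgroup.centralizer ({z} : Set G)) →
        d * (a : Subgroup.centralizer ({z} : Set G)) = a * d
    · obtain ⟨g, hgc, hg⟩ := exists_pre hb hdb
      obtain ⟨i, hi⟩ := kernel_U hgc fun a => by
        obtain ⟨r, hr⟩ := Frame.exists_rep (ψ := ψ) (kap (iota a))
        have hrb := rep_commute F hb7 hb (by rw [sg_kap]; exact cong_refl _) hr
        refine F.psi_eq_iff.1 (((F.rep_smul hg hr).trans ?_).trans hr.symm)
        exact congrArg _ (Subtype.ext (show d * r * d⁻¹ = r by rw [hall r hrb, mul_inv_cancel_right]))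
      have hq0 : d * (b ^ i)⁻¹ ∈ Q := by
        rw [← QuotientGroup.eq_one_iff, ← e.map_eq_one_iff]
        simp only [QuotientGroup.mk_mul, QuotientGroup.mk_inv, QuotientGroup.mk_pow, map_mul, map_inv, map_pow,
          hb, ← hg, hi, mul_inv_cancel]
      rcases central_class F hb7 hb (q := ⟨_, hq0⟩) (hdb.mul_right ((Commute.refl b).pow_right i).inv_right)
          (fun a ha => by
            show d * (b ^ i)⁻¹ * (a : Subgroup.centralizer ({z} : Set G)) = a * (d * (b ^ i)⁻¹)
            rw [mul_assoc, (ha.pow_left i).inv_left.eq, ← mul_assoc, hall a ha, mul_assoc]) with r | r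
      · exfalso
        apply hmb
        have : m = (b : G) ^ i := congrArg Subtype.val (mul_inv_eq_one.1 (show d * (b ^ i)⁻¹ = 1 from r))
        rw [this]
        exact pow_mem (Subgroup.mem_zpowers _) i
      · have r' : m * ((b : G) ^ i)⁻¹ = z := congrArg Subtype.val (show d * (b ^ i)⁻¹ = zC z from r)
        rw [← r']
        exact mul_mem hm (inv_mem (pow_mem hbM i))
    · push Not at hall
      obtain ⟨a, hab, hda⟩ := hall
      set c : Subgroup.centralizer ({z} : Set G) := d * a * d⁻¹ * (a : Subgroup.centralizer ({z} : Set G))⁻¹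
        with hc
      have hcQ : c ∈ Q := mul_mem ((inferInstance : Q.Normal).conj_mem _ a.2 d) (inv_mem a.2)
      have hcM : (c : G) ∈ M := by
        have h := mul_mem hm (hnorm _ (hQX a hab) _ (inv_mem hm))
        simpa [hc, mul_assoc] using h
      have hcb : Commute b c := ((hdb.mul_right hab).mul_right hdb.inv_right).mul_right hab.inv_right
      by_cases hcc : ∀ a' : Q, Commute b (a' : Subgroup.centralizer ({z} : Set G)) →
          c * (a' : Subgroup.centralizer ({z} : Set G)) = a' * c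
      · rcases central_class F hb7 hb (q := ⟨c, hcQ⟩) hcb hcc with r | r
        · have r0 : d * a * d⁻¹ * (a : Subgroup.centralizer ({z} : Set G))⁻¹ = 1 := r
          exact absurd (mul_inv_eq_iff_eq_mul.1 (mul_inv_eq_one.1 r0)) hda
        · rwa [show c = zC z from r] at hcM
      · push Not at hcc
        obtain ⟨a', ha', hne'⟩ := hcc
        have := F.extra.conj_eq_of_not_comm hcQ a'.2 (Ne.symm hne')
        have h2 := mul_mem (inv_mem hcM) (hnorm _ (hQX a' ha') _ hcM)
        rwa [show (((a' : Subgroup.centralizer ({z} : Set G)) : G)) * (c : G) *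
          (((a' : Subgroup.centralizer ({z} : Set G)) : G))⁻¹ = (c : G) * z from congrArg Subtype.val this,
          inv_mul_cancel_left] at h2
  -- all classes of squared length 64, hence everything
  have hT : ∀ n, (n = 0 ∨ kn n ∈ uCls ∨ kn n ∈ vCls) → ∀ a : Q, Rep ψ (kap n) a →
      ((a : Subgroup.centralizer ({z} : Set G)) : G) ∈ M := by
    intro n hn a ha
    have hab := rep_commute F hb7 hb (by rw [sg_kap]; exact cong_refl _) ha
    rcases hn with rfl | h
    · have h2 : a ∈ Subgroup.center Q := by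
        refine (QuotientGroup.eq_one_iff _).1 (ha.symm.trans ((F.iso.2.2.1 _).2 ⟨0, ?_⟩))
        simp [kap]
      rcases F.center_iff.1 h2 with r | r <;> rw [r]
      · exact one_mem _
      · exact hzM
    · obtain ⟨c, hc, hcz⟩ := hcl a hab ((cl_kap F ha).2 h)
      rw [← hcz]
      exact hnorm c hc z hzM
  obtain ⟨n, hn⟩ := exists_kap F hb hq
  obtain ⟨n1, n2, h1, h2, rfl⟩ := decompose n
  obtain ⟨a1, ha1⟩ := Frame.exists_rep (ψ := ψ) (kap n1)
  obtain ⟨a2, ha2⟩ := Frame.exists_rep (ψ := ψ) (kap n2)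
  have h12 : Rep ψ (kap (n1 + n2)) (a1 * a2) := (F.psi_eq_iff.2 (cong_symm (kap_add n1 n2))).trans (F.rep_mul ha1 ha2)
  rcases F.rep_unique h12 hn with r | r <;> rw [r]
  · exact mul_mem (hT n1 h1 a1 ha1) (hT n2 h2 a2 ha2)
  · exact mul_mem (mul_mem (hT n1 h1 a1 ha1) (hT n2 h2 a2 ha2)) hzM

/-- `C_Q(b)` lies in the layer of the centraliser of `b`. -/
theorem mem_layer (F : Frame Q e ψ) (hb7 : orderOf (b : G) = 7) (hb : e (QuotientGroup.mk b) = pj sg)
    {q : Q} (hq : Commute b (q : Subgroup.centralizer ({z} : Set G))) :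
    ((q : Subgroup.centralizer ({z} : Set G)) : G) ∈
      (layer ↥(Subgroup.centralizer ({(b : G)} : Set G))).map (Subgroup.centralizer ({(b : G)} : Set G)).subtype := by
  classical
  set X := Subgroup.centralizer ({(b : G)} : Set G) with hX
  have hmemX : ∀ g : G, g ∈ X ↔ Commute (b : G) g := fun g => by
    rw [hX, Subgroup.mem_centralizer_singleton_iff]
    exact ⟨Eq.symm, fun h => h.eq.symm⟩
  have hbX : (b : G) ∈ X := (hmemX _).2 (Commute.refl _)
  set bX : X := ⟨(b : G), hbX⟩ with hbX'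
  set B := Subgroup.zpowers bX with hB
  have hBc : B ≤ Subgroup.center X := by
    rw [hB, Subgroup.zpowers_le, Subgroup.mem_center_iff]
    exact fun g => Subtype.ext ((hmemX _).1 g.2).eq.symm
  -- a normal subgroup with `b` adjoined, seen in `G`
  have big : ∀ (N : Subgroup X), N.Normal → ¬ N ≤ B → ∀ q : Q, Commute b (q : Subgroup.centralizer ({z} : Set G)) →
      ∃ l : X, l ∈ N ∧ ∃ i : ℕ, ((q : Subgroup.centralizer ({z} : Set G)) : G) = (l : G) * (b : G) ^ i := by
    intro N hN hNB q hq
    have hsup : (N ⊔ B).Normal := by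
      have : B.Normal := ⟨fun n hn g => by rw [(Subgroup.mem_center_iff.1 (hBc hn) g), mul_inv_cancel_right]; exact hn⟩
      infer_instance
    have h := normal_contains F hb7 hb ((N ⊔ B).map X.subtype) (Subgroup.map_subtype_le _)
      (fun c hc m hm => by
        obtain ⟨m, hm, rfl⟩ := hm
        exact ⟨⟨c, hc⟩ * m * ⟨c, hc⟩⁻¹, hsup.conj_mem m hm _, rfl⟩)
      ⟨bX, Subgroup.mem_sup_right (Subgroup.mem_zpowers _), rfl⟩
      (fun hle => hNB fun n hn => by
        have h := hle ⟨n, Subgroup.mem_sup_left hn, rfl⟩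
        obtain ⟨i, hi⟩ := Subgroup.mem_zpowers_iff.1 h
        exact Subgroup.mem_zpowers_iff.2 ⟨i, Subtype.ext hi⟩) hq
    obtain ⟨y, hy, hye⟩ := h
    haveI := hN
    obtain ⟨l, hl, c, hc, rfl⟩ := Subgroup.mem_sup_of_normal_left.1 hy
    obtain ⟨i, hi⟩ := mem_powers_iff_mem_zpowers.2 hc
    exact ⟨l, hl, i, by rw [← hye, show c = bX ^ i from hi.symm]; rfl⟩
  have hz1 : z ≠ 1 := F.setting.ext.z_ne
  have hzQ : ∀ i : ℕ, z ≠ (b : G) ^ i := fun i hi => hz1 (by
    have h7 : z ^ 7 = 1 := by rw [hi, ← pow_mul, mul_comm, pow_mul, ← hb7, pow_orderOf_eq_one, one_pow]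
    rwa [show 7 = 2 * 3 + 1 from rfl, pow_succ, pow_mul, pow_two, F.setting.ext.z_sq, one_pow, one_mul] at h7)
  -- two elements with commutator `z`
  obtain ⟨a, hab, a', ha'b, haa'⟩ : ∃ a : Q, Commute b (a : Subgroup.centralizer ({z} : Set G)) ∧
      ∃ a' : Q, Commute b (a' : Subgroup.centralizer ({z} : Set G)) ∧
        (a : Subgroup.centralizer ({z} : Set G)) * a' ≠ a' * a := by
    by_contra hall
    push Not at hall
    obtain ⟨a, ha⟩ := Frame.exists_rep (ψ := ψ) (kap (kof 32))
    have hab : Commute b (a : Subgroup.centralizer ({z} : Set G)) :=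
      rep_commute F hb7 hb (by rw [sg_kap]; exact cong_refl _) ha
    have h32 : kn (kof 32) ∈ uCls := by decide +kernel
    obtain ⟨h1, h2⟩ := F.rep_ne (Or.inr rfl) ((cl_kap F ha).2 (Or.inl h32))
    rcases central_class F hb7 hb hab (hall a hab) with r | r
    exacts [h1 r, h2 r]
  have hFle : fittingSubgroup X ≤ B := by
    by_contra hne
    set F0 := fittingSubgroup X with hF0
    obtain ⟨n, hn⟩ := (Subgroup.isNilpotent_iff_lowerCentralSeries F0).1 inferInstance
    have key : ∀ k, ¬ F0.lowerCentralSeries k ≤ B := by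
      intro k
      induction k with
      | zero => exact hne
      | succ k ih =>
        intro hle
        obtain ⟨l, hl, i, hi⟩ := big _ inferInstance ih a hab
        obtain ⟨l', hl', i', hi'⟩ := big F0 inferInstance hne a' ha'b
        have hc : ⁅l, l'⁆ ∈ B := hle (Subgroup.commutator_mem_commutator hl hl')
        obtain ⟨j, hj⟩ := mem_powers_iff_mem_zpowers.2 hc
        refine hzQ j ?_
        have hl1 : (l : G) * (b : G) = (b : G) * l := ((hmemX _).1 l.2).eq.symm
        have hl2 : (l' : G) * (b : G) = (b : G) * l' := ((hmemX _).1 l'.2).eq.symm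
        have hval : (b : G) ^ j = (l : G) * l' * (l : G)⁻¹ * (l' : G)⁻¹ := by
          have := congrArg Subtype.val hj
          simpa [commutatorElement_def] using this
        have hbb : ∀ (x : G) (m : ℕ), x * (b : G) = (b : G) * x → x * (b : G) ^ m = (b : G) ^ m * x := fun x m h =>
          (Commute.pow_right h m).eq
        have hcz := F.extra.conj_eq_of_not_comm a'.2 a.2 haa'
        have hcz' : ((a : Subgroup.centralizer ({z} : Set G)) : G) * (a' : Subgroup.centralizer ({z} : Set G)) *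
            ((a : Subgroup.centralizer ({z} : Set G)) : G)⁻¹ = ((a' : Subgroup.centralizer ({z} : Set G)) : G) * z :=
          congrArg Subtype.val hcz
        rw [hi, hi'] at hcz'
        have e1 : (l : G) * (b : G) ^ i * ((l' : G) * (b : G) ^ i') * ((l : G) * (b : G) ^ i)⁻¹ =
            (l : G) * l' * (l : G)⁻¹ * (b : G) ^ i' := by
          calc (l : G) * (b : G) ^ i * ((l' : G) * (b : G) ^ i') * ((l : G) * (b : G) ^ i)⁻¹
              = (l : G) * ((b : G) ^ i * ((l' : G) * (b : G) ^ i') * ((b : G) ^ i)⁻¹) * (l : G)⁻¹ := by group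
            _ = (l : G) * ((l' : G) * (b : G) ^ i') * (l : G)⁻¹ := by
              rw [← mul_assoc ((b : G) ^ i), ← hbb _ i hl2, mul_assoc (l' : G), ← pow_add, add_comm, pow_add,
                ← mul_assoc (l' : G), mul_inv_cancel_right]
            _ = (l : G) * l' * (l : G)⁻¹ * ((l : G) * (b : G) ^ i' * (l : G)⁻¹) := by group
            _ = (l : G) * l' * (l : G)⁻¹ * (b : G) ^ i' := by rw [hbb _ i' hl1, mul_inv_cancel_right]
        have hzb : (b : G) * z = z * b := Subgroup.mem_centralizer_singleton_iff.1 b.2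
        rw [e1, mul_assoc (l' : G), ((Commute.pow_left hzb i').eq), ← mul_assoc] at hcz'
        have hcz2 := mul_right_cancel hcz'
        rw [hcz2] at hval
        have hzl : (l' : G) * z * (l' : G)⁻¹ = z := by
          have hl'e : (l' : G) = ((a' : Subgroup.centralizer ({z} : Set G)) : G) * ((b : G) ^ i')⁻¹ := by
            rw [hi', mul_inv_cancel_right]
          rw [hl'e]
          have h1 : Commute ((a' : Subgroup.centralizer ({z} : Set G)) : G) z :=
            Subgroup.mem_centralizer_singleton_iff.1 (a' : Subgroup.centralizer ({z} : Set G)).2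
          have h2 : Commute ((b : G) ^ i')⁻¹ z := (Commute.pow_left hzb i').inv_left
          rw [(h1.mul_left h2).eq, mul_inv_cancel_right]
        rw [hval, hzl]
    exact key n (hn ▸ bot_le)
  have hE : ¬ layer X ≤ B := by
    intro hle
    have hFs : generalizedFittingSubgroup X ≤ B := sup_le hle hFle
    have hcen : (⊤ : Subgroup X) ≤ generalizedFittingSubgroup X := by
      refine le_trans ?_ Components.centralizer_generalizedFitting_le
      exact fun x _ => Subgroup.mem_centralizer_iff.2 fun y hy => (Subgroup.mem_center_iff.1 (hBc (hFs hy)) x).symm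
    have hzX : z ∈ X := (hmemX z).2 (Subgroup.mem_centralizer_singleton_iff.1 b.2)
    obtain ⟨i, hi⟩ := mem_powers_iff_mem_zpowers.2 (hFs (hcen (Subgroup.mem_top (⟨z, hzX⟩ : X))))
    exact hzQ i (congrArg Subtype.val hi).symm
  obtain ⟨l, hl, i, hi⟩ := big (layer X) inferInstance hE q hq
  set qG : G := ((q : Subgroup.centralizer ({z} : Set G)) : G) with hqG
  have h4 : qG ^ 4 = 1 := by
    have hs : qG * qG = 1 ∨ qG * qG = z :=
      (F.extra.sq_cases q.2).imp (congrArg Subtype.val) (congrArg Subtype.val)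
    rw [show 4 = 2 * 2 from rfl, pow_mul, pow_two qG]
    rcases hs with r | r <;> rw [r, pow_two]
    · exact one_mul 1
    · exact F.setting.ext.z_sq
  have hlb : Commute (l : G) (b : G) := ((hmemX _).1 l.2).symm
  have h7 : qG ^ 7 = (l : G) ^ 7 := by
    rw [hi, (hlb.pow_right i).mul_pow, ← pow_mul, mul_comm i, pow_mul, ← hb7, pow_orderOf_eq_one, one_pow, mul_one]
  have hq49 : qG = ((l : G) ^ 7) ^ 7 := by
    rw [← h7, ← pow_mul, show 7 * 7 = 4 * 12 + 1 from rfl, pow_succ, pow_mul, h4, one_pow, one_mul]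
  refine ⟨(l ^ 7) ^ 7, pow_mem (pow_mem hl 7) 7, ?_⟩
  rw [hq49]
  rfl

end CfsgLib.Sporadic.MonsterFusion.Held
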