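import Cfsg.Agent.Lib.Sporadic.MonsterFusion.Cross
import Cfsg.Agent.Lib.Sporadic.LeechCrossMax

/-!
Tables for the element of order seven with three fixed points: its cycles, the classes of fixed
vectors, and three words in the generators of the lattice group.
-/

set_option autoImplicit false

namespace CfsgLib.Sporadic.MonsterFusion.Held

open CfsgLib.Sporadic.LeechCrossData

/-- The images of the positions under the element. -/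
def sigT : List ℕ := [19, 7, 4, 3, 22, 2, 6, 17, 13, 8, 20, 9, 10, 18, 16, 14, 12, 5, 0, 11, 21, 15, 1, 23]

/-- The images of the positions under its inverse. -/
def sigI : List ℕ := [18, 22, 5, 3, 2, 17, 6, 1, 9, 11, 12, 19, 16, 8, 15, 21, 14, 7, 13, 0, 10, 20, 4, 23]

/-- The three cycles, each starting at its first point. -/
def cycs : List (List ℕ) := [[0, 19, 11, 9, 8, 13, 18], [1, 7, 17, 5, 2, 4, 22], [10, 20, 21, 15, 14, 16, 12]]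

/-- The fixed positions. -/
def fixd : List ℕ := [3, 6, 23]

/-- The block of a position: a cycle or a fixed point. -/
def blkT : List ℕ := [0, 1, 1, 3, 1, 1, 4, 1, 0, 0, 2, 0, 2, 0, 2, 2, 2, 1, 0, 0, 2, 2, 1, 5]

/-- The index of a position inside its cycle. -/
def posT : List ℕ := [0, 0, 4, 0, 5, 3, 0, 1, 4, 3, 0, 2, 6, 5, 4, 3, 5, 2, 6, 1, 1, 2, 6, 0]

/-- The six permutations of three letters. -/
def tauT : List (List ℕ) := [[0, 1, 2], [0, 2, 1], [1, 0, 2], [1, 2, 0], [2, 0, 1], [2, 1, 0]]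

/-- The shifts of the second and third cycle that go with them in `M24`. -/
def shiftT : List (ℕ × ℕ) := [(0, 0), (0, 0), (6, 3), (3, 6), (6, 3), (3, 6)]

/-- Short vectors in the 64 classes of fixed vectors. -/
def shortT : List (List ℤ) := [
  [0, 0, 0, 0, 0, 0], [-1, -1, -1, -1, -1, 3], [-2, 0, 0, -2, 0, 0], [-1, 1, 1, -1, 1, -3],
  [-2, -2, 0, -2, -2, 0], [-1, -1, 1, -1, -1, -3], [0, -2, 0, 0, -2, 0], [-1, 1, -1, -1, 1, 3],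
  [0, 0, 0, -4, 0, 4], [-1, -1, -1, 3, -1, -1], [-2, 0, 0, 2, 0, -4], [-1, 1, 1, -5, 1, 1],
  [0, 0, -2, 4, 0, 2], [-1, -1, 1, -5, -1, 1], [-2, 0, -2, 2, 0, 2], [-1, 1, -1, 3, 1, -1],
  [0, 0, 0, 0, -4, 4], [-1, -1, -1, -1, 3, -1], [0, -2, -2, 0, 2, 2], [-1, 1, 1, -1, -3, 1],
  [0, 0, -2, 0, 4, 2], [-1, -1, 1, -1, -5, 1], [0, -2, 0, 0, 2, -4], [-1, 1, -1, -1, 5, -1],
  [0, 0, 0, -4, 4, 0], [-1, -1, -1, -5, 3, 3], [-2, 0, 0, 2, -4, 0], [-1, 1, 1, 3, -3, -3],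
  [-2, 2, 0, 2, -2, 0], [-1, -1, 1, -5, 3, -3], [0, -2, 0, -4, 2, 0], [-1, 1, -1, 3, -3, 3],
  [0, 0, 0, -8, 0, 0], [-1, -1, -1, -1, -1, -5], [-2, 0, 0, 6, 0, 0], [-1, 1, 1, -1, 1, 5],
  [0, 0, -2, 0, 0, -2], [-1, -1, 1, -1, -1, 5], [-2, 0, -2, -2, 0, -2], [-1, 1, -1, -1, 1, -5],
  [0, 0, 0, -4, 0, -4], [-1, -1, -1, -5, -1, -1], [-2, 0, 0, 2, 0, 4], [-1, 1, 1, 3, 1, 1],
  [0, 0, -2, -4, 0, 2], [-1, -1, 1, 3, -1, 1], [-2, 0, 2, 2, 0, -2], [-1, 1, -1, -5, 1, -1],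
  [0, 0, 0, 0, -4, -4], [-1, -1, -1, -1, -5, -1], [0, -2, 2, 0, 2, -2], [-1, 1, 1, -1, 5, 1],
  [0, 0, -2, 0, -4, 2], [-1, -1, 1, -1, 3, 1], [0, -2, 0, 0, 2, 4], [-1, 1, -1, -1, -3, -1],
  [0, 0, 0, -4, -4, 0], [-1, -1, -1, 3, 3, 3], [-2, 0, 0, 2, 4, 0], [-1, 1, 1, -5, -3, -3],
  [-2, -2, 0, 2, 2, 0], [-1, -1, 1, 3, 3, -3], [0, -2, 0, 4, 2, 0], [-1, 1, -1, -5, -3, 3]]

/-- The classes in the orbit of the base vector. -/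
def uCls : List ℕ := [32, 60, 14, 18, 50, 46, 28]

/-- The other classes of squared length 64. -/
def vCls : List ℕ := [4, 38, 34, 25, 29, 63, 59]

/-- The word of a commuting element that moves the base vector inside the orbit. -/
def wordU : List Step := [
    ⟨[0, 3, 9, 2, 19, 12, 5, 7, 23, 16, 14, 13, 20, 1, 15, 8, 21, 18, 22, 4, 6, 11, 10, 17], [0, 13, 3, 1, 19, 6, 20, 7, 15, 2, 22, 21, 5, 11, 10, 14, 9, 23, 17, 4, 12, 16, 18, 8], 526, true⟩,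
    ⟨[5, 10, 21, 14, 15, 13, 22, 8, 19, 20, 18, 4, 7, 17, 3, 9, 23, 12, 11, 2, 16, 0, 6, 1], [21, 23, 19, 14, 11, 0, 22, 12, 7, 15, 1, 18, 17, 5, 3, 4, 20, 13, 10, 8, 9, 2, 6, 16], 447, true⟩,
    ⟨[4, 8, 19, 6, 15, 1, 13, 5, 23, 11, 2, 20, 21, 12, 3, 0, 16, 9, 14, 18, 22, 17, 10, 7], [15, 5, 10, 14, 0, 7, 3, 23, 1, 17, 22, 9, 13, 6, 18, 4, 16, 21, 19, 2, 11, 12, 20, 8], 772, false⟩]

/-- The word of an inverting element reaching the first class outside. -/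
def wordA : List Step := [
    ⟨[0, 9, 16, 12, 22, 20, 6, 3, 23, 18, 4, 11, 19, 1, 10, 13, 15, 7, 2, 8, 21, 14, 5, 17], [0, 13, 18, 7, 10, 22, 6, 17, 19, 1, 14, 11, 3, 15, 21, 16, 2, 23, 9, 12, 5, 20, 4, 8], 438, true⟩,
    ⟨[8, 20, 9, 17, 2, 22, 13, 14, 15, 16, 23, 11, 12, 7, 6, 19, 4, 1, 18, 0, 3, 21, 5, 10], [19, 17, 4, 20, 16, 22, 14, 13, 0, 2, 23, 11, 12, 6, 7, 8, 9, 3, 18, 15, 1, 21, 5, 10], 1256, true⟩,
    ⟨[13, 18, 4, 6, 2, 1, 19, 5, 23, 12, 20, 15, 16, 3, 11, 10, 22, 0, 14, 17, 21, 8, 9, 7], [17, 5, 4, 13, 2, 7, 3, 23, 21, 22, 15, 14, 9, 0, 18, 11, 12, 19, 1, 6, 10, 20, 16, 8], 2914, false⟩]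

/-- The word of an inverting element reaching the second class outside. -/
def wordB : List Step := [
    ⟨[0, 22, 3, 6, 4, 1, 15, 7, 20, 18, 14, 13, 23, 12, 2, 21, 19, 11, 17, 8, 5, 10, 16, 9], [0, 5, 14, 2, 4, 20, 3, 7, 19, 23, 21, 17, 13, 11, 10, 6, 22, 18, 9, 16, 8, 15, 1, 12], 548, true⟩,
    ⟨[20, 21, 11, 19, 7, 18, 2, 0, 6, 1, 13, 8, 17, 12, 3, 16, 5, 10, 15, 23, 4, 22, 9, 14], [7, 9, 6, 14, 20, 16, 8, 4, 11, 22, 17, 2, 13, 10, 23, 18, 15, 12, 5, 3, 0, 1, 21, 19], 322, true⟩,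
    ⟨[13, 7, 15, 21, 12, 10, 20, 5, 11, 14, 19, 3, 23, 17, 16, 8, 4, 1, 2, 9, 6, 18, 22, 0], [23, 17, 18, 11, 16, 7, 20, 1, 15, 19, 5, 8, 4, 0, 9, 2, 14, 13, 21, 10, 6, 3, 22, 12], 2349, true⟩,
    ⟨[10, 0, 1, 19, 6, 7, 11, 4, 21, 14, 15, 2, 22, 23, 20, 17, 3, 18, 5, 9, 12, 16, 13, 8], [1, 2, 11, 16, 7, 18, 4, 5, 23, 19, 0, 6, 20, 22, 9, 10, 21, 15, 17, 3, 14, 8, 12, 13], 3720, false⟩]

end CfsgLib.Sporadic.MonsterFusion.Held
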