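import Cfsg.Agent.Lib.Sporadic.MonsterFusion.Cross

/-!
`Q ∩ Q^g` and the image of `C(z) ∩ Q^g`.
-/

set_option autoImplicit false

namespace CfsgLib.Sporadic.MonsterFusion

open Cfsg CfsgLib.SmallGroups CfsgLib.ThreeTransp.Extraspecial

variable {G : Type*} [Group G] [Finite G] {z : G} {Q : Subgroup (Subgroup.centralizer ({z} : Set G))}
  [Q.Normal] {e : (Subgroup.centralizer ({z} : Set G)) ⧸ Q ≃* Spor.Co1}
  {ψ : leechLattice → Q ⧸ Subgroup.center Q}

namespace Frame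

/-- The image of the joint centraliser is a cross stabiliser and that of `C(z) ∩ Q^g` its sign part. -/
theorem images_of_cross (F : Frame Q e ψ) {g : G} {u : Q} {k : Co0}
    (hu : g * z * g⁻¹ = ((u : Subgroup.centralizer ({z} : Set G)) : G))
    (hne : g * z * g⁻¹ ≠ z) {v : leechLattice} (hv : sqNorm (v : GolayPt → ℤ) = 64)
    (hr : Rep ψ v u) (hk : k • LeechOrder.base8 = v) :
    (∀ x, (∃ h : Subgroup.centralizer ({z} : Set G), e (QuotientGroup.mk h) = x ∧ h * u = u * h) ↔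
        x ∈ M1.map (MulAut.conj (pj k)).toMonoidHom) ∧
      eIm e g = S1.map (MulAut.conj (pj k)).toMonoidHom := by
  obtain ⟨h1, h2⟩ := F.rep_ne (Or.inr rfl) ⟨v, hv, hr⟩
  have hX : ∀ x, (∃ h : Subgroup.centralizer ({z} : Set G), e (QuotientGroup.mk h) = x ∧ h * u = u * h) ↔
      x ∈ M1.map (MulAut.conj (pj k)).toMonoidHom := fun x => by
    rw [← cong_conj hk x]
    constructor
    · rintro ⟨h, rfl, hh⟩
      exact (F.stab_iff hr h1 h2 _).1 ⟨h, rfl, hh⟩
    · rintro ⟨g', hg, hc⟩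
      obtain ⟨h, hh, hh'⟩ := (F.stab_iff hr h1 h2 (e.symm x)).2 ⟨g', by rw [e.apply_symm_apply, hg], hc⟩
      exact ⟨h, by rw [hh, e.apply_symm_apply], hh'⟩
  refine ⟨hX, ?_⟩
  obtain ⟨hb, hle, hnorm⟩ := F.eIm_props hu hne
  set c := (MulAut.conj (pj k))
  have hP := eq_S1 (P := (eIm e g).comap c.toMonoidHom) ?_ ?_ ?_ ?_
  · rw [← hP, Subgroup.map_comap_eq_self_of_surjective c.surjective]
  · intro x hx
    obtain ⟨y, hy, hxy⟩ := (hX _).1 (hle _ hx)
    rwa [← c.injective hxy]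
  · exact (F.isPGroup_eIm g).comap_of_injective _ c.injective
  · intro x hx y hy
    obtain ⟨h, hh, hh'⟩ := (hX (c x)).2 ⟨x, hx, rfl⟩
    rw [Subgroup.mem_comap, map_mul, map_mul, map_inv]
    have := hnorm h hh' _ hy
    rwa [hh] at this
  · intro h
    apply hb
    rw [← Subgroup.map_comap_eq_self_of_surjective (f := c.toMonoidHom) c.surjective (eIm e g), h,
      Subgroup.map_bot]

theorem exists_cross (F : Frame Q e ψ) {g : G} {u : Q}
    (hu : g * z * g⁻¹ = ((u : Subgroup.centralizer ({z} : Set G)) : G))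
    (hne : g * z * g⁻¹ ≠ z) : ∃ k : Co0,
    (∀ x, (∃ h : Subgroup.centralizer ({z} : Set G), e (QuotientGroup.mk h) = x ∧ h * u = u * h) ↔
        x ∈ M1.map (MulAut.conj (pj k)).toMonoidHom) ∧
      eIm e g = S1.map (MulAut.conj (pj k)).toMonoidHom := by
  obtain ⟨v, hv, hr⟩ := (F.conj_iff u).1 ⟨isConj_iff.2 ⟨g, hu⟩, hu ▸ hne⟩
  obtain ⟨k, hk⟩ := LeechTransitive.transitive64 LeechOrder.base8 v LeechOrder.norm_base8 hv
  exact ⟨k, F.images_of_cross hu hne hv hr hk⟩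

theorem card_inter (F : Frame Q e ψ) {g : G} {u : Q}
    (hu : g * z * g⁻¹ = ((u : Subgroup.centralizer ({z} : Set G)) : G))
    (hne : g * z * g⁻¹ ≠ z) :
    Nat.card ↥(Q.map (Subgroup.centralizer ({z} : Set G)).subtype ⊓
      (Q.map (Subgroup.centralizer ({z} : Set G)).subtype).map (MulAut.conj g).toMonoidHom) = 2 ^ 13 := by
  obtain ⟨k, -, hE⟩ := F.exists_cross hu hne
  set Q' := (Q.map (Subgroup.centralizer ({z} : Set G)).subtype).map (MulAut.conj g).toMonoidHom with hQ'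
  set D := Q'.subgroupOf (Subgroup.centralizer ({z} : Set G)) with hD
  have hmem : g * z * g⁻¹ ∈ Q.map (Subgroup.centralizer ({z} : Set G)).subtype := ⟨u, u.2, hu.symm⟩
  have hcD : Nat.card D = 2 ^ (2 * 12) := by
    rw [← F.setting.card_conj_inf hmem hne, ← hQ', hD, ← Subgroup.inf_subgroupOf_right,
      Nat.card_congr (Subgroup.subgroupOfEquivOfLe inf_le_right).toEquiv]
  have h := card_map_mul' (QuotientGroup.mk' Q) D
  have hcE : Nat.card ↥(D.map (QuotientGroup.mk' Q)) = 2 ^ 11 := by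
    have : eIm e g = (D.map (QuotientGroup.mk' Q)).map e.toMonoidHom := rfl
    rw [← Subgroup.card_map_of_injective (f := e.toMonoidHom) e.injective, ← this, hE,
      Subgroup.card_map_of_injective (MulAut.conj (pj k)).injective, card_S1]
  rw [hcE, hcD, QuotientGroup.ker_mk'] at h
  have e2 : (Q ⊓ D).map (Subgroup.centralizer ({z} : Set G)).subtype =
      Q.map (Subgroup.centralizer ({z} : Set G)).subtype ⊓ Q' := by
    ext x
    constructor
    · rintro ⟨y, hy, rfl⟩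
      exact ⟨⟨y, hy.1, rfl⟩, hy.2⟩
    · rintro ⟨⟨y, hy, rfl⟩, hx⟩
      exact ⟨y, ⟨hy, hx⟩, rfl⟩
  rw [← e2, Subgroup.card_map_of_injective (Subgroup.centralizer ({z} : Set G)).subtype_injective]
  omega

theorem structure_X (F : Frame Q e ψ) {s : G} (hsC : s ∈ Subgroup.centralizer ({z} : Set G))
    (hsQ : (⟨s, hsC⟩ : Subgroup.centralizer ({z} : Set G)) ∈ Q) (hs1 : s ≠ z) {g : G}
    (hg : g * z * g⁻¹ = s) (X E : Subgroup ((Subgroup.centralizer ({z} : Set G)) ⧸ Q))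
    (hX : X = ((Subgroup.centralizer ({z} : Set G) ⊓ Subgroup.centralizer ({s} : Set G)).subgroupOf
      (Subgroup.centralizer ({z} : Set G))).map (QuotientGroup.mk' Q))
    (hE : E = (((Q.map (Subgroup.centralizer ({z} : Set G)).subtype).map (MulAut.conj g).toMonoidHom ⊓
      Subgroup.centralizer ({z} : Set G)).subgroupOf
      (Subgroup.centralizer ({z} : Set G))).map (QuotientGroup.mk' Q)) :
    E ≤ X ∧ (∀ x ∈ X, ∀ y ∈ E, x * y * x⁻¹ ∈ E) ∧ Cfsg.IsElementaryAbelian 2 E ∧ Nat.card E = 2 ^ 11 ∧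
      ∃ K : Subgroup ((Subgroup.centralizer ({z} : Set G)) ⧸ Q),
        K ≤ X ∧ E ⊓ K = ⊥ ∧ E ⊔ K = X ∧ Nonempty (K ≃* Cfsg.M24) := by
  obtain ⟨k, hX', hE'⟩ := F.exists_cross (u := ⟨_, hsQ⟩) hg (hg ▸ hs1)
  set f := (MulAut.conj (pj k)).trans e.symm with hf
  have hfI : Function.Injective f.toMonoidHom := f.injective
  have hEf : E = S1.map f.toMonoidHom := by
    have hc : S1.map f.toMonoidHom = (eIm e g).map e.symm.toMonoidHom := by
      rw [hE', Subgroup.map_map]; rfl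
    rw [hc, hE, Subgroup.inf_subgroupOf_right, eIm, Subgroup.map_map _ e.symm.toMonoidHom]
    simp
  have hXf : X = M1.map f.toMonoidHom := by
    rw [hX, Subgroup.inf_subgroupOf_left]
    ext x
    constructor
    · rintro ⟨h, hh, rfl⟩
      obtain ⟨y, hy, hye⟩ := (hX' _).1 ⟨h, rfl, Subtype.ext (Subgroup.mem_centralizer_singleton_iff.1 hh)⟩
      exact ⟨y, hy, (congrArg e.symm hye).trans (e.symm_apply_apply _)⟩
    · rintro ⟨y, hy, rfl⟩
      obtain ⟨h, hh, hc⟩ := (hX' _).2 ⟨y, hy, rfl⟩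
      exact ⟨h, Subgroup.mem_centralizer_singleton_iff.2 (congrArg Subtype.val hc),
        e.injective (by rw [QuotientGroup.mk'_apply, hh]; exact (e.apply_symm_apply _).symm)⟩
  subst hEf
  subst hXf
  refine ⟨Subgroup.map_mono S1_le, ?_, ?_, ?_, K1.map f.toMonoidHom, Subgroup.map_mono K1_le, ?_, ?_, ?_⟩
  · rintro _ ⟨x, hx, rfl⟩ _ ⟨y, hy, rfl⟩
    exact ⟨x * y * x⁻¹, S1_normal hx hy, by simp⟩
  · obtain ⟨hcomm, hsq⟩ := S1_sq
    refine ⟨⟨⟨?_⟩⟩, ?_⟩
    · rintro ⟨_, a, ha, rfl⟩ ⟨_, b, hb, rfl⟩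
      refine Subtype.ext ?_
      show f.toMonoidHom a * f.toMonoidHom b = f.toMonoidHom b * f.toMonoidHom a
      have := congrArg Subtype.val (hcomm.is_comm.comm (⟨a, ha⟩ : S1) ⟨b, hb⟩)
      rw [← map_mul, ← map_mul]
      exact congrArg _ this
    · rintro _ ⟨a, ha, rfl⟩
      rw [← map_pow, hsq a ha, map_one]
  · rw [Subgroup.card_map_of_injective hfI, card_S1]
  · rw [← Subgroup.map_inf _ _ _ hfI, inf_eq, Subgroup.map_bot]
  · rw [← Subgroup.map_sup, sup_eq]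
  · obtain ⟨φ⟩ := K1_equiv
    exact ⟨(K1.equivMapOfInjective _ hfI).symm.trans φ⟩

end Frame

end CfsgLib.Sporadic.MonsterFusion
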