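import Cfsg.Agent.Lib.Sporadic.MonsterFusion.THTables

/-!
The element of order three without fixed points and the classes of its fixed vectors.
-/

set_option autoImplicit false
set_option maxRecDepth 20000

namespace CfsgLib.Sporadic.MonsterFusion.TH

open Cfsg CfsgLib.SmallGroups CfsgLib.SmallGroups.Golay CfsgLib.SmallGroups.M24Group
  CfsgLib.Sporadic.M24Orbits CfsgLib.SmallGroups.LeechGroup

/-- The permutation with the given tables. -/
def sigma : Equiv.Perm GolayPt :=
  ⟨tblFun sigT, tblFun sigI, by decide +kernel, by decide +kernel⟩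

theorem sigma_mem : sigma ∈ M24 :=
  mem_M24_of_basis (f := tblFun sigT) (fun _ => rfl) (by decide +kernel)

/-- The element of `M24`. -/
def sM : M24 := ⟨sigma, sigma_mem⟩

/-- The lattice automorphism. -/
noncomputable def sg : Co0 := (permM sM : monoSub)

theorem permM_apply (π : M24) (v : leechLattice) (q : GolayPt) :
    (((permM π : Co0) • v : leechLattice) : GolayPt → ℤ) q =
      (v : GolayPt → ℤ) ((π : Equiv.Perm GolayPt).symm q) := by
  show (((LeechMonomial.mono (π, ⟨∅, LeechReach.empty_mem_CS⟩)) • v : leechLattice) : GolayPt → ℤ) q = _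
  rw [LeechMonomial.mono_apply]
  simp [signedPerm]

theorem sg_apply (v : leechLattice) (q : GolayPt) :
    ((sg • v : leechLattice) : GolayPt → ℤ) q = (v : GolayPt → ℤ) (sigma.symm q) := permM_apply sM v q

/-! ### Blocks -/

/-- The block of a point. -/
def blk (p : GolayPt) : Fin 8 := Fin.ofNat 8 (blkT.getD (idx p) 0)

/-- The index of a point in its cycle. -/
def pos (p : GolayPt) : ℕ := posT.getD (idx p) 0

/-- The point of a cycle with the given index. -/
def cpt (j i : ℕ) : GolayPt := pt ((cycs.getD j []).getD (i % 3) 0)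

/-- The first point of a block. -/
def rep (b : Fin 8) : GolayPt := cpt b 0

/-- The vector constant on blocks. -/
def fv (a : Fin 8 → ℤ) : GolayPt → ℤ := fun p => a (blk p)

theorem blk_rep : ∀ b, blk (rep b) = b := by decide +kernel

theorem pos_spec : ∀ p, (tblFun sigT)^[pos p] (rep (blk p)) = p := by decide +kernel

theorem eq_fv {v : leechLattice} (h : sg • v = v) :
    (v : GolayPt → ℤ) = fv fun b => (v : GolayPt → ℤ) (rep b) := by
  have hs : ∀ q, (v : GolayPt → ℤ) (tblFun sigT q) = (v : GolayPt → ℤ) q := fun q => by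
    have := sg_apply v (tblFun sigT q)
    rwa [h, show sigma.symm (tblFun sigT q) = q from sigma.symm_apply_apply q] at this
  have hi : ∀ n q, (v : GolayPt → ℤ) ((tblFun sigT)^[n] q) = (v : GolayPt → ℤ) q := by
    intro n
    induction n with
    | zero => intro q; rfl
    | succ n ih => intro q; rw [Function.iterate_succ', Function.comp, hs, ih]
  funext p
  conv_lhs => rw [← pos_spec p]
  rw [hi]
  rfl

theorem sg_fv {v : leechLattice} {a : Fin 8 → ℤ} (h : (v : GolayPt → ℤ) = fv a) : sg • v = v := by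
  refine Subtype.ext (funext fun q => ?_)
  rw [sg_apply, h, fv, fv]
  exact congrArg a ((by decide +kernel : ∀ q, blk (tblFun sigI q) = blk q) q)

/-! ### Congruence of fixed vectors -/

theorem ok_of_good {T : GolayPt → ℤ} (h : LeechBasic.Good T) (p : GolayPt) :
    LeechReach.okGood (T p) T = true := by
  obtain ⟨m, h1, h2, h3⟩ := h
  have hp := (h1 p).dvd
  simp only [LeechReach.okGood, Bool.and_eq_true, decide_eq_true_eq]
  refine ⟨⟨fun i => by have := (h1 i).dvd; omega, by have := h2.dvd; omega⟩, ?_⟩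
  refine mem_code_iff_isCW.1 ?_
  rw [LeechBasic.wd_shift (m := m) (k := T p) (by omega)]
  exact add_mem h3 (Submodule.smul_mem _ _ LeechBasic.one_mem_code)

/-- The half of the difference. -/
def halfD (a b : Fin 8 → ℤ) : Fin 8 → ℤ := fun i => (a i - b i) / 2

/-- Congruence of two fixed vectors modulo twice the lattice. -/
def congB (a b : Fin 8 → ℤ) : Bool :=
  decide (∀ i, (a i - b i) % 2 = 0) && LeechReach.okGood (halfD a b 4) (fv (halfD a b))

theorem cong_iff {v w : leechLattice} {a b : Fin 8 → ℤ} (hv : (v : GolayPt → ℤ) = fv a)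
    (hw : (w : GolayPt → ℤ) = fv b) : Cong v w ↔ congB a b = true := by
  simp only [congB, Bool.and_eq_true, decide_eq_true_eq]
  constructor
  · rintro ⟨x, hx⟩
    have hh : ∀ p, a (blk p) - b (blk p) = 2 * (x : GolayPt → ℤ) p := fun p => by
      have := congrFun (congrArg Subtype.val hx) p
      simp only [AddSubgroup.coe_add, Pi.add_apply, hv, hw, fv] at this
      omega
    have h2 : ∀ i, a i - b i = 2 * (x : GolayPt → ℤ) (rep i) := fun i => by
      have := hh (rep i)
      rwa [blk_rep] at this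
    have hxe : (x : GolayPt → ℤ) = fv (halfD a b) := funext fun p => by
      have := hh p
      simp only [fv, halfD]
      omega
    refine ⟨fun i => by have := h2 i; omega, ?_⟩
    have := ok_of_good (LeechBasic.mem_lattice.1 x.2) (rep 4)
    rw [hxe] at this
    simpa [fv, blk_rep] using this
  · rintro ⟨he, hok⟩
    refine ⟨⟨_, LeechBasic.mem_lattice.2 (LeechReach.good_of_ok hok)⟩, Subtype.ext (funext fun p => ?_)⟩
    simp only [AddSubgroup.coe_add, Pi.add_apply, hv, hw, fv, halfD]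
    have := he (blk p)
    omega

/-! ### A basis of the fixed lattice -/

/-- The rows of the basis. -/
def bas8 (j : Fin 8) : Fin 8 → ℤ := fun i => (basT.getD j []).getD i 0

theorem bas8_good : ∀ j, LeechReach.okGood (bas8 j 4) (fv (bas8 j)) = true := by decide +kernel

/-- The basis vectors. -/
noncomputable def Bv (j : Fin 8) : leechLattice :=
  ⟨fv (bas8 j), LeechBasic.mem_lattice.2 (LeechReach.good_of_ok (bas8_good j))⟩

/-- The representative of a class. -/
noncomputable def kap (n : Fin 8 → ZMod 2) : leechLattice := ∑ j, (n j).val • Bv j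

/-- The coordinates of the representative. -/
def comb (n : Fin 8 → ZMod 2) : Fin 8 → ℤ := fun i => ∑ j, ((n j).val : ℤ) * bas8 j i

theorem coe_kap (n : Fin 8 → ZMod 2) : (kap n : GolayPt → ℤ) = fv (comb n) := by
  funext p
  simp [kap, comb, fv, Bv, Finset.sum_apply, -ZMod.natCast_val]

/-- Bits of a word of blocks. -/
def bword (b : Fin 8 → Bool) : GolayPt → ZMod 2 := fun p => if b (blk p) then 1 else 0

theorem bword_code : ∀ b : Fin 8 → Bool, b 0 = false → isCW (mask (bword b)) = true →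
    b 4 = Bool.xor (b 1) (b 2) ∧ b 5 = Bool.xor (b 1) (Bool.xor (b 2) (b 3)) ∧
      b 6 = Bool.xor (b 2) (b 3) ∧ b 7 = Bool.xor (b 1) (b 3) := by decide +kernel

theorem sum_fv (a : Fin 8 → ℤ) :
    ∑ p, fv a p = 3 * (a 0 + a 1 + a 2 + a 3 + a 4 + a 5 + a 6 + a 7) := by
  have h : ∑ p, fv a p = ∑ b : Fin 8, ((Finset.univ.filter fun p => blk p = b).card : ℤ) * a b := by
    rw [← Finset.sum_fiberwise_of_maps_to (t := Finset.univ) (g := blk) (fun _ _ => Finset.mem_univ _)]
    refine Finset.sum_congr rfl fun b _ => ?_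
    rw [Finset.sum_congr rfl fun p hp => show fv a p = a b from congrArg a (Finset.mem_filter.1 hp).2,
      Finset.sum_const, nsmul_eq_mul]
  have hc : ∀ b : Fin 8, (Finset.univ.filter fun p => blk p = b).card = 3 := by
    decide +kernel
  rw [h, Fin.sum_univ_eight]
  simp [hc]
  ring

theorem bas8_rows :
    bas8 0 = ![1, 1, 1, 1, 1, 1, 1, 5] ∧ bas8 1 = ![0, 2, 0, 0, 2, 2, 0, 2] ∧
      bas8 2 = ![0, 0, 2, 0, 2, 2, 2, 0] ∧ bas8 3 = ![0, 0, 0, 2, 0, 2, 2, 2] ∧
      bas8 4 = ![0, 0, 0, 0, 4, 0, 0, 4] ∧ bas8 5 = ![0, 0, 0, 0, 0, 4, 0, 4] ∧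
      bas8 6 = ![0, 0, 0, 0, 0, 0, 4, 4] ∧ bas8 7 = ![0, 0, 0, 0, 0, 0, 0, 8] := by
  refine ⟨?_, ?_, ?_, ?_, ?_, ?_, ?_, ?_⟩ <;> decide +kernel

/-- The parity of a sum of three halves. -/
theorem xor3 {x y z w : ℤ} (h : decide (x % 2 = 1) =
    Bool.xor (decide (y % 2 = 1)) (Bool.xor (decide (z % 2 = 1)) (decide (w % 2 = 1)))) :
    (x - y - z - w) % 2 = 0 := by
  rcases Int.emod_two_eq_zero_or_one x with a | a <;> rcases Int.emod_two_eq_zero_or_one y with c | c <;>
    rcases Int.emod_two_eq_zero_or_one z with d | d <;> rcases Int.emod_two_eq_zero_or_one w with f | f <;>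
      simp [a, c, d, f] at h <;> omega

/-- The parity of a sum of two halves. -/
theorem xor2 {x y z : ℤ} (h : decide (x % 2 = 1) = Bool.xor (decide (y % 2 = 1)) (decide (z % 2 = 1))) :
    (x - y - z) % 2 = 0 := by
  rcases Int.emod_two_eq_zero_or_one x with a | a <;> rcases Int.emod_two_eq_zero_or_one y with c | c <;>
    rcases Int.emod_two_eq_zero_or_one z with d | d <;> simp [a, c, d] at h <;> omega

/-- The basis spans. -/
theorem span (v : leechLattice) (h : sg • v = v) :
    ∃ n : Fin 8 → ZMod 2, Cong v (kap n) := by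
  obtain ⟨a, ha⟩ : ∃ a, (v : GolayPt → ℤ) = fv a := ⟨_, eq_fv h⟩
  obtain ⟨n0, hn0⟩ : ∃ n0 : ℤ, n0 = a 0 := ⟨_, rfl⟩
  set a' : Fin 8 → ℤ := fun i => a i - n0 * bas8 0 i with ha'
  have hgood : LeechBasic.Good (fv a') := by
    have hm := (v - n0 • Bv 0).2
    rw [AddSubgroup.coe_sub, AddSubgroup.coe_zsmul, ha] at hm
    refine LeechBasic.mem_lattice.1 ?_
    convert hm using 1
    funext p
    simp [ha', fv, Bv]
  obtain ⟨r0, r1, r2, r3, r4, r5, r6, r7⟩ := bas8_rows
  have h0 : a' 0 = 0 := by simp [ha', r0, hn0]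
  obtain ⟨m, y, hm, hy, hs, hc⟩ := LeechBasic.exists_halves hgood
  have hy' : ∀ b, a' b = m + 2 * y (rep b) := fun b => by
    have := hy (rep b)
    rwa [fv, blk_rep] at this
  have hm0 : m = 0 := by have := hy' 0; omega
  subst hm0
  have hye : y = fv fun b => a' b / 2 := funext fun p => by
    have := hy p
    simp only [fv] at this ⊢
    omega
  rw [hye, sum_fv] at hs
  have hb : (fun p => (y p : ZMod 2)) = bword fun b => decide (a' b / 2 % 2 = 1) := by
    funext p
    simp only [bword, hye, fv, decide_eq_true_eq]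
    split_ifs with h2
    · rw [← Int.cast_one, ZMod.intCast_eq_intCast_iff_dvd_sub]; omega
    · rw [ZMod.intCast_zmod_eq_zero_iff_dvd]; omega
  rw [hb] at hc
  obtain ⟨h4, h5, h6, h7⟩ := bword_code _ (by simp [h0]) (mem_code_iff_isCW.1 hc)
  have g4 := xor2 h4
  have g5 := xor3 h5
  have g6 := xor2 h6
  have g7 := xor2 h7
  obtain ⟨n1, hn1⟩ : ∃ n, n = a' 1 / 2 := ⟨_, rfl⟩
  obtain ⟨n2, hn2⟩ : ∃ n, n = a' 2 / 2 := ⟨_, rfl⟩
  obtain ⟨n3, hn3⟩ : ∃ n, n = a' 3 / 2 := ⟨_, rfl⟩
  obtain ⟨n4, hn4⟩ : ∃ n, n = (a' 4 - 2 * n1 - 2 * n2) / 4 := ⟨_, rfl⟩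
  obtain ⟨n5, hn5⟩ : ∃ n, n = (a' 5 - 2 * n1 - 2 * n2 - 2 * n3) / 4 := ⟨_, rfl⟩
  obtain ⟨n6, hn6⟩ : ∃ n, n = (a' 6 - 2 * n2 - 2 * n3) / 4 := ⟨_, rfl⟩
  obtain ⟨n7, hn7⟩ : ∃ n, n = (a' 7 - 2 * n1 - 2 * n3 - 4 * n4 - 4 * n5 - 4 * n6) / 8 := ⟨_, rfl⟩
  have e1 := hy' 1
  have e2 := hy' 2
  have e3 := hy' 3
  have e4 := hy' 4
  have e5 := hy' 5
  have e6 := hy' 6
  have e7 := hy' 7
  have hv : v = ∑ j, (![n0, n1, n2, n3, n4, n5, n6, n7] j) • Bv j := by
    refine Subtype.ext (funext fun p => ?_)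
    rw [ha]
    simp only [AddSubgroup.val_finsetSum, AddSubgroup.coe_zsmul, Finset.sum_apply, Pi.smul_apply,
      smul_eq_mul, Bv, fv, Fin.sum_univ_eight]
    have key : ∀ i, a i = n0 * bas8 0 i + n1 * bas8 1 i + n2 * bas8 2 i + n3 * bas8 3 i +
        n4 * bas8 4 i + n5 * bas8 5 i + n6 * bas8 6 i + n7 * bas8 7 i := by
      intro i
      have hai : a i = a' i + n0 * bas8 0 i := by simp [ha']
      rw [r0] at hai
      rw [r0, r1, r2, r3, r4, r5, r6, r7]
      fin_cases i <;> simp at hai ⊢ <;> omega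
    simpa [fv] using key (blk p)
  set N : Fin 8 → ℤ := ![n0, n1, n2, n3, n4, n5, n6, n7]
  refine ⟨fun j => (N j : ZMod 2), ∑ j, (N j / 2) • Bv j, ?_⟩
  rw [hv, kap, ← Finset.sum_add_distrib, ← Finset.sum_add_distrib]
  refine Finset.sum_congr rfl fun j _ => ?_
  have hval : (((N j : ZMod 2).val : ℕ) : ℤ) = N j % 2 := by
    rw [ZMod.val_intCast]; norm_num
  rw [← natCast_zsmul, hval, ← add_smul, ← add_smul]
  congr 1
  omega

/-- The representative is additive modulo twice the lattice. -/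
theorem kap_add (n n' : Fin 8 → ZMod 2) : Cong (kap n + kap n') (kap (n + n')) := by
  refine ⟨∑ j, ((n j).val * (n' j).val) • Bv j, ?_⟩
  rw [kap, kap, kap, ← Finset.sum_add_distrib, ← Finset.sum_add_distrib, ← Finset.sum_add_distrib]
  refine Finset.sum_congr rfl fun j _ => ?_
  rw [← add_smul, ← add_smul, ← add_smul]
  congr 1
  exact (by decide : ∀ a b : ZMod 2, a.val + b.val = (a + b).val + (a.val * b.val + a.val * b.val)) _ _

theorem kap_single (j : Fin 8) : kap (Pi.single j 1) = Bv j := by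
  rw [kap, Finset.sum_eq_single j (fun x _ hx => by simp [hx]) (by simp)]
  simp [ZMod.val_one]

/-- The code number of a class. -/
def kn (n : Fin 8 → ZMod 2) : ℕ := ∑ j : Fin 8, (n j).val * 2 ^ (j : ℕ)

/-- The short representative with the given code number. -/
def shortK (k : ℕ) : Fin 8 → ℤ := fun i =>
  ((((shortT >>> (40 * k)) >>> (5 * (i : ℕ))) &&& 31 : ℕ) : ℤ) - 16

theorem short_spec : ∀ n, maskT.testBit (kn n) = false → congB (comb n) (shortK (kn n)) = true ∧
    LeechReach.okGood (shortK (kn n) 4) (fv (shortK (kn n))) = true ∧ sqNorm (fv (shortK (kn n))) < 64 := by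
  decide +kernel

theorem kap_inj_aux : ∀ n : Fin 8 → ZMod 2, congB (comb n) (fun _ => 0) = true → n = 0 := by decide +kernel

theorem kap_zero {n : Fin 8 → ZMod 2} (h : Cong (kap n) 0) : n = 0 :=
  kap_inj_aux n ((cong_iff (coe_kap n) (w := 0) rfl).1 h)

theorem kap_inj {n n' : Fin 8 → ZMod 2} (h : Cong (kap n) (kap n')) : n = n' := by
  obtain ⟨y, hy⟩ := kap_add n n'
  obtain ⟨x, hx⟩ := h
  have h1 : n + n' = 0 := kap_zero ⟨kap n' + x - y, by
    rw [hx] at hy
    rw [zero_add, ← sub_eq_iff_eq_add.2 hy]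
    abel⟩
  funext i
  have := congrFun h1 i
  rw [Pi.add_apply, Pi.zero_apply] at this
  exact (by decide : ∀ x y : ZMod 2, x + y = 0 → x = y) _ _ this

/-- A class of squared length 64 is one of 135. -/
theorem cl64 {v : leechLattice} {n : Fin 8 → ZMod 2} (hv : sqNorm (v : GolayPt → ℤ) = 64)
    (h : Cong v (kap n)) : maskT.testBit (kn n) = true := by
  by_contra hT
  obtain ⟨hc, hg, hlt⟩ := short_spec n (by simpa using hT)
  set w : leechLattice := ⟨fv (shortK (kn n)), LeechBasic.mem_lattice.2 (LeechReach.good_of_ok hg)⟩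
  obtain ⟨x, hx⟩ := h
  obtain ⟨x', hx'⟩ := (cong_iff (coe_kap n) (w := w) rfl).2 hc
  have hvw : Cong v w := ⟨x' + x, by rw [hx, hx']; abel⟩
  rcases cong_short hvw hv.le hlt.le with e | e | e
  · rw [e] at hv; exact hlt.ne hv
  · rw [e, AddSubgroup.coe_neg, ThreeTransp.LeechShort.sqNorm_neg] at hv; exact hlt.ne hv
  · exact hlt.ne e.2

theorem dot_nondeg : ∀ n, (∀ j, (16 : ℤ) ∣ dotInt (fv (comb n)) (fv (bas8 j))) → n = 0 := by
  decide +kernel

end CfsgLib.Sporadic.MonsterFusion.TH
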