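import Cfsg.Agent.Lib.Sporadic.MonsterFusion.THElts
import Cfsg.Prelude.Def_MonsterType

/-!
The centraliser of the element in the lattice group and its action on nine spaces of classes.
-/

set_option autoImplicit false
set_option maxRecDepth 20000

namespace CfsgLib.Sporadic.MonsterFusion.TH

open Cfsg CfsgLib.SmallGroups CfsgLib.SmallGroups.Golay CfsgLib.SmallGroups.M24Group
  CfsgLib.Sporadic.M24Orbits CfsgLib.SmallGroups.LeechGroup CfsgLib.Sporadic.LeechCrossMax
  CfsgLib.Sporadic.LeechCrossData

theorem pow_smul_fixed {v : leechLattice} (h : sg • v = v) (n : ℕ) : sg ^ n • v = v := by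
  induction n with
  | zero => rw [pow_zero, one_smul]
  | succ n ih => rw [pow_succ, mul_smul, h, ih]

theorem sg_kap (n : Fin 8 → ZMod 2) : sg • kap n = kap n := sg_fv (coe_kap n)

/-! ### The linear action on classes -/

/-- The class with the given code number. -/
def kof (k : ℕ) : Fin 8 → ZMod 2 := fun j => if k.testBit j then 1 else 0

/-- The coordinates of the images of the basis vectors. -/
def imgV (i : Fin 15) (j : Fin 8) : Fin 8 → ℤ := fun b =>
  if (i : ℕ) < 10 then bas8 j (blk (tblFun (permI.getD i []) (rep b)))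
  else if (i : ℕ) < 14 then
    if (signT.getD ((i : ℕ) - 10) 0).testBit b then -bas8 j b else bas8 j b
  else (imgT.getD j []).getD b 0

theorem gen_Bv (i : Fin 15) (j : Fin 8) :
    ((gen i • Bv j : leechLattice) : GolayPt → ℤ) = fv (imgV i j) := by
  by_cases h : (i : ℕ) < 10
  · funext q
    rw [show gen i = ((permM (gM ⟨i, h⟩) : monoSub) : Co0) by rw [gen, dif_pos h], permM_apply]
    simp only [fv, imgV, if_pos h, Bv]
    refine congrArg (bas8 j) ?_
    exact (by decide +kernel : ∀ (i : Fin 10) q, blk (tblFun (permI.getD i []) q) =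
      blk (tblFun (permI.getD i []) (rep (blk q)))) ⟨i, h⟩ q
  · by_cases h' : (i : ℕ) < 14
    · funext q
      rw [show gen i = ((sgnG ⟨(i : ℕ) - 10, by omega⟩ : monoSub) : Co0) by rw [gen, dif_neg h, dif_pos h'],
        sgnG, sgn_apply]
      simp only [fv, imgV, if_neg h, if_pos h', wM, Bv]
      split_ifs <;> simp_all
    · rw [show gen i = gG by rw [gen, dif_neg h, dif_neg h']]
      rw [show imgV i j = fun (b : Fin 8) => (imgT.getD j []).getD b 0 by
        funext b; simp only [imgV, if_neg h, if_neg h']]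
      exact exists_gen.choose_spec.2 j

/-- The action of a generator on classes. -/
def actL (i : Fin 15) (n : Fin 8 → ZMod 2) : Fin 8 → ZMod 2 :=
  ∑ j : Fin 8, n j • kof ((actT.getD i []).getD j 0)

theorem cong_refl (v : leechLattice) : Cong v v := ⟨0, by simp⟩

theorem gen_Bv_cong (i : Fin 15) (j : Fin 8) :
    Cong (gen i • Bv j) (kap (kof ((actT.getD i []).getD j 0))) :=
  (cong_iff (gen_Bv i j) (coe_kap _)).2 ((by decide +kernel : ∀ i j,
    congB (imgV i j) (comb (kof ((actT.getD (i : Fin 15) []).getD (j : Fin 8) 0))) = true) i j)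

theorem cong_add {a b c d : leechLattice} (h : Cong a b) (h' : Cong c d) : Cong (a + c) (b + d) := by
  obtain ⟨x, rfl⟩ := h
  obtain ⟨y, rfl⟩ := h'
  exact ⟨x + y, by abel⟩

theorem cong_sum {s : Finset (Fin 8)} {f : Fin 8 → leechLattice} {m : Fin 8 → Fin 8 → ZMod 2}
    (h : ∀ j, Cong (f j) (kap (m j))) : Cong (∑ j ∈ s, f j) (kap (∑ j ∈ s, m j)) := by
  induction s using Finset.induction_on with
  | empty =>
    rw [Finset.sum_empty, Finset.sum_empty, show kap 0 = 0 by simp [kap]]
    exact cong_refl 0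
  | insert a s ha ih =>
    rw [Finset.sum_insert ha, Finset.sum_insert ha]
    exact Held.cong_trans (cong_add (h a) ih) (kap_add _ _)

theorem gen_kap (i : Fin 15) (n : Fin 8 → ZMod 2) : Cong (gen i • kap n) (kap (actL i n)) := by
  let φ : leechLattice →+ leechLattice := AddMonoidHom.mk' (gen i : Equiv.Perm leechLattice) (gen i).2.1
  show Cong (φ (∑ j, (n j).val • Bv j)) _
  rw [map_sum]
  refine cong_sum fun j => ?_
  rw [map_nsmul]
  rcases (show ∀ x : ZMod 2, x = 0 ∨ x = 1 by decide) (n j) with e | e <;> rw [e]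
  · rw [ZMod.val_zero, zero_smul, zero_smul, show kap 0 = 0 by simp [kap]]
    exact cong_refl 0
  · rw [ZMod.val_one, one_smul, one_smul]
    exact gen_Bv_cong i j

/-- The product of a word in the generators. -/
noncomputable def gW (l : List (Fin 15)) : Co0 := (l.map gen).prod

/-- Its action on classes. -/
def actW (l : List (Fin 15)) (n : Fin 8 → ZMod 2) : Fin 8 → ZMod 2 := l.foldr actL n

theorem gW_kap : ∀ (l : List (Fin 15)) (n : Fin 8 → ZMod 2), Cong (gW l • kap n) (kap (actW l n))
  | [], n => by rw [gW, List.map_nil, List.prod_nil, one_smul]; exact cong_refl _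
  | i :: l, n => by
    rw [gW, List.map_cons, List.prod_cons, mul_smul]
    exact Held.cong_trans (cong_smul _ (gW_kap l n)) (gen_kap i _)

theorem gW_commute : ∀ l : List (Fin 15), Commute (gW l) sg
  | [] => Commute.one_left _
  | i :: l => by
    rw [gW, List.map_cons, List.prod_cons]
    exact (gen_commute i).mul_left (gW_commute l)

/-- The word leading to a class. -/
def wk (k : ℕ) : List (Fin 15) :=
  ((List.range 5).map fun s => (treeT >>> (20 * k + 4 * s)) % 16).takeWhile (fun g => g != 0) |>.map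
    fun g => Fin.ofNat 15 (g - 1)

theorem wk_spec : ∀ n, maskT.testBit (kn n) = true → actW (wk (kn n)) (kof 128) = n := by decide +kernel

theorem base_good :
    LeechReach.okGood 0 (Pi.single none 4 - (fun p => if blk p = 0 then 4 else 0) : GolayPt → ℤ) = true := by
  decide +kernel

/-- The fixed vector over the base class. -/
theorem exists_base : ∃ w : leechLattice, sg • w = w ∧ Cong LeechOrder.base8 w ∧ Cong w (kap (kof 128)) := by
  let w : leechLattice := LeechOrder.base8 + (-(⟨_, LeechBasic.mem_lattice.2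
    (LeechReach.good_of_ok base_good)⟩ : leechLattice) + -⟨_, LeechBasic.mem_lattice.2
    (LeechReach.good_of_ok base_good)⟩)
  have hw : (w : GolayPt → ℤ) = fv ![8, 0, 0, 0, 0, 0, 0, 0] := funext fun p => by
    simp only [w, AddSubgroup.coe_add, AddSubgroup.coe_neg, Pi.add_apply, Pi.neg_apply, LeechOrder.coe_base8]
    exact (by decide +kernel : ∀ p, (Pi.single none 8 : GolayPt → ℤ) p +
      (-((Pi.single none 4 - (fun p => if blk p = 0 then 4 else 0) : GolayPt → ℤ) p) +
        -((Pi.single none 4 - (fun p => if blk p = 0 then 4 else 0) : GolayPt → ℤ) p)) =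
      fv ![8, 0, 0, 0, 0, 0, 0, 0] p) p
  refine ⟨w, sg_fv hw, ⟨⟨_, LeechBasic.mem_lattice.2 (LeechReach.good_of_ok base_good)⟩, ?_⟩,
    (cong_iff hw (coe_kap _)).2 (by decide +kernel)⟩
  simp only [w]
  abel

theorem base_kap : Cong LeechOrder.base8 (kap (kof 128)) :=
  let ⟨_, _, h, h'⟩ := exists_base
  Held.cong_trans h h'

theorem gW_base {n : Fin 8 → ZMod 2} (h : maskT.testBit (kn n) = true) :
    Cong (gW (wk (kn n)) • LeechOrder.base8) (kap n) := by
  have := Held.cong_trans (cong_smul (gW (wk (kn n))) base_kap) (gW_kap (wk (kn n)) _)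
  rwa [wk_spec n h] at this

theorem norm_gW_base (l : List (Fin 15)) :
    sqNorm ((gW l • LeechOrder.base8 : leechLattice) : GolayPt → ℤ) = 64 :=
  ((gW l).2.2 _).trans LeechOrder.norm_base8

/-- The image of the base class under a commuting element. -/
theorem exists_class {g : Co0} (hg : Commute g sg) :
    ∃ n, maskT.testBit (kn n) = true ∧ Cong (g • LeechOrder.base8) (kap n) := by
  obtain ⟨w, hw, hb, -⟩ := exists_base
  have hfix : sg • (g • w) = g • w := by rw [smul_smul, ← hg.eq, mul_smul, hw]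
  obtain ⟨n, hn⟩ := span _ hfix
  have hc := Held.cong_trans (cong_smul g hb) hn
  exact ⟨n, cl64 ((g.2.2 _).trans LeechOrder.norm_base8) hc, hc⟩

/-- A commuting element is a word times a monomial one. -/
theorem exists_word {g : Co0} (hg : Commute g sg) :
    ∃ (n : Fin 8 → ZMod 2) (h : Co0), maskT.testBit (kn n) = true ∧ Cong (g • LeechOrder.base8) (kap n) ∧
      h ∈ monoSub ∧ Commute h sg ∧ g = gW (wk (kn n)) * h := by
  obtain ⟨n, hn, hc⟩ := exists_class hg
  refine ⟨n, (gW (wk (kn n)))⁻¹ * g, hn, hc, (cong_base _).1 ?_, (gW_commute _).inv_left.mul_left hg,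
    (mul_inv_cancel_left _ _).symm⟩
  have := cong_smul (gW (wk (kn n)))⁻¹ (Held.cong_trans hc (Held.cong_symm (gW_base hn)))
  rwa [inv_smul_smul, smul_smul] at this

theorem gW_mem_N : ∀ l : List (Fin 15), gW l ∈ N
  | [] => one_mem _
  | i :: l => by
    rw [gW, List.map_cons, List.prod_cons]
    exact mul_mem (gen_mem_N i) (gW_mem_N l)

theorem commute_mem_N {g : Co0} (hg : Commute g sg) : g ∈ N := by
  obtain ⟨n, h, -, -, hm, hc, rfl⟩ := exists_word hg
  exact mul_mem (gW_mem_N _) (mono_mem_N hm hc)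

theorem cong_pj {g g' : Co0} (h : pj g = pj g') (v : leechLattice) : Cong (g • v) (g' • v) := by
  have h2 : g'⁻¹ * g ∈ Subgroup.center Co0 := by
    refine (QuotientGroup.eq_one_iff _).1 ?_
    show pj (g'⁻¹ * g) = 1
    rw [map_mul, map_inv, h, inv_mul_cancel]
  rcases center_cases' h2 with r | r
  · rw [inv_mul_eq_one.1 r]
    exact cong_refl _
  · rw [inv_mul_eq_iff_eq_mul.1 r, mul_smul, negG_smul, smul_neg_vec]
    exact ⟨-(g' • v), by abel⟩

/-! ### The nine spaces -/

/-- Membership in a space. -/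
def inS (x : Fin 9) (n : Fin 8 → ZMod 2) : Bool := (maskS.getD x 0).testBit (kn n)

/-- An element permutes the spaces in the given way. -/
def Moves (g : Co0) (p : Equiv.Perm (Fin 9)) : Prop :=
  ∀ x n, inS x n = true → ∃ n', inS (p x) n' = true ∧ Cong (g • kap n) (kap n')

theorem moves_one : Moves 1 1 := fun x n h => ⟨n, h, by rw [one_smul]; exact cong_refl _⟩

theorem moves_mul {g g' : Co0} {p p' : Equiv.Perm (Fin 9)} (h : Moves g p) (h' : Moves g' p') :
    Moves (g * g') (p * p') := by
  intro x n hn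
  obtain ⟨n', hn', hc'⟩ := h' x n hn
  obtain ⟨n'', hn'', hc⟩ := h _ n' hn'
  refine ⟨n'', hn'', ?_⟩
  rw [mul_smul]
  exact Held.cong_trans (cong_smul g hc') hc

theorem moves_pow {g : Co0} {p : Equiv.Perm (Fin 9)} (h : Moves g p) : ∀ k : ℕ, Moves (g ^ k) (p ^ k)
  | 0 => by rw [pow_zero, pow_zero]; exact moves_one
  | k + 1 => by rw [pow_succ, pow_succ]; exact moves_mul (moves_pow h k) h

theorem moves_sg (k : ℕ) : Moves (sg ^ k) 1 := fun x n h =>
  ⟨n, h, by rw [pow_smul_fixed (sg_kap n)]; exact cong_refl _⟩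

theorem inS_card : ∀ x, (Finset.univ.filter fun n => inS x n).card = 16 := by decide +kernel

theorem inS_inter : ∀ x y, x ≠ y → (Finset.univ.filter fun n => inS x n && inS y n).card < 16 := by
  decide +kernel

theorem moves_unique {g : Co0} {p p' : Equiv.Perm (Fin 9)} (h : Moves g p) (h' : Moves g p') :
    p = p' := by
  refine Equiv.ext fun x => ?_
  by_contra hne
  refine (inS_inter _ _ hne).not_ge ?_
  rw [← inS_card x]
  refine Finset.card_le_card_of_injOn (fun n => if hn : inS x n then (h x n hn).choose else n) (fun n hn => ?_) ?_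
  · rw [Finset.mem_coe, Finset.mem_filter] at hn
    obtain ⟨n', hn', hc'⟩ := h' x n hn.2
    obtain ⟨ha, hc⟩ := (h x n hn.2).choose_spec
    have : (h x n hn.2).choose = n' := kap_inj (Held.cong_trans (Held.cong_symm hc) hc')
    simp only [Finset.coe_filter, Finset.mem_univ, true_and, Set.mem_ofPred_eq, dif_pos hn.2, Bool.and_eq_true]
    exact ⟨ha, this ▸ hn'⟩
  · intro n hn m hm hnm
    simp only [Finset.coe_filter, Finset.mem_univ, true_and, Set.mem_ofPred_eq] at hn hm
    simp only [dif_pos hn, dif_pos hm] at hnm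
    have a := (h x n hn).choose_spec.2
    have b := (h x m hm).choose_spec.2
    rw [← hnm] at b
    have := cong_smul g⁻¹ (Held.cong_trans a (Held.cong_symm b))
    rw [inv_smul_smul, inv_smul_smul] at this
    exact kap_inj this

/-- The inverse of a map of nine letters. -/
def invF (f : Fin 9 → Fin 9) (a : Fin 9) : Fin 9 :=
  if f 0 = a then 0 else if f 1 = a then 1 else if f 2 = a then 2 else if f 3 = a then 3
  else if f 4 = a then 4 else if f 5 = a then 5 else if f 6 = a then 6 else if f 7 = a then 7 else 8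

/-- The map of the spaces by a generator. -/
def pgF (i : Fin 15) (a : Fin 9) : Fin 9 := Fin.ofNat 9 ((pgT.getD i []).getD a 0)

/-- The permutation of the spaces by a generator. -/
def pg (i : Fin 15) : Equiv.Perm (Fin 9) :=
  ⟨pgF i, invF (pgF i),
    (by decide +kernel : ∀ i a, invF (pgF i) (pgF i a) = a) i,
    (by decide +kernel : ∀ i a, pgF i (invF (pgF i) a) = a) i⟩

theorem pg_mem (i : Fin 15) : pg i ∈ alternatingGroup (Fin 9) :=
  Equiv.Perm.mem_alternatingGroup.2 ((by decide +kernel : ∀ i, Equiv.Perm.sign (pg i) = 1) i)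

theorem moves_gen (i : Fin 15) : Moves (gen i) (pg i) := fun x n hn =>
  ⟨actL i n, (by decide +kernel : ∀ i x n, inS x n = true → inS (pg i x) (actL i n) = true) i x n hn,
    gen_kap i n⟩

/-- The product of a word in the permutations. -/
def pW (l : List (Fin 15)) : Equiv.Perm (Fin 9) := (l.map pg).prod

theorem moves_gW : ∀ l : List (Fin 15), Moves (gW l) (pW l)
  | [] => moves_one
  | i :: l => by
    rw [gW, pW, List.map_cons, List.map_cons, List.prod_cons, List.prod_cons]
    exact moves_mul (moves_gen i) (moves_gW l)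

theorem exists_moves {g : Co0} (hg : Commute g sg) : ∃ p ∈ alternatingGroup (Fin 9), Moves g p := by
  have := finite_Co0
  refine Subgroup.closure_induction (p := fun g _ => ∃ p ∈ alternatingGroup (Fin 9), Moves g p) ?_ ?_ ?_ ?_
    (commute_mem_N hg)
  · rintro _ (rfl | ⟨i, rfl⟩)
    · exact ⟨1, one_mem _, by simpa using moves_sg 1⟩
    · exact ⟨pg i, pg_mem i, moves_gen i⟩
  · exact ⟨1, one_mem _, moves_one⟩
  · rintro a b _ _ ⟨p, hp, h⟩ ⟨p', hp', h'⟩
    exact ⟨p * p', mul_mem hp hp', moves_mul h h'⟩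
  · rintro a _ ⟨p, hp, h⟩
    refine ⟨p ^ (orderOf a - 1), pow_mem hp _, ?_⟩
    rw [inv_eq_of_mul_eq_one_left (a := a ^ (orderOf a - 1)) (b := a) (by
      rw [← pow_succ, Nat.sub_add_cancel (orderOf_pos a), pow_orderOf_eq_one])]
    exact moves_pow h _

theorem moves_pj {g g' : Co0} {p : Equiv.Perm (Fin 9)} (h : Moves g p) (e : pj g = pj g') :
    Moves g' p := fun x n hn => by
  obtain ⟨n', hn', hc⟩ := h x n hn
  exact ⟨n', hn', Held.cong_trans (Held.cong_symm (cong_pj e _)) hc⟩

/-! ### The image and the kernel -/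

/-- The word of a monomial element. -/
def wE (e : Fin 4 → Bool) (i : Fin 8) (u : Fin 7) (v : Fin 3) : List (Fin 15) :=
  (if e 0 then [10] else []) ++ (if e 1 then [11] else []) ++ (if e 2 then [12] else []) ++
    (if e 3 then [13] else []) ++ ([Fin.ofNat 15 (i : ℕ)] ++ List.replicate u 8 ++ List.replicate v 9)

theorem gW_append (l l' : List (Fin 15)) : gW (l ++ l') = gW l * gW l' := by
  rw [gW, gW, gW, List.map_append, List.prod_append]

theorem pW_append (l l' : List (Fin 15)) : pW (l ++ l') = pW l * pW l' := by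
  rw [pW, pW, pW, List.map_append, List.prod_append]

theorem gW_wE (e : Fin 4 → Bool) (i : Fin 8) (u : Fin 7) (v : Fin 3) :
    gW (wE e i u v) = (sgnE e * permM (piM i u v) : monoSub) := by
  have h : ∀ j : Fin 4, ((if e j then sgnG j else 1 : monoSub) : Co0) =
      gW (if e j then [Fin.ofNat 15 (10 + j)] else []) := fun j => by
    cases e j
    · rfl
    · rw [if_pos rfl, if_pos rfl, sgnG_gen]
      simp [gW]
  have hg : ∀ j : Fin 10, ((permM (gM j) : monoSub) : Co0) = gen ⟨j, by omega⟩ := fun j => by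
    rw [gen, dif_pos j.2]
  have hpi : ((permM (piM i u v) : monoSub) : Co0) =
      gW ([Fin.ofNat 15 (i : ℕ)] ++ List.replicate u 8 ++ List.replicate v 9) := by
    simp only [piM, map_mul, map_pow, Subgroup.coe_mul, SubmonoidClass.coe_pow, hg]
    rw [gW_append, gW_append]
    simp only [gW, List.map_cons, List.map_nil, List.prod_singleton, List.map_replicate, List.prod_replicate]
    rw [show (⟨(Fin.ofNat 10 (i : ℕ) : Fin 10), by omega⟩ : Fin 15) = Fin.ofNat 15 (i : ℕ) from Fin.ext (by
      simp only [Fin.val_ofNat]; omega)]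
    rfl
  rw [Subgroup.coe_mul, sgnE, Subgroup.coe_mul, Subgroup.coe_mul, Subgroup.coe_mul, hpi, h, h, h, h]
  simp only [gW, wE, List.map_append, List.prod_append, mul_assoc]
  rfl

theorem word_pg13 (e : Fin 4 → Bool) (i : Fin 8) (u : Fin 7) (v : Fin 3) :
    pW (wE e i u v) = pW (wE ![e 0, e 1, e 2, false] i u v) := by
  have h13 : pW [13] = 1 := Equiv.ext fun a => (by decide +kernel : ∀ a, pW [13] a = a) a
  have h0 : pW ([] : List (Fin 15)) = 1 := rfl
  simp only [wE, pW_append, Matrix.cons_val_zero, Matrix.cons_val_one, Matrix.cons_val]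
  cases e 3 <;> simp [h13, h0] <;> rfl

/-- The even permutations are those of the words. -/
theorem alt_le {H : Subgroup (Equiv.Perm (Fin 9))}
    (h : ∀ a b : Fin 9, a ≠ b → Equiv.swap 0 1 * Equiv.swap a b ∈ H) : alternatingGroup (Fin 9) ≤ H := by
  have key : ∀ s : Equiv.Perm (Fin 9), (Equiv.Perm.sign s = 1 → s ∈ H) ∧
      (Equiv.Perm.sign s = -1 → Equiv.swap 0 1 * s ∈ H) := by
    intro s
    induction s using Equiv.Perm.swap_induction_on with
    | one => exact ⟨fun _ => one_mem _, fun h1 => absurd h1 (by simp)⟩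
    | swap_mul s a b hab ih =>
      rw [Equiv.Perm.sign_mul, Equiv.Perm.sign_swap hab]
      rcases Int.units_eq_one_or (Equiv.Perm.sign s) with e | e <;> rw [e]
      · refine ⟨fun h1 => absurd h1 (by decide), fun _ => ?_⟩
        rw [← mul_assoc]
        exact mul_mem (h a b hab) (ih.1 e)
      · refine ⟨fun _ => ?_, fun h1 => absurd h1 (by decide)⟩
        have h2 : Equiv.swap a b * Equiv.swap 0 1 ∈ H := by
          have := inv_mem (h a b hab)
          rwa [mul_inv_rev, Equiv.swap_inv, Equiv.swap_inv] at this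
        have := mul_mem h2 (ih.2 e)
        rwa [mul_assoc, Equiv.swap_mul_self_mul] at this
  exact fun s hs => (key s).1 (Equiv.Perm.mem_alternatingGroup.1 hs)

theorem swap_words : ∀ a b : Fin 9, a ≠ b → ∀ x,
    pW ((swapW.getD (9 * (a : ℕ) + b) []).map fun g => Fin.ofNat 15 g) x = Equiv.swap 0 1 (Equiv.swap a b x) := by
  decide +kernel

/-- Every even permutation occurs. -/
theorem moves_surj {p : Equiv.Perm (Fin 9)} (hp : p ∈ alternatingGroup (Fin 9)) :
    ∃ g, Commute g sg ∧ Moves g p := by
  have hle : alternatingGroup (Fin 9) ≤ Subgroup.closure (Set.range pg) := alt_le fun a b hab => by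
    rw [show Equiv.swap 0 1 * Equiv.swap a b =
      pW ((swapW.getD (9 * (a : ℕ) + b) []).map fun g => Fin.ofNat 15 g) from
        Equiv.ext fun x => (swap_words a b hab x).symm]
    exact list_prod_mem fun q hq => by
      obtain ⟨i, -, rfl⟩ := List.mem_map.1 hq
      exact Subgroup.subset_closure ⟨i, rfl⟩
  have := finite_Co0
  refine Subgroup.closure_induction (p := fun p _ => ∃ g, Commute g sg ∧ Moves g p) ?_ ?_ ?_ ?_ (hle hp)
  · rintro _ ⟨i, rfl⟩
    exact ⟨gen i, gen_commute i, moves_gen i⟩
  · exact ⟨1, Commute.one_left _, moves_one⟩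
  · rintro _ _ _ _ ⟨g, hg, h⟩ ⟨g', hg', h'⟩
    exact ⟨g * g', hg.mul_left hg', moves_mul h h'⟩
  · rintro q _ ⟨g, hg, h⟩
    refine ⟨g ^ (orderOf q - 1), hg.pow_left _, ?_⟩
    rw [inv_eq_of_mul_eq_one_left (a := q ^ (orderOf q - 1)) (b := q) (by
      rw [← pow_succ, Nat.sub_add_cancel (orderOf_pos q), pow_orderOf_eq_one])]
    exact moves_pow h _

/-- The parameters of the commuting elements up to powers of ours and the centre. -/
abbrev Par : Type :=
  {n : Fin 8 → ZMod 2 // maskT.testBit (kn n) = true} × (Fin 3 → Bool) × Fin 8 × Fin 7 × Fin 3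

/-- The permutation with the given parameters. -/
def phiA (x : Par) : alternatingGroup (Fin 9) :=
  ⟨pW (wk (kn x.1.1) ++ wE ![x.2.1 0, x.2.1 1, x.2.1 2, false] x.2.2.1 x.2.2.2.1 x.2.2.2.2),
    list_prod_mem fun q hq => by
      obtain ⟨i, -, rfl⟩ := List.mem_map.1 hq
      exact pg_mem i⟩

theorem exists_par {g : Co0} (hg : Commute g sg) :
    ∃ (x : Par) (k : ℕ) (e3 : Bool), Moves g (phiA x : Equiv.Perm (Fin 9)) ∧ g = gW (wk (kn x.1.1)) *
      (sg ^ k * gW (wE ![x.2.1 0, x.2.1 1, x.2.1 2, e3] x.2.2.1 x.2.2.2.1 x.2.2.2.2)) := by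
  obtain ⟨n, m, hn, -, hm, hcm, rfl⟩ := exists_word hg
  obtain ⟨k, e, i, u, v, rfl⟩ := mono_classify hm hcm
  rw [← gW_wE]
  refine ⟨(⟨n, hn⟩, ![e 0, e 1, e 2], i, u, v), k, e 3, ?_, ?_⟩
  · have := moves_mul (moves_gW (wk (kn n))) (moves_mul (moves_sg k) (moves_gW (wE e i u v)))
    rw [one_mul, word_pg13, ← pW_append] at this
    exact this
  · have he : ![e 0, e 1, e 2, e 3] = e := by
      funext j; fin_cases j <;> rfl
    show _ = gW (wk (kn n)) * (sg ^ k * gW (wE ![e 0, e 1, e 2, e 3] i u v))
    rw [he]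

theorem card_T : Nat.card {n : Fin 8 → ZMod 2 // maskT.testBit (kn n) = true} = 135 := by
  rw [Nat.card_eq_fintype_card, Fintype.card_subtype]
  decide +kernel

theorem phiA_injective : Function.Injective phiA := by
  have hsurj : Function.Surjective phiA := by
    rintro ⟨p, hp⟩
    obtain ⟨g, hg, hgp⟩ := moves_surj hp
    obtain ⟨x, -, -, hx, -⟩ := exists_par hg
    exact ⟨x, Subtype.ext (moves_unique hx hgp)⟩
  have hcard : Nat.card Par = Nat.card (alternatingGroup (Fin 9)) := by
    rw [Nat.card_prod, card_T, nat_card_alternatingGroup]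
    simp [Nat.factorial]
  exact ((Nat.bijective_iff_surjective_and_card phiA).2 ⟨hsurj, hcard⟩).1

theorem phiA_base : phiA (⟨kof 128, by decide +kernel⟩, fun _ => false, 0, 0, 0) = 1 :=
  Subtype.ext (Equiv.ext fun a => (by decide +kernel : ∀ a : Fin 9,
    pW (wk (kn (kof 128)) ++ wE ![false, false, false, false] 0 0 0) a = a) a)

theorem sgnE_last : ((sgnE ![false, false, false, true] : monoSub) : Co0) = negG := by
  refine Subtype.ext (Equiv.ext fun v => Subtype.ext (funext fun q => ?_))
  show ((((sgnE ![false, false, false, true] : monoSub) : Co0)) • v : leechLattice).1 q = _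
  rw [sgnE_apply, if_pos ((by decide +kernel : ∀ b : Fin 8,
    Bool.xor (![false, false, false, true] 0 && (signT.getD 0 0).testBit b)
      (Bool.xor (![false, false, false, true] 1 && (signT.getD 1 0).testBit b)
      (Bool.xor (![false, false, false, true] 2 && (signT.getD 2 0).testBit b)
        (![false, false, false, true] 3 && (signT.getD 3 0).testBit b))) = true) (blk q))]
  rfl

/-- An element fixing all nine spaces is a power of the element up to sign. -/
theorem kernel {g : Co0} (hg : Commute g sg) (h : Moves g 1) : ∃ k : ℕ, pj g = pj sg ^ k := by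
  obtain ⟨x, k, e3, hx, rfl⟩ := exists_par hg
  have hx0 : x = (⟨kof 128, by decide +kernel⟩, fun _ => false, 0, 0, 0) :=
    phiA_injective (by rw [phiA_base]; exact Subtype.ext (moves_unique hx h))
  subst hx0
  refine ⟨k, ?_⟩
  rw [show wk (kn (kof 128)) = [] by decide +kernel, show gW [] = 1 from rfl, one_mul, map_mul, map_pow,
    mul_eq_left, gW_wE, show piM 0 0 0 = 1 from Subtype.ext (Equiv.ext fun p => (by decide +kernel :
      ∀ p, tblFun (permT.getD ((Fin.ofNat 10 ((0 : Fin 8) : ℕ) : Fin 10) : ℕ) []) p = p) p),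
    map_one, mul_one]
  cases e3
  · rw [show (![false, false, false, false] : Fin 4 → Bool) = fun _ => false by funext j; fin_cases j <;> rfl]
    simp [sgnE]
  · rw [sgnE_last, pj_negG]

end CfsgLib.Sporadic.MonsterFusion.TH
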