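import Cfsg.Agent.Lib.Sporadic.MonsterFusion.HeldLift
import Cfsg.Agent.Lib.Sporadic.MonsterFusion.THOrbit
import Cfsg.Agent.Lib.Sporadic.MonsterFusion.BabyData

/-!
Lifting the element of order three and its centraliser into the centraliser of the involution.
-/

set_option autoImplicit false
set_option maxRecDepth 20000

namespace CfsgLib.Sporadic.MonsterFusion.TH

open Cfsg CfsgLib.SmallGroups CfsgLib.SmallGroups.LeechGroup CfsgLib.ThreeTransp.Extraspecial
open Held (coprime_fix transport finite_Co1 card_M1 cong_symm co0_ext)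

theorem not_three_dvd_two_pow (n : ℕ) : ¬ 3 ∣ 2 ^ n := fun h => by
  have := Nat.prime_three.dvd_of_dvd_pow h
  norm_num at this

theorem fact3 : (Nat.card M1).factorization 3 = 3 := by
  have h := card_M1
  rw [show Nat.card M1 = 3 ^ 3 * 18570280960 by omega, Nat.factorization_mul (by norm_num) (by norm_num),
    Finsupp.add_apply, Nat.factorization_pow, Finsupp.smul_apply, Nat.prime_three.factorization_self,
    Nat.factorization_eq_zero_of_not_dvd (by norm_num)]
  rfl

theorem sg_pow : sg ^ 3 = 1 :=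
  congrArg Subtype.val (show permM sM ^ 3 = 1 by rw [← map_pow, sM_pow, map_one])

theorem pj_permM_ne {π : M24} (h : π ≠ 1) : pj ((permM π : monoSub) : Co0) ≠ 1 := fun h1 => by
  have h1' : permM π ∈ phi.ker := h1
  have h2 := (mem_phi_ker h1').1
  rw [permOf_permM] at h2
  exact h h2

theorem sM_ne : sM ≠ 1 := fun h => (by decide +kernel : ¬ ∀ p, M24Orbits.tblFun sigT p = p)
  fun p => congrArg (fun x : M24 => (x : Equiv.Perm GolayPt) p) h

theorem pj_sg : orderOf (pj sg) = 3 := by
  have : Fact (Nat.Prime 3) := ⟨Nat.prime_three⟩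
  exact orderOf_eq_prime (by rw [← map_pow, sg_pow, map_one]) (pj_permM_ne sM_ne)

/-! ### Elements of order three of the cross stabiliser -/

/-- The position of the inverse in the list. -/
def invI (i : Fin 27) : Fin 27 :=
  Fin.ofNat 27 ((sylT.findIdx? fun l =>
    (List.range 24).all fun p => l.getD ((sylT.getD (i : ℕ) []).getD p 0) 0 == p).getD 0)

/-- An element of the Sylow subgroup. -/
def sylM (i : Fin 27) : M24 :=
  ⟨⟨M24Orbits.tblFun (sylT.getD i []), M24Orbits.tblFun (sylT.getD (invI i) []),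
    (by decide +kernel : ∀ (i : Fin 27) p,
      M24Orbits.tblFun (sylT.getD (invI i) []) (M24Orbits.tblFun (sylT.getD i []) p) = p) i,
    (by decide +kernel : ∀ (i : Fin 27) p,
      M24Orbits.tblFun (sylT.getD i []) (M24Orbits.tblFun (sylT.getD (invI i) []) p) = p) i⟩,
    M24Group.mem_M24_of_basis (f := M24Orbits.tblFun (sylT.getD i [])) (fun _ => rfl) (fun j hj =>
      (by decide +kernel : ∀ i : Fin 27, ∀ j < 12, Golay.isCW (Golay.mask fun p =>
        Golay.word (Golay.bas j) (M24Orbits.tblFun (sylT.getD i []) p)) = true) i j hj)⟩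

theorem sylM_mul : ∀ i j : Fin 27, ∃ k : Fin 27, ∀ p,
    M24Orbits.tblFun (sylT.getD i []) (M24Orbits.tblFun (sylT.getD j []) p) =
      M24Orbits.tblFun (sylT.getD k []) p := by
  decide +kernel

theorem sylM_zero : sylM 0 = 1 := Subtype.ext (Equiv.ext fun p =>
  (by decide +kernel : ∀ p, M24Orbits.tblFun (sylT.getD ((0 : Fin 27) : ℕ) []) p = p) p)

theorem sylM_inj : Function.Injective sylM := fun i j h => by
  refine (by decide +kernel : ∀ i j : Fin 27,
    (∀ p, M24Orbits.tblFun (sylT.getD i []) p = M24Orbits.tblFun (sylT.getD j []) p) → i = j) i j fun p => ?_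
  exact congrArg (fun x : M24 => (x : Equiv.Perm GolayPt) p) h

/-- The Sylow subgroup. -/
def syl : Subgroup M24 where
  carrier := Set.range sylM
  mul_mem' := by
    rintro _ _ ⟨i, rfl⟩ ⟨j, rfl⟩
    obtain ⟨k, hk⟩ := sylM_mul i j
    exact ⟨k, Subtype.ext (Equiv.ext fun p => (hk p).symm)⟩
  one_mem' := ⟨0, sylM_zero⟩
  inv_mem' := by
    rintro _ ⟨i, rfl⟩
    refine ⟨invI i, eq_inv_of_mul_eq_one_left (Subtype.ext (Equiv.ext fun p => ?_))⟩
    exact (sylM i : Equiv.Perm GolayPt).symm_apply_apply p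

theorem syl_card : Nat.card syl = 27 := by
  rw [show Nat.card syl = Nat.card (Set.range sylM) from rfl, Nat.card_range_of_injective sylM_inj]
  simp

/-- A conjugating element. -/
def sylX (i : Fin 27) : M24 :=
  ⟨⟨M24Orbits.tblFun (sylC.getD i []), M24Orbits.tblFun (sylCI.getD i []),
    (by decide +kernel : ∀ (i : Fin 27) p,
      M24Orbits.tblFun (sylCI.getD i []) (M24Orbits.tblFun (sylC.getD i []) p) = p) i,
    (by decide +kernel : ∀ (i : Fin 27) p,
      M24Orbits.tblFun (sylC.getD i []) (M24Orbits.tblFun (sylCI.getD i []) p) = p) i⟩,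
    M24Group.mem_M24_of_basis (f := M24Orbits.tblFun (sylC.getD i [])) (fun _ => rfl) (fun j hj =>
      (by decide +kernel : ∀ i : Fin 27, ∀ j < 12, Golay.isCW (Golay.mask fun p =>
        Golay.word (Golay.bas j) (M24Orbits.tblFun (sylC.getD i []) p)) = true) i j hj)⟩

theorem syl_classes : ∀ i : Fin 27, (∀ j : Fin 27, ∀ p,
      M24Orbits.tblFun (sylT.getD i []) (M24Orbits.tblFun (sylT.getD j []) p) =
        M24Orbits.tblFun (sylT.getD j []) (M24Orbits.tblFun (sylT.getD i []) p)) ∨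
    (∀ p, M24Orbits.tblFun (sylC.getD i []) (M24Orbits.tblFun sigT p) =
        M24Orbits.tblFun (sylT.getD i []) (M24Orbits.tblFun (sylC.getD i []) p)) ∨
    ∃ c : Fin 27, (∀ j : Fin 27, ∀ p,
      M24Orbits.tblFun (sylT.getD c []) (M24Orbits.tblFun (sylT.getD j []) p) =
        M24Orbits.tblFun (sylT.getD j []) (M24Orbits.tblFun (sylT.getD c []) p)) ∧
      ∀ p, M24Orbits.tblFun (sylC.getD i []) (M24Orbits.tblFun (sylT.getD c []) p) =
        M24Orbits.tblFun (sylT.getD i []) (M24Orbits.tblFun (sylC.getD i []) p) := by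
  decide +kernel

/-- An element of order three of the Sylow subgroup is conjugate to ours or centralised by a conjugate
of the subgroup. -/
theorem syl_cases {π : M24} (hπ : π ∈ syl) : (∃ h : M24, π = h * sM * h⁻¹) ∨
    ∃ h : M24, h⁻¹ * π * h ∈ syl ∧ ∀ y ∈ syl, Commute (h⁻¹ * π * h) y := by
  obtain ⟨i, rfl⟩ := hπ
  rcases syl_classes i with hc | hc | ⟨c, hc, hx⟩
  · refine Or.inr ⟨1, by simp only [inv_one, one_mul, mul_one]; exact ⟨i, rfl⟩, ?_⟩
    rintro _ ⟨j, rfl⟩
    simp only [inv_one, one_mul, mul_one]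
    exact Subtype.ext (Equiv.ext (hc j))
  · exact Or.inl ⟨sylX i, eq_mul_inv_of_mul_eq (Subtype.ext (Equiv.ext fun p => (hc p).symm))⟩
  · have he : (sylX i)⁻¹ * sylM i * sylX i = sylM c := by
      rw [mul_assoc, inv_mul_eq_iff_eq_mul]
      exact Subtype.ext (Equiv.ext fun p => (hx p).symm)
    refine Or.inr ⟨sylX i, he ▸ ⟨c, rfl⟩, ?_⟩
    rintro _ ⟨j, rfl⟩
    rw [he]
    exact Subtype.ext (Equiv.ext (hc j))

/-- The image of a permutation in the cross stabiliser. -/
noncomputable def up : M24 →* M1 := ((phi.comp permM).codRestrict M1) fun π => ⟨permM π, rfl⟩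

theorem up_inj : Function.Injective up := (injective_iff_map_eq_one _).2 fun π h => by
  by_contra hne
  exact pj_permM_ne hne (congrArg Subtype.val h)

/-- An element of order three of the cross stabiliser is conjugate to ours or centralised by a Sylow
subgroup containing it. -/
theorem m1_cases {x : M1} (h3 : orderOf x = 3) :
    (∃ m : monoSub, (x : Spor.Co1) = pj (m : Co0) * pj sg * (pj (m : Co0))⁻¹) ∨
      ∃ P : Subgroup M1, Nat.card P = 27 ∧ x ∈ P ∧ ∀ y ∈ P, Commute x y := by
  classical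
  have := finite_Co1
  have : Fact (Nat.Prime 3) := ⟨Nat.prime_three⟩
  have hc : Nat.card (syl.map up) = 3 ^ (Nat.card M1).factorization 3 := by
    rw [Subgroup.card_map_of_injective up_inj, syl_card, fact3]
    norm_num
  let P := Sylow.ofCard _ hc
  have hxp : IsPGroup 3 (Subgroup.zpowers x) :=
    IsPGroup.of_card (n := 1) (by rw [Nat.card_zpowers, h3, pow_one])
  obtain ⟨R, hR⟩ := hxp.exists_le_sylow
  obtain ⟨g, hg⟩ := MulAction.exists_smul_eq M1 P R
  have hxR : x ∈ (R : Subgroup M1) := hR (Subgroup.mem_zpowers x)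
  rw [← hg, Sylow.coe_subgroup_smul] at hxR
  obtain ⟨y, hy, hyx⟩ := hxR
  obtain ⟨π, hπ, rfl⟩ := hy
  replace hyx : g * up π * g⁻¹ = x := hyx
  rcases syl_cases hπ with ⟨h, rfl⟩ | ⟨h, hmem, hcom⟩
  · left
    obtain ⟨m, hm⟩ := (g * up h).2
    refine ⟨m, ?_⟩
    rw [← hyx, show pj (m : Co0) = ((g * up h : M1) : Spor.Co1) from hm]
    simp only [map_mul, map_inv, Subgroup.coe_mul, Subgroup.coe_inv]
    rw [show ((up sM : M1) : Spor.Co1) = pj sg from rfl]
    group
  · right
    set c := MulAut.conj (g * up h) with hc'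
    have hxe : c (up (h⁻¹ * π * h)) = x := by
      rw [← hyx, hc', MulAut.conj_apply, map_mul, map_mul, map_inv]
      group
    refine ⟨(syl.map up).map c.toMonoidHom, ?_, ⟨_, ⟨_, hmem, rfl⟩, hxe⟩, ?_⟩
    · rw [Subgroup.card_map_of_injective c.injective, Subgroup.card_map_of_injective up_inj, syl_card]
    · rintro _ ⟨_, ⟨y, hy, rfl⟩, rfl⟩
      rw [← hxe]
      exact ((hcom y hy).map up).map c

variable {G : Type*} [Group G] [Finite G] {z : G} {Q : Subgroup (Subgroup.centralizer ({z} : Set G))}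
  [Q.Normal] {e : (Subgroup.centralizer ({z} : Set G)) ⧸ Q ≃* Spor.Co1}
  {ψ : leechLattice → Q ⧸ Subgroup.center Q}

/-- A generator of the subgroup of order three and an identification in which it is the standard
element. -/
theorem setup (F : Frame Q e ψ) {s : G} (hsC : s ∈ Subgroup.centralizer ({z} : Set G))
    (hsQ : (⟨s, hsC⟩ : Subgroup.centralizer ({z} : Set G)) ∈ Q) (hs : IsConj z s) (hs1 : s ≠ z)
    (Y : Subgroup G) (hY : Y ≤ Subgroup.centralizer ({z, s} : Set G)) (hY3 : Nat.card Y = 3)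
    (hnc : ∀ P : Sylow 3 ↥(Subgroup.centralizer ({z, s} : Set G)),
      ¬ Y.subgroupOf (Subgroup.centralizer ({z, s} : Set G)) ≤
        (Subgroup.center ↥(P : Subgroup ↥(Subgroup.centralizer ({z, s} : Set G)))).map
          (P : Subgroup ↥(Subgroup.centralizer ({z, s} : Set G))).subtype) :
    ∃ (b : Subgroup.centralizer ({z} : Set G))
      (e' : (Subgroup.centralizer ({z} : Set G)) ⧸ Q ≃* Spor.Co1)
      (ψ' : leechLattice → Q ⧸ Subgroup.center Q),
      Y = Subgroup.zpowers (b : G) ∧ orderOf (b : G) = 3 ∧ Frame Q e' ψ' ∧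
        e' (QuotientGroup.mk b) = pj sg := by
  classical
  have : Fact (Nat.Prime 3) := ⟨Nat.prime_three⟩
  have : Fact (Nat.Prime 2) := ⟨Nat.prime_two⟩
  obtain ⟨g, hg⟩ := isConj_iff.1 hs
  have := finite_Co1
  obtain ⟨k, hX, -⟩ := F.exists_cross (u := ⟨_, hsQ⟩) hg (hg ▸ hs1)
  set c := MulAut.conj (pj k) with hc
  set K := Subgroup.centralizer ({z, s} : Set G) with hK
  have hLle : K ≤ Subgroup.centralizer ({z} : Set G) :=
    Subgroup.centralizer_le (Set.singleton_subset_iff.2 (Set.mem_insert _ _))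
  have hsmul : ∀ h : K, Subgroup.inclusion hLle h * ⟨s, hsC⟩ = ⟨s, hsC⟩ * Subgroup.inclusion hLle h := fun h =>
    Subtype.ext (Subgroup.mem_centralizer_iff.1 h.2 s (Or.inr rfl)).symm
  have hphi : ∀ h : K, c.symm (e (QuotientGroup.mk (Subgroup.inclusion hLle h))) ∈ M1 := fun h => by
    obtain ⟨x, hx, hxe⟩ := (hX (e (QuotientGroup.mk (Subgroup.inclusion hLle h)))).1 ⟨_, rfl, hsmul h⟩
    rw [← hxe]
    simpa [hc, mul_assoc] using hx
  set f : K →* M1 := MonoidHom.mk' (fun h => ⟨c.symm (e (QuotientGroup.mk (Subgroup.inclusion hLle h))), hphi h⟩)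
    (fun a b => Subtype.ext (by simp only [map_mul, QuotientGroup.mk_mul, Subgroup.coe_mul])) with hf
  have hfsurj : Function.Surjective f := by
    intro x
    obtain ⟨h, he, hh⟩ := (hX (c x)).2 ⟨x, x.2, rfl⟩
    have hK' : (h : G) ∈ K := Subgroup.mem_centralizer_iff.2 (by
      rintro _ (rfl | rfl)
      · exact (Subgroup.mem_centralizer_singleton_iff.1 h.2).symm
      · exact (congrArg Subtype.val hh).symm)
    refine ⟨⟨h, hK'⟩, Subtype.ext ?_⟩
    show c.symm (e (QuotientGroup.mk h)) = x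
    rw [he, MulEquiv.symm_apply_apply]
  have hker : IsPGroup 2 f.ker := by
    have hkQ : f.ker.map (Subgroup.inclusion hLle) ≤ Q := by
      rintro _ ⟨h, hh, rfl⟩
      refine (QuotientGroup.eq_one_iff _).1 (e.injective (c.symm.injective ?_))
      rw [map_one, map_one]
      exact congrArg Subtype.val hh
    exact (F.extra.isPGroup.to_le hkQ).of_equiv
      (Subgroup.equivMapOfInjective _ _ (Subgroup.inclusion_injective hLle)).symm
  have hinj3 : ∀ h ∈ f.ker, orderOf h ∣ 27 → h = 1 := by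
    intro h hh hd
    obtain ⟨j, hj⟩ := hker ⟨h, hh⟩
    have hj' : h ^ 2 ^ j = 1 := congrArg Subtype.val hj
    have h1 := Nat.dvd_gcd (orderOf_dvd_of_pow_eq_one hj') hd
    rw [show Nat.gcd (2 ^ j) 27 = 1 from ((by norm_num : Nat.Coprime 2 27).pow_left j), Nat.dvd_one] at h1
    exact orderOf_eq_one_iff.1 h1
  have hcardK : Nat.card K = Nat.card f.ker * Nat.card M1 := by
    rw [mul_comm, Subgroup.card_eq_card_quotient_mul_card_subgroup f.ker,
      Nat.card_congr (QuotientGroup.quotientKerEquivOfSurjective f hfsurj).toEquiv]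
  obtain ⟨n2, hn2⟩ := IsPGroup.iff_card.1 hker
  have hfK : (Nat.card K).factorization 3 = 3 := by
    rw [hcardK, hn2, Nat.factorization_mul (by positivity) Nat.card_pos.ne', Finsupp.add_apply,
      Nat.factorization_eq_zero_of_not_dvd (not_three_dvd_two_pow n2), zero_add, fact3]
  obtain ⟨⟨b0, hb0⟩, hb03⟩ := exists_prime_orderOf_dvd_card' (G := Y) 3 (dvd_of_eq hY3.symm)
  rw [Subgroup.orderOf_mk] at hb03
  set y : K := ⟨b0, hY hb0⟩ with hy
  have hy3 : orderOf y = 3 := by rw [hy, Subgroup.orderOf_mk, hb03]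
  have hgen : Y = Subgroup.zpowers b0 := (Subgroup.eq_of_le_of_card_ge (Subgroup.zpowers_le.2 hb0)
    (by rw [Nat.card_zpowers, hb03, hY3])).symm
  have hfy : orderOf (f y) = 3 := by
    refine orderOf_eq_prime (by rw [← map_pow, ← hy3, pow_orderOf_eq_one, map_one]) fun h1 => ?_
    rw [hinj3 y h1 (by rw [hy3]; norm_num), orderOf_one] at hy3
    omega
  rcases m1_cases hfy with ⟨m, hm⟩ | ⟨P, hP, hxP, hcom⟩
  · refine ⟨Subgroup.inclusion hLle y, _, _, hgen, hb03, transport F (k * m), ?_⟩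
    show (MulAut.conj (pj (k * (m : Co0)))).symm (e (QuotientGroup.mk (Subgroup.inclusion hLle y))) = _
    have h1 : c.symm (e (QuotientGroup.mk (Subgroup.inclusion hLle y))) =
        pj (m : Co0) * pj sg * (pj (m : Co0))⁻¹ := hm
    rw [MulEquiv.symm_apply_eq] at h1
    rw [h1, MulAut.conj_symm_apply, map_mul, hc, MulAut.conj_apply]
    group
  · exfalso
    set H := P.comap f
    have hyH : y ∈ H := hxP
    have hYp : IsPGroup 3 (Subgroup.zpowers (⟨y, hyH⟩ : H)) :=
      IsPGroup.of_card (n := 1) (by rw [Nat.card_zpowers, Subgroup.orderOf_mk, hy3, pow_one])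
    obtain ⟨R, hR⟩ := hYp.exists_le_sylow
    have hHcard : Nat.card H = Nat.card f.ker * 27 := by
      have h1 := Subgroup.card_eq_card_quotient_mul_card_subgroup (f.ker.subgroupOf H)
      rw [Nat.card_congr (Subgroup.subgroupOfEquivOfLe
        (show f.ker ≤ H from f.ker_le_comap P)).toEquiv] at h1
      rw [h1, mul_comm]
      congr 1
      let f' : H →* P := (f.comp H.subtype).codRestrict P fun h => h.2
      have hk' : f.ker.subgroupOf H = f'.ker := by
        ext h
        rw [Subgroup.mem_subgroupOf, MonoidHom.mem_ker, MonoidHom.mem_ker]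
        exact ⟨fun h1 => Subtype.ext h1, fun h1 => congrArg Subtype.val h1⟩
      rw [hk', Nat.card_congr (QuotientGroup.quotientKerEquivOfSurjective f' (fun p => by
        obtain ⟨h, hh⟩ := hfsurj p
        exact ⟨⟨h, show f h ∈ P from hh ▸ p.2⟩, Subtype.ext hh⟩)).toEquiv, hP]
    have hRcard : Nat.card R = 3 ^ (Nat.card K).factorization 3 := by
      rw [R.card_eq_multiplicity, hHcard, hfK, hn2, Nat.factorization_mul (by positivity) (by norm_num),
        Finsupp.add_apply, Nat.factorization_eq_zero_of_not_dvd (not_three_dvd_two_pow n2), zero_add,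
        show (27 : ℕ) = 3 ^ 3 by norm_num, Nat.factorization_pow, Finsupp.smul_apply,
        Nat.prime_three.factorization_self]
      rfl
    have hRK : Nat.card ((R : Subgroup H).map H.subtype) = 3 ^ (Nat.card K).factorization 3 := by
      rw [Subgroup.card_map_of_injective H.subtype_injective]
      exact hRcard
    let PK := Sylow.ofCard _ hRK
    refine hnc PK fun w hw => ?_
    have hyR : y ∈ (R : Subgroup H).map H.subtype := ⟨⟨y, hyH⟩, hR (Subgroup.mem_zpowers _), rfl⟩
    have hcen : (⟨y, hyR⟩ : (R : Subgroup H).map H.subtype) ∈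
        Subgroup.center ((R : Subgroup H).map H.subtype) := by
      refine Subgroup.mem_center_iff.2 fun r => Subtype.ext ?_
      obtain ⟨r', hr', hre⟩ := r.2
      have hd : orderOf (((r : K) * y)⁻¹ * (y * (r : K))) ∣ 27 := by
        have hmem : ((r : K) * y)⁻¹ * (y * (r : K)) ∈ (R : Subgroup H).map H.subtype :=
          mul_mem (inv_mem (mul_mem r.2 hyR)) (mul_mem hyR r.2)
        rw [← Subgroup.orderOf_mk _ hmem]
        refine (orderOf_dvd_natCard _).trans ?_
        rw [hRK, hfK]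
        norm_num
      have hrP : f (r : K) ∈ P := by
        rw [← hre]
        exact r'.2
      show (r : K) * y = y * (r : K)
      exact inv_mul_eq_one.1 (hinj3 _ (by
        rw [MonoidHom.mem_ker, map_mul, map_inv, map_mul, map_mul, (hcom _ hrP).eq, inv_mul_cancel]) hd)
    have hwy : w ∈ Subgroup.zpowers y := by
      have h1 : (w : G) ∈ Y := hw
      rw [hgen] at h1
      obtain ⟨i, hi⟩ := Subgroup.mem_zpowers_iff.1 h1
      exact Subgroup.mem_zpowers_iff.2 ⟨i, Subtype.ext (by rw [SubgroupClass.coe_zpow]; exact hi)⟩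
    exact (Subgroup.zpowers_le (H := (Subgroup.center ↥((R : Subgroup H).map H.subtype)).map
      ((R : Subgroup H).map H.subtype).subtype)).2 ⟨⟨y, hyR⟩, hcen, rfl⟩ hwy

namespace Frame3

variable {b : Subgroup.centralizer ({z} : Set G)}

theorem b_pow (hb3 : orderOf (b : G) = 3) : b ^ 3 = 1 := by
  rw [← hb3, Subgroup.orderOf_coe, pow_orderOf_eq_one]

/-- An element of `Q` over a fixed class commutes with `b`. -/
theorem rep_commute (F : Frame Q e ψ) (hb3 : orderOf (b : G) = 3) (hb : e (QuotientGroup.mk b) = pj sg)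
    {v : leechLattice} (hv : Cong (sg • v) v) {q : Q} (hq : Rep ψ v q) :
    Commute b (q : Subgroup.centralizer ({z} : Set G)) := by
  have h := F.rep_unique hq ((F.psi_eq_iff.2 (cong_symm hv)).trans (F.rep_smul hb.symm hq))
  rcases h with r | r
  · exact mul_inv_eq_iff_eq_mul.1 r
  · simp only at r
    have hbz : b * zC z * b⁻¹ = zC z := by
      refine Subtype.ext ?_
      show (b : G) * z * (b : G)⁻¹ = z
      rw [Subgroup.mem_centralizer_singleton_iff.1 b.2, mul_inv_cancel_right]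
    have h2 : (b * b) * (q : Subgroup.centralizer ({z} : Set G)) * (b * b)⁻¹ = q := by
      calc _ = b * (b * q * b⁻¹) * b⁻¹ := by group
        _ = b * (q * zC z) * b⁻¹ := by rw [r]
        _ = b * q * b⁻¹ * (b * zC z * b⁻¹) := by group
        _ = q := by rw [r, hbz, mul_assoc, F.extra.z_sq, mul_one]
    have h3 : Commute (b * b) (q : Subgroup.centralizer ({z} : Set G)) := mul_inv_eq_iff_eq_mul.1 h2
    have h4 := h3.pow_left 2
    rwa [← sq, ← pow_mul, show 2 * 2 = 3 + 1 from rfl, pow_add, b_pow hb3, one_mul, pow_one] at h4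

/-- The classes of elements of `Q` commuting with `b`. -/
theorem exists_kap (F : Frame Q e ψ) (hb : e (QuotientGroup.mk b) = pj sg)
    {q : Q} (hq : Commute b (q : Subgroup.centralizer ({z} : Set G))) :
    ∃ n, Rep ψ (kap n) q := by
  obtain ⟨v, hv⟩ := F.exists_vec q
  have h1 : Cong (sg • v) v := by
    refine F.psi_eq_iff.1 (((F.rep_smul hb.symm hv).trans ?_).trans hv.symm)
    exact congrArg _ (Subtype.ext (show b * q * b⁻¹ = q by rw [hq.eq, mul_inv_cancel_right]))
  have hn : ∀ i : ℕ, ψ (sg ^ i • v) = ψ v := by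
    intro i
    induction i with
    | zero => rw [pow_zero, one_smul]
    | succ i ih =>
      rw [pow_succ, mul_smul, ← ih]
      exact F.psi_eq_iff.2 (cong_smul _ h1)
  let φ : leechLattice →+ leechLattice := AddMonoidHom.mk' (sg : Equiv.Perm leechLattice) sg.2.1
  set v' := ∑ i ∈ Finset.range 3, sg ^ i • v with hv'
  have hfix : sg • v' = v' := by
    have e0 : sg • v' = ∑ i ∈ Finset.range 3, sg ^ (i + 1) • v := by
      show φ v' = _
      rw [hv', map_sum]
      exact Finset.sum_congr rfl fun i _ => by rw [pow_succ', mul_smul]; rfl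
    have h8 := Finset.sum_range_succ' (fun i => sg ^ i • v) 3
    rw [Finset.sum_range_succ] at h8
    simp only [sg_pow, pow_zero] at h8
    rw [e0, hv']
    exact (add_right_cancel h8).symm
  have hψ : ψ v' = ψ v := by
    have hsum : ∀ k, ψ (∑ i ∈ Finset.range k, sg ^ i • v) = ψ v ^ k := by
      intro k
      induction k with
      | zero => rw [Finset.sum_range_zero, pow_zero, (F.iso.2.2.1 0).2 ⟨0, by simp⟩]
      | succ k ih => rw [Finset.sum_range_succ, F.iso.1, ih, hn, pow_succ]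
    rw [hv', hsum]
    have h2 : ψ v * ψ v = 1 := by rw [← F.iso.1, (F.iso.2.2.1 _).2 ⟨v, rfl⟩]
    rw [show 3 = 2 + 1 from rfl, pow_succ, pow_two, h2, one_mul]
  obtain ⟨n, hn'⟩ := span v' hfix
  exact ⟨n, ((F.psi_eq_iff.2 hn').symm.trans hψ).trans hv⟩

/-- An element commuting with ours lifts to one commuting with `b`. -/
theorem lift (F : Frame Q e ψ) (hb3 : orderOf (b : G) = 3) (hb : e (QuotientGroup.mk b) = pj sg)
    {g : Co0} (hg : Commute g sg) : ∃ h : Subgroup.centralizer ({z} : Set G),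
      Commute b h ∧ e (QuotientGroup.mk h) = pj g := by
  have : Fact (Nat.Prime 3) := ⟨by norm_num⟩
  obtain ⟨h0, hh0⟩ := Frame.exists_lift (e := e) g
  have hmem : h0⁻¹ * b * h0 * b⁻¹ ∈ Q := by
    rw [← QuotientGroup.eq_one_iff, ← e.map_eq_one_iff]
    simp only [QuotientGroup.mk_mul, QuotientGroup.mk_inv, map_mul, map_inv, ← hh0, hb]
    have := hg.map pj
    rw [mul_assoc (pj g)⁻¹, ← this.eq, inv_mul_cancel_left, mul_inv_cancel]
  obtain ⟨a, ha, hc⟩ := coprime_fix (p := 3) (b_pow hb3)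
    (fun a ha => (inferInstance : Q.Normal).conj_mem a ha b) hmem
    (by rw [F.core.2.2.2.1]; exact not_three_dvd_two_pow _)
  refine ⟨h0 * a, hc, ?_⟩
  rw [QuotientGroup.mk_mul, (QuotientGroup.eq_one_iff a).2 ha, mul_one, hh0]

/-- The image of an element commuting with `b` commutes with ours. -/
theorem exists_pre (hb : e (QuotientGroup.mk b) = pj sg) {h : Subgroup.centralizer ({z} : Set G)}
    (hh : Commute b h) : ∃ g : Co0, Commute g sg ∧ pj g = e (QuotientGroup.mk h) := by
  obtain ⟨g, hg⟩ := QuotientGroup.mk_surjective (e (QuotientGroup.mk h))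
  refine ⟨g, ?_, hg⟩
  have h1 : Commute (pj sg) (pj g) := by
    rw [show pj g = e (QuotientGroup.mk h) from hg, ← hb]
    exact (hh.map (QuotientGroup.mk' Q)).map e
  have h2 : (g * sg) * (sg * g)⁻¹ ∈ Subgroup.center Co0 := by
    refine (QuotientGroup.eq_one_iff _).1 ?_
    show pj ((g * sg) * (sg * g)⁻¹) = 1
    rw [map_mul, map_inv, map_mul, map_mul, h1.eq, mul_inv_cancel]
  rcases center_cases' h2 with r | r
  · exact mul_inv_eq_one.1 r
  · exfalso
    have hneg : negG ≠ 1 := fun e0 => by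
      have := congrArg (fun x : Co0 => ((x • LeechOrder.base8 : leechLattice) : GolayPt → ℤ) none) e0
      simp only [negG_smul, one_smul, AddSubgroup.coe_neg, Pi.neg_apply, LeechOrder.coe_base8,
        Pi.single_eq_same] at this
      norm_num at this
    have hgs : g * sg * g⁻¹ = negG * sg := by
      rw [mul_inv_eq_iff_eq_mul] at r ⊢
      rw [r, mul_assoc]
    have h5 := congrArg (· ^ 3) hgs
    simp only [conj_pow, sg_pow, mul_one, mul_inv_cancel] at h5
    rw [(Subgroup.mem_center_iff.1 negG_central sg).symm |>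
      fun h : negG * sg = sg * negG => (show Commute negG sg from h).mul_pow, sg_pow, mul_one] at h5
    have hn2 : negG * negG = 1 := by
      refine co0_ext fun i => ?_
      rw [mul_smul, negG_smul, negG_smul, neg_neg, one_smul]
    rw [show 3 = 2 + 1 from rfl, pow_succ, pow_two, hn2, one_mul] at h5
    exact hneg h5.symm

/-- A class of squared length 64 commuting with `b` is conjugate to `z` by an element commuting
with `b`. -/
theorem conj_in (F : Frame Q e ψ) (hb3 : orderOf (b : G) = 3) {x : Q}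
    (hx : Commute b (x : Subgroup.centralizer ({z} : Set G))) (hcl : Cl ψ 64 x) :
    ∃ g : G, Commute (b : G) g ∧ g * z * g⁻¹ = ((x : Subgroup.centralizer ({z} : Set G)) : G) := by
  have : Fact (Nat.Prime 3) := ⟨by norm_num⟩
  have : Fact (Nat.Prime 2) := ⟨Nat.prime_two⟩
  have hb3' : (b : G) ^ 3 = 1 := congrArg Subtype.val (b_pow hb3)
  set xG : G := ((x : Subgroup.centralizer ({z} : Set G)) : G) with hxG
  set Q0 := Q.map (Subgroup.centralizer ({z} : Set G)).subtype with hQ0
  obtain ⟨hconj, hne⟩ := (F.conj_iff x).2 hcl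
  obtain ⟨g0, (hg0 : g0 * z * g0⁻¹ = xG)⟩ := isConj_iff.1 hconj
  have hbx : (b : G) * xG = xG * b := congrArg Subtype.val hx.eq
  have hbz : (b : G) * z = z * b := Subgroup.mem_centralizer_singleton_iff.1 b.2
  set Q' := Q0.map (MulAut.conj g0).toMonoidHom with hQ'
  have hE : Extra Q' xG := hg0 ▸ F.setting.ext.map_conj g0
  have hxQ0 : xG ∈ Q0 := ⟨x, x.2, rfl⟩
  have hzQ' : z ∈ Q' := mem_map_conj.2 (F.setting.symm (hg0 ▸ hxQ0) (hg0 ▸ hne))
  have hb' : ∀ y ∈ Q', (b : G) * y * (b : G)⁻¹ ∈ Q' := fun y hy =>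
    F.setting.conj_normal (by rw [hg0]; exact hbx) hy
  have hb0 : ∀ y ∈ Q0, (b : G) * y * (b : G)⁻¹ ∈ Q0 := by
    rintro _ ⟨y, hy, rfl⟩
    exact ⟨b * y * b⁻¹, (inferInstance : Q.Normal).conj_mem y hy b, rfl⟩
  have key : ∀ (H : Subgroup G) (c u : G), Extra H c → u ∈ H → u ≠ 1 → u ≠ c →
      (∀ y ∈ H, (b : G) * y * (b : G)⁻¹ ∈ H) → (b : G) * u = u * b → (b : G) * c = c * b →
      ∃ q : G, Commute (b : G) q ∧ q * u * q⁻¹ = u * c := by
    intro H c u hH hu hu1 huc hbH hbu hbc
    obtain ⟨q, hq, hqu⟩ := hH.exists_conj_eq hu hu1 huc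
    set A := H ⊓ Subgroup.centralizer ({u} : Set G) with hA
    obtain ⟨k, hk⟩ := IsPGroup.iff_card.1 (hH.isPGroup.to_le (inf_le_left : A ≤ H))
    have hbu' : (b : G) * u * (b : G)⁻¹ = u := by rw [hbu, mul_inv_cancel_right]
    have hbc' : (b : G) * c * (b : G)⁻¹ = c := by rw [hbc, mul_inv_cancel_right]
    have hq' : q⁻¹ * (b : G) * q * (b : G)⁻¹ ∈ A := by
      refine ⟨by simpa [mul_assoc] using mul_mem (inv_mem hq) (hbH q hq),
        Subgroup.mem_centralizer_singleton_iff.2 (mul_inv_eq_iff_eq_mul.1 ?_)⟩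
      calc q⁻¹ * (b : G) * q * (b : G)⁻¹ * u * (q⁻¹ * (b : G) * q * (b : G)⁻¹)⁻¹
          = q⁻¹ * ((b : G) * (q * ((b : G)⁻¹ * u * b) * q⁻¹) * (b : G)⁻¹) * q := by group
        _ = q⁻¹ * ((b : G) * (q * u * q⁻¹) * (b : G)⁻¹) * q := by
          rw [mul_assoc _ u, ← hbu, inv_mul_cancel_left]
        _ = q⁻¹ * (u * c) * q := by rw [hqu, ← conj_mul, hbu', hbc']
        _ = u := by rw [← hqu]; group
    obtain ⟨a, ha, hc⟩ := coprime_fix (p := 3) (A := A) hb3' (fun y hy => ⟨hbH y hy.1,
      Subgroup.mem_centralizer_singleton_iff.2 (mul_inv_eq_iff_eq_mul.1 (by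
        calc (b : G) * y * (b : G)⁻¹ * u * ((b : G) * y * (b : G)⁻¹)⁻¹
            = (b : G) * (y * ((b : G)⁻¹ * u * b) * y⁻¹) * (b : G)⁻¹ := by group
          _ = (b : G) * (y * u * y⁻¹) * (b : G)⁻¹ := by rw [mul_assoc _ u, ← hbu, inv_mul_cancel_left]
          _ = u := by rw [Subgroup.mem_centralizer_singleton_iff.1 hy.2, mul_inv_cancel_right, hbu']))⟩)
      hq' (hk ▸ not_three_dvd_two_pow k)
    refine ⟨q * a, hc, ?_⟩
    calc q * a * u * (q * a)⁻¹ = q * (a * u * a⁻¹) * q⁻¹ := by group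
      _ = u * c := by
        rw [Subgroup.mem_centralizer_singleton_iff.1 ha.2, mul_inv_cancel_right, hqu]
  obtain ⟨p, hpc, hp⟩ := key Q' xG z hE hzQ' F.setting.ext.z_ne hne.symm hb' hbz hbx
  obtain ⟨q, hqc, hq⟩ := key Q0 z xG F.setting.ext hxQ0
    (fun h => (F.rep_ne (Or.inr rfl) hcl).1 (Subtype.ext h)) hne hb0 hbx hbz
  refine ⟨q⁻¹ * p, hqc.inv_right.mul_right hpc, ?_⟩
  calc q⁻¹ * p * z * (q⁻¹ * p)⁻¹ = q⁻¹ * (p * z * p⁻¹) * q := by group
    _ = q⁻¹ * (xG * z) * q := by rw [hp, F.setting.ext.z_comm hxQ0]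
    _ = xG := by rw [← hq]; group

end Frame3

end CfsgLib.Sporadic.MonsterFusion.TH
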